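import Cfsg.Agent.Lib.Goldschmidt.Rank2.Bad
import Cfsg.Agent.Lib.Goldschmidt.RankOne.Main
import Cfsg.Agent.Lib.Walter.Main
import Cfsg.Agent.Lib.Walter.Consumers.Defs
import Cfsg.Agent.Lib.Invol.AltEightSubgroups
import Mathlib.FieldTheory.Finite.GaloisField

/-!
# Rank two: the groups of the list with four elements of order at most two in a Sylow subgroup

Either the involution centralizers have no core and no odd automorphism, or the Sylow subgroup is a four group
and the order does not divide `60480`.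
-/

set_option autoImplicit false
set_option linter.style.haveILetI false

namespace CfsgLib.Gold.Rank2

open Subgroup
open CfsgLib.Walter (CentForm)

universe u

variable {Y : Type u} [Group Y] [Finite Y]

/-- `PSL(2, 4)` is harmless. -/
theorem modelOK_of_four (hs : IsSimpleGroup Y) {F : Type} [Field F] [Fintype F] (hF : Fintype.card F = 2 ^ 2)
    (e : Y ≃* Matrix.ProjectiveSpecialLinearGroup (Fin 2) F) (Q : Sylow 2 Y) : ModelOK (Q : Subgroup Y) := by
  haveI := Fact.mk Nat.prime_two
  haveI : CharP F 2 := charP_of_card_eq_prime_pow hF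
  obtain ⟨e', he'⟩ := CfsgLib.Walter.Rank.Factor.exists_even_iso e Q
  intro v hv hv2
  have hv1 : e' v ≠ 1 := fun h =>
    CfsgLib.Invol.invol_ne_one hv2 (e'.injective (h.trans (map_one e').symm))
  have hle : ∀ x ∈ centralizer ({v} : Set Y), x ∈ (Q : Subgroup Y) := fun x hx => (he' x).1
    (CfsgLib.Walter.Rank.Factor.centralizer_le_rootU ((he' v).2 hv) hv1 (mem_centralizer_singleton_iff.2
      (by rw [← map_mul, ← map_mul, mem_centralizer_singleton_iff.1 hx])))
  refine ⟨?_, fun α hodd hfix => ?_⟩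
  · refine (eq_bot_iff_forall _).2 fun x hx => ?_
    have hc := CfsgLib.Coprime.pPrimeCore_coprime (G := centralizer ({v} : Set Y)) Nat.prime_two
    obtain ⟨k, hk⟩ := Q.2 ⟨(x : Y), hle x x.2⟩
    refine CfsgLib.Invol.eq_one_of_odd_of_pow_two (k := k)
      (Nat.Coprime.odd_of_right (hc.coprime_dvd_left (Subgroup.orderOf_dvd_natCard _ hx))) (Subtype.ext ?_)
    simpa using congrArg Subtype.val hk
  · have hQ : ∀ x ∈ (Q : Subgroup Y), α x = x := fun x hx => hfix x <| mem_centralizer_singleton_iff.2 <| by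
      obtain ⟨s, hs'⟩ := CfsgLib.EqualOrder2.mem_rootU.1 ((he' x).2 hx)
      obtain ⟨t, ht⟩ := CfsgLib.EqualOrder2.mem_rootU.1 ((he' v).2 hv)
      refine e'.injective ?_
      rw [map_mul, map_mul, ← hs', ← ht, ← map_mul, ← map_mul, CfsgLib.MinNonCA.uT_mul, CfsgLib.MinNonCA.uT_mul,
        add_comm]
    have hb : ∀ u ∈ (CfsgLib.EqualOrder2.rootU : Subgroup (Matrix.ProjectiveSpecialLinearGroup (Fin 2) F)),
        MulAut.congr e' α u = u := by
      intro u hu
      obtain ⟨x, rfl⟩ := e'.surjective u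
      show e' (α (e'.symm (e' x))) = e' x
      rw [MulEquiv.symm_apply_apply, hQ x ((he' x).1 hu)]
    have h2 : α * α = 1 := (MulAut.congr e').injective (by
      rw [map_mul, map_one]; exact CfsgLib.Walter.Rank.Factor.aut_sq_of_fix _ hb)
    exact CfsgLib.Invol.eq_one_of_odd_of_pow_two (k := 1) hodd (by rw [pow_one, pow_two, h2])

/-- A simple group of order `60` is harmless. -/
theorem modelOK_of_sixty (hs : IsSimpleGroup Y) (hna : ¬ IsMulCommutative Y) (h : Nat.card Y = 60)
    (Q : Sylow 2 Y) : ModelOK (Q : Subgroup Y) := by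
  haveI := hs
  let F := GaloisField 2 2
  haveI := Fintype.ofFinite F
  have hF : Fintype.card F = 2 ^ 2 := by
    rw [← Nat.card_eq_fintype_card]; exact GaloisField.card 2 2 two_ne_zero
  obtain ⟨hFs, hFn⟩ := CfsgLib.Perm.Dickson.psl_simple_noncomm (F := F) (by
    rw [Nat.card_eq_fintype_card, hF]; norm_num)
  haveI := hFs
  have hF60 : Nat.card (Matrix.ProjectiveSpecialLinearGroup (Fin 2) F) = 60 := by
    have h1 := CfsgLib.Classical.card_psl2 (F := F)
    rw [hF] at h1
    simpa using h1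
  have hsol : ∀ (X : Type u) [Group X], IsSimpleGroup X → ¬ IsMulCommutative X → ¬ Group.IsSolvable X :=
    fun X _ hX hn hX' => by
      haveI := hX
      exact hn (isMulCommutative_iff.2 (IsSimpleGroup.comm_iff_isSolvable.2 hX'))
  have hsol' : ¬ Group.IsSolvable (Matrix.ProjectiveSpecialLinearGroup (Fin 2) F) := fun hX =>
    hFn (isMulCommutative_iff.2 (IsSimpleGroup.comm_iff_isSolvable.2 hX))
  obtain ⟨e₁⟩ := CfsgLib.Invol.AltEightSubgroups.alt_five_of_card_sixty (hsol Y hs hna) h
  obtain ⟨e₂⟩ := CfsgLib.Invol.AltEightSubgroups.alt_five_of_card_sixty hsol' hF60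
  exact modelOK_of_four hs hF (e₁.trans e₂.symm) Q

/-- The obligation on the small models. -/
theorem smallModelStmt : SmallModelStmt.{u} := by
  intro Y _ _ hs hna hf Q h4
  haveI := Fact.mk Nat.prime_two
  by_cases hQ : IsMulCommutative (Q : Subgroup Y)
  swap
  · refine Or.inl ?_
    have hi : IsoFamilies Y := hf.resolve_left fun hc =>
      hQ (CfsgLib.Walter.Rank.sylow_isElementary hs hc Q).1
    have hR := Phi.rankOneFacts Y hs hi Q hQ
    exact fun v hv hv2 => ⟨hR.core v hv hv2, fun α hodd hfix => hR.odd_aut α hodd fun t ht =>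
      hfix t (mem_centralizer_singleton_iff.2 (hR.central v hv (CfsgLib.Invol.invol_mul_self hv2) t ht).eq.symm)⟩
  have hc := CfsgLib.Walter.classified Y hs hna (CfsgLib.Walter.abTwo_of_sylow Q hQ)
  obtain ⟨-, hsq⟩ := CfsgLib.Walter.Rank.sylow_elementary hs hc Q
  have hQ4 : Nat.card (Q : Subgroup Y) = 4 := by
    rw [← h4]
    exact Nat.card_congr (Equiv.subtypeEquivRight fun x => ⟨fun hx => ⟨hx, hsq x hx⟩, fun hx => hx.1⟩)
  rcases hc with ⟨F, iF, iF', hq, ⟨e⟩⟩ | ⟨h8, -⟩
  swap
  · have := (h8 Q).1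
    omega
  have hcard : Nat.gcd 2 (Fintype.card F - 1) * Nat.card Y =
      Fintype.card F * ((Fintype.card F - 1) * (Fintype.card F + 1)) := by
    rw [Nat.card_congr e.toEquiv]; exact CfsgLib.Classical.card_psl2
  rcases hq with ⟨n, hn2, hn⟩ | ⟨h5, h8'⟩
  · -- `q = 4`
    haveI : CharP F 2 := charP_of_card_eq_prime_pow hn
    obtain ⟨e', he'⟩ := CfsgLib.Walter.Rank.Factor.exists_even_iso e Q
    have h1 : Nat.card (Q : Subgroup Y) = Fintype.card F := by
      rw [← CfsgLib.EqualOrder2.card_rootU (F := F)]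
      exact Nat.card_congr (Equiv.subtypeEquiv e'.toEquiv fun x => (he' x).symm)
    exact Or.inl (modelOK_of_four hs (by rw [← h1, hQ4]; norm_num) e Q)
  have hg : Nat.gcd 2 (Fintype.card F - 1) = 2 := Nat.gcd_eq_left (by omega)
  rw [hg] at hcard
  by_cases hq5 : Fintype.card F = 5
  · refine Or.inl (modelOK_of_sixty hs hna ?_ Q)
    rw [hq5] at hcard
    omega
  refine Or.inr ⟨hsq, hQ4, fun hd => ?_⟩
  have h2 : Fintype.card F * ((Fintype.card F - 1) * (Fintype.card F + 1)) ∣ 120960 :=
    hcard ▸ (mul_dvd_mul_left 2 hd : 2 * Nat.card Y ∣ 2 * 60480)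
  have hb : Fintype.card F ≤ 50 := by
    by_contra hb
    have h3 := Nat.le_of_dvd (by norm_num) h2
    have h4 := Nat.mul_le_mul (show 51 ≤ Fintype.card F by omega)
      (Nat.mul_le_mul (show 50 ≤ Fintype.card F - 1 by omega) (show 52 ≤ Fintype.card F + 1 by omega))
    omega
  generalize Fintype.card F = q at h2 hb h5 h8' hq5
  interval_cases q <;> simp_all (config := { decide := true })

end CfsgLib.Gold.Rank2
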