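import Cfsg.Agent.Lib.Goldschmidt.Rank2.Main
import Cfsg.Agent.Lib.Goldschmidt.Rank2.Models
import Cfsg.Agent.Lib.Goldschmidt.Consumers.Structure.Inputs

/-!
# Strongly closed abelian `2`-subgroups: the case of rank two, without hypotheses
-/

set_option autoImplicit false

namespace CfsgLib.Gold.Rank2

universe u

/-- The case of rank two. -/
theorem caseTwoStmt : CaseTwoStmt.{u} :=
  caseTwoStmt_of CfsgLib.Gold.Struct.formModelStmt smallModelStmt

end CfsgLib.Gold.Rank2
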