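import Cfsg.Agent.Lib.Goldschmidt.Rank2.EightBase

/-!
# Rank two, centralizers of order eight: the elements central modulo `A`
-/

set_option autoImplicit false
set_option linter.unusedSectionVars false
set_option linter.style.haveILetI false

namespace CfsgLib.Gold.Rank2

open Subgroup

universe u

variable {G : Type u} [Group G] [Finite G] {S : Sylow 2 G} {A : Subgroup G}

/-- Elements with square in `A`, central modulo `A`. -/
def Mem2 (S : Sylow 2 G) (A : Subgroup G) (s : G) : Prop :=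
  s ∈ (S : Subgroup G) ∧ s * s ∈ A ∧ ∀ x ∈ (S : Subgroup G), val x s ∈ A

/-- The subgroup they form. -/
def zTwo (hG : Ground S A) : Subgroup G where
  carrier := {s | Mem2 S A s}
  one_mem' := ⟨one_mem _, by rw [one_mul]; exact one_mem _,
    fun x _ => by rw [val_eq_one (Commute.one_right x)]; exact one_mem _⟩
  mul_mem' := by
    rintro s s' ⟨h1, h2, h3⟩ ⟨h1', h2', h3'⟩
    refine ⟨mul_mem h1 h1', ?_, fun x hx => ?_⟩
    · rw [show s * s' * (s * s') = s * val s' s * s * (s' * s') by rw [val]; group,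
        (hG.central s h1 _ (h3 s' h1')).eq, mul_assoc _ s s]
      exact mul_mem (mul_mem (h3 s' h1') h2) h2'
    · rw [val_mul_right, (hG.central s h1 _ (h3' x hx)).eq, mul_inv_cancel_right]
      exact mul_mem (h3 x hx) (h3' x hx)
  inv_mem' := by
    rintro s ⟨h1, h2, h3⟩
    refine ⟨inv_mem h1, by rw [← mul_inv_rev]; exact inv_mem h2, fun x hx => ?_⟩
    have hb := inv_mem (h3 x hx)
    rw [show val x s⁻¹ = s⁻¹ * (val x s)⁻¹ * s by rw [val, val]; group,
      (hG.central s⁻¹ (inv_mem h1) _ hb).eq, inv_mul_cancel_right]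
    exact hb

theorem mem_zTwo {hG : Ground S A} {s : G} : s ∈ zTwo hG ↔ Mem2 S A s := Iff.rfl

variable (hG : Ground S A)

theorem A_le_zTwo : A ≤ zTwo hG := fun a ha =>
  ⟨A_le hG ha, by rw [hG.setting.sq a ha]; exact one_mem _,
    fun x hx => by rw [val_eq_one (hG.central x hx a ha)]; exact one_mem _⟩

/-- Without a normalizer equal to `S` there is no outside involution there. -/
theorem not_outer_zTwo (h8 : AtMostEight S A) (hlt : ∀ x, Outer S A x → nt S x ≠ (S : Subgroup G)) {y : G}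
    (hy : y ∈ zTwo hG) (hy2 : y * y = 1) : y ∈ A := by
  by_contra hyA
  have ho : Outer S A y := ⟨(mem_zTwo.1 hy).1, hy2, hyA⟩
  refine hlt y ho (le_antisymm inf_le_left fun x hx => mem_inf.2 ⟨hx, mem_normalizer_fintype fun z hz => ?_⟩)
  have hxy : x * y * x⁻¹ = val x y * y := by rw [val]; group
  rcases cw_cases hG h8 ho hz with hzA | hzA
  · rw [SetLike.mem_coe, (hG.central x hx z hzA).eq, mul_inv_cancel_right]
    exact hz
  · rw [SetLike.mem_coe, show x * z * x⁻¹ = x * (z * y) * x⁻¹ * (x * y * x⁻¹)⁻¹ by group,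
      (hG.central x hx _ hzA).eq, mul_inv_cancel_right, hxy, mul_inv_rev, ho.inv]
    exact mul_mem (A_le_cw hG ho.1 hzA)
      (mul_mem ho.mem_cw_self (inv_mem (A_le_cw hG ho.1 ((mem_zTwo.1 hy).2.2 x hx))))

theorem zTwo_le_nt (h8 : AtMostEight S A) {w : G} (hw : Outer S A w) : zTwo hG ≤ nt S w := by
  intro y hy
  obtain ⟨hyS, -, hyv⟩ := mem_zTwo.1 hy
  refine mem_inf.2 ⟨hyS, mem_normalizer_fintype fun z hz => ?_⟩
  have hzS := cw_le w hz
  have hb := hyv z hzS
  rw [SetLike.mem_coe, show y * z * y⁻¹ = (val z y)⁻¹ * z by rw [val]; group]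
  exact mul_mem (inv_mem (A_le_cw hG hw.1 hb)) hz

/-- They exceed `A`. -/
theorem exists_zTwo (hne : A ≠ (S : Subgroup G)) : ∃ y ∈ zTwo hG, y ∉ A := by
  haveI : Fact (Nat.Prime 2) := ⟨Nat.prime_two⟩
  set A' := A.subgroupOf (S : Subgroup G)
  haveI : A'.Normal := ⟨fun a ha g => by
    rw [mem_subgroupOf] at ha ⊢
    show (g : G) * a * (g : G)⁻¹ ∈ A
    rw [(hG.central g g.2 _ ha).eq, mul_inv_cancel_right]
    exact ha⟩
  have hP : IsPGroup 2 ((S : Subgroup G) ⧸ A') := S.2.to_quotient A'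
  haveI : Nontrivial ((S : Subgroup G) ⧸ A') := by
    refine QuotientGroup.nontrivial_iff.2 fun e => hne ?_
    exact le_antisymm (A_le hG) (subgroupOf_eq_top.1 e)
  haveI := hP.center_nontrivial
  have h2 : 2 ∣ Nat.card (center ((S : Subgroup G) ⧸ A')) := by
    obtain ⟨k, hk⟩ := (hP.to_subgroup (center ((S : Subgroup G) ⧸ A'))).exists_card_eq
    rcases k with _ | k
    · rw [pow_zero] at hk
      have := Finite.one_lt_card_iff_nontrivial.2 ‹Nontrivial (center ((S : Subgroup G) ⧸ A'))›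
      omega
    · rw [hk]; exact dvd_pow_self 2 k.succ_ne_zero
  obtain ⟨z, hz⟩ := exists_prime_orderOf_dvd_card' (G := center ((S : Subgroup G) ⧸ A')) 2 h2
  obtain ⟨y, hy⟩ := QuotientGroup.mk'_surjective A' (z : (S : Subgroup G) ⧸ A')
  have hf : ∀ x : (S : Subgroup G), QuotientGroup.mk' A' x = 1 ↔ (x : G) ∈ A := fun x => by
    rw [QuotientGroup.mk'_apply, QuotientGroup.eq_one_iff, mem_subgroupOf]
  have hzo : orderOf (z : (S : Subgroup G) ⧸ A') = 2 := by rw [Subgroup.orderOf_coe, hz]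
  refine ⟨y, ⟨y.2, ?_, fun x hx => ?_⟩, fun hA => ?_⟩
  · exact (hf (y * y)).1 (by rw [map_mul, hy]; exact CfsgLib.Invol.invol_mul_self hzo)
  · refine (hf (⟨x, hx⟩ * y * ⟨x, hx⟩⁻¹ * y⁻¹)).1 ?_
    rw [map_mul, map_mul, map_mul, map_inv, map_inv, hy, mem_center_iff.1 z.2, mul_inv_cancel_right,
      mul_inv_cancel]
  · rw [← hy, (hf y).2 hA, orderOf_one] at hzo
    omega

/-- The rotation `r` of `S`: the elements central modulo `A` map onto `A`, and squaring is additive. -/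
theorem zTwo_facts (h8 : AtMostEight S A) (hlt : ∀ x, Outer S A x → nt S x ≠ (S : Subgroup G)) {r : G}
    (hrS : r ∈ normalizer ((S : Subgroup G) : Set G)) (hrA : ∀ a ∈ A, r * a * r⁻¹ ∈ A)
    (hfpf : ∀ a ∈ A, a ≠ 1 → r * a * r⁻¹ ≠ a) {w : G} (hw : Outer S A w) :
    (∀ y ∈ zTwo hG, r * y * r⁻¹ ∈ zTwo hG) ∧ (∀ b ∈ A, ∃ y ∈ zTwo hG, val y w = b) ∧
    (∀ y ∈ zTwo hG, ∀ y' ∈ zTwo hG, Commute y y') ∧ Top S A w := by
  have hrS' : ∀ x ∈ (S : Subgroup G), r⁻¹ * x * r ∈ (S : Subgroup G) := fun x hx => by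
    have := (mem_normalizer_iff.1 (inv_mem hrS) x).1 hx
    rwa [inv_inv] at this
  have hinv : ∀ y ∈ zTwo hG, r * y * r⁻¹ ∈ zTwo hG := fun y hy => by
    obtain ⟨h1, h2, h3⟩ := mem_zTwo.1 hy
    refine ⟨(mem_normalizer_iff.1 hrS y).1 h1, ?_, fun x hx => ?_⟩
    · rw [show r * y * r⁻¹ * (r * y * r⁻¹) = r * (y * y) * r⁻¹ by group]; exact hrA _ h2
    · rw [show val x (r * y * r⁻¹) = r * val (r⁻¹ * x * r) y * r⁻¹ by rw [val, val]; group]
      exact hrA _ (h3 _ (hrS' x hx))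
  have hm := isMax_of_eight hG h8 hw
  have hle := zTwo_le_nt hG h8 hw
  -- the values determine the cosets
  have hker : ∀ s ∈ zTwo hG, ∀ s' ∈ zTwo hG, val s w = val s' w → s⁻¹ * s' ∈ A := by
    intro s hs s' hs' h
    have hk : s⁻¹ * s' ∈ cw S w := by
      refine fix_mem hG hm (mul_mem (inv_mem (hle hs)) (hle hs')) hw.mem_cw_self hw.2.2 (commute_of_val ?_)
      have h1 := val_hom_left hG hm (inv_mem (nt_le_hgrp hG hm (hle hs))) (nt_le_hgrp hG hm (hle hs))
        hw.mem_cw_self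
      rw [inv_mul_cancel, val_eq_one (Commute.one_left w)] at h1
      rw [val_hom_left hG hm (inv_mem (nt_le_hgrp hG hm (hle hs))) (nt_le_hgrp hG hm (hle hs')) hw.mem_cw_self,
        ← h, ← h1]
    exact not_outer_zTwo hG h8 hlt (mul_mem (inv_mem hs) hs') (IsMax.sq hG hm _ hk)
  obtain ⟨y, hy, hyA⟩ : ∃ y ∈ zTwo hG, y ∉ A := by
    refine exists_zTwo hG fun e => hw.2.2 ?_
    exact e.ge hw.1
  set y' := r * y * r⁻¹
  have hy' := hinv y hy
  set q := y * y with hqd
  have hqA : q ∈ A := (mem_zTwo.1 hy).2.1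
  have hq1 : q ≠ 1 := fun e => hyA (not_outer_zTwo hG h8 hlt hy e)
  have hy'q : y' * y' = r * q * r⁻¹ := by rw [hqd]; show r * y * r⁻¹ * (r * y * r⁻¹) = _; group
  have hne : val y w ≠ val y' w := fun e => by
    have hd := hker y hy y' hy' e
    have h2 : y' * y' = q := by
      have hdy : Commute y (y⁻¹ * y') := hG.central y (mem_zTwo.1 hy).1 _ hd
      calc y' * y' = y * (y⁻¹ * y') * (y * (y⁻¹ * y')) := by group
        _ = y * y * ((y⁻¹ * y') * (y⁻¹ * y')) := hdy.symm.mul_mul_mul_comm y (y⁻¹ * y')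
        _ = q := by rw [hG.setting.sq _ hd, mul_one]
    exact hfpf q hqA hq1 (hy'q.symm.trans h2)
  have hv1 : ∀ s ∈ zTwo hG, s ∉ A → val s w ≠ 1 := fun s hs hsA e => hsA (by
    have h1 := hker 1 (one_mem _) s hs (by rw [e, val_eq_one (Commute.one_left w)])
    rwa [inv_one, one_mul] at h1)
  have hy'A : y' ∉ A := fun hA => hq1 (conj_eq_one_iff.1 (hy'q.symm.trans (hG.setting.sq _ hA)))
  have hvA : ∀ s ∈ zTwo hG, val s w ∈ A := fun s hs => val_mem_A hG hm (hle hs) w hw.mem_cw_self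
  have hvyy : val (y * y') w = val y w * val y' w :=
    val_hom_left hG hm (nt_le_hgrp hG hm (hle hy)) (nt_le_hgrp hG hm (hle hy')) hw.mem_cw_self
  have hsurj : ∀ b ∈ A, ∃ s ∈ zTwo hG, val s w = b ∧ (s = 1 ∨ s = y ∨ s = y' ∨ s = y * y') := by
    intro b hb
    rcases hG.cases (hvA y hy) (hvA y' hy') (hv1 y hy hyA) (hv1 y' hy' hy'A) hne hb with h | h | h | h
    · exact ⟨1, one_mem _, by rw [val_eq_one (Commute.one_left w), h], Or.inl rfl⟩
    · exact ⟨y, hy, h.symm, Or.inr (Or.inl rfl)⟩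
    · exact ⟨y', hy', h.symm, Or.inr (Or.inr (Or.inl rfl))⟩
    · exact ⟨y * y', mul_mem hy hy', by rw [hvyy, h], Or.inr (Or.inr (Or.inr rfl))⟩
  have hdec : ∀ s ∈ zTwo hG, ∃ a ∈ A, ∃ z, (z = 1 ∨ z = y ∨ z = y' ∨ z = y * y') ∧ s = z * a := by
    intro s hs
    obtain ⟨z, hz, hzv, hzc⟩ := hsurj _ (hvA s hs)
    exact ⟨z⁻¹ * s, hker z hz s hs hzv, z, hzc, (mul_inv_cancel_left z s).symm⟩
  -- `y` and its image commute
  have hyy : Commute y y' := by
    obtain ⟨a, ha, z, hz, he⟩ := hdec (r * y' * r⁻¹) (hinv y' hy')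
    have hcyc := hG.rot_cycle hrA hfpf hqA hq1
    have hsq : r * y' * r⁻¹ * (r * y' * r⁻¹) = q * (r * q * r⁻¹) := by
      rw [← hcyc.1, ← hy'q]; group
    have hzS : z ∈ zTwo hG := by rcases hz with rfl | rfl | rfl | rfl; exacts [one_mem _, hy, hy', mul_mem hy hy']
    rw [he, (hG.central z (mem_zTwo.1 hzS).1 a ha).symm.mul_mul_mul_comm z a, hG.setting.sq a ha, mul_one] at hsq
    have hqr : r * q * r⁻¹ ≠ 1 := fun e => hq1 (conj_eq_one_iff.1 e)
    rcases hz with rfl | rfl | rfl | rfl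
    · rw [mul_one] at hsq
      exact absurd (by rw [eq_comm, mul_eq_one_iff_eq_inv, invA hG (hrA q hqA)] at hsq; exact hsq.symm)
        (hfpf q hqA hq1)
    · exact absurd (left_eq_mul.1 hsq) hqr
    · rw [hy'q] at hsq
      exact absurd (right_eq_mul.1 hsq) hq1
    · rw [← hy'q, hqd] at hsq
      show y * y' = y' * y
      have h1 : y * (y' * y * y') = y * (y * (y' * y')) := by
        simpa [mul_assoc] using hsq
      have h2 := mul_left_cancel h1
      rw [mul_assoc, ← mul_assoc y y' y'] at h2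
      exact (mul_right_cancel ((mul_assoc y' y y').trans h2)).symm
  refine ⟨hinv, fun b hb => ?_, fun s hs s' hs' => ?_, fun x hx => ?_⟩
  · obtain ⟨s, hs, h, -⟩ := hsurj b hb
    exact ⟨s, hs, h⟩
  · obtain ⟨a, ha, z, hz, rfl⟩ := hdec s hs
    obtain ⟨a', ha', z', hz', rfl⟩ := hdec s' hs'
    have hzz : ∀ z, (z = 1 ∨ z = y ∨ z = y' ∨ z = y * y') → z ∈ (S : Subgroup G) := by
      rintro z (rfl | rfl | rfl | rfl)
      exacts [one_mem _, (mem_zTwo.1 hy).1, (mem_zTwo.1 hy').1, (mem_zTwo.1 (mul_mem hy hy')).1]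
    have hc : Commute z z' := by
      rcases hz with rfl | rfl | rfl | rfl <;> rcases hz' with rfl | rfl | rfl | rfl <;>
        first
        | exact Commute.one_left _
        | exact Commute.one_right _
        | exact Commute.refl _
        | exact hyy
        | exact hyy.symm
        | exact (Commute.refl _).mul_right hyy
        | exact (hyy.symm).mul_right (Commute.refl _)
        | exact ((Commute.refl _).mul_left hyy.symm)
        | exact (hyy.mul_left (Commute.refl _))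
    exact (hc.mul_right (hG.central z (hzz z hz) a' ha')).mul_left
      (((hG.central z' (hzz z' hz') a ha).symm).mul_right (commA hG ha ha'))
  · have hrange : (valHom hG hm).range = ⊤ := eq_top_iff.2 fun b _ => by
      obtain ⟨s, hs, h, -⟩ := hsurj b b.2
      exact ⟨⟨s, hle hs⟩, Subtype.ext h⟩
    rw [card_nt_eq hG hm, hrange, card_top, hG.card_A, card_cw_eight hG h8 hw]
    exact (card_nt_le hG hx).trans (by rw [card_cw_eight hG h8 hx.1])

end CfsgLib.Gold.Rank2
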