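import Cfsg.Agent.Lib.Goldschmidt.Rank2.EightFull
import Cfsg.Agent.Lib.Goldschmidt.Rank2.Central
import Cfsg.Agent.Lib.Coprime.Action

/-!
# Rank two: centralizers of order eight are impossible

Modulo the centralizer `K` of the elements central modulo `A` all outside involutions are fixed by the
rotation of `S`, so one transfers.
-/

set_option autoImplicit false
set_option linter.unusedSectionVars false
set_option linter.style.haveILetI false

namespace CfsgLib.Gold.Rank2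

open Subgroup

universe u

variable {G : Type u} [Group G] [Finite G] {S : Sylow 2 G} {A : Subgroup G}

variable (hG : Ground S A) (h8 : AtMostEight S A) (hrot : HasRot S A)
include hG h8 hrot

/-- The rotation of `S` commutes with the values of an outside involution. -/
theorem val_rot (hlt : ∀ x, Outer S A x → nt S x ≠ (S : Subgroup G)) {r₀ : G}
    (hrS : r₀ ∈ normalizer ((S : Subgroup G) : Set G)) (hrA : ∀ a ∈ A, r₀ * a * r₀⁻¹ ∈ A)
    (hfpf : ∀ a ∈ A, a ≠ 1 → r₀ * a * r₀⁻¹ ≠ a) {w : G} (hw : Outer S A w) {y : G} (hy : y ∈ zTwo hG) :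
    val w (r₀ * y * r₀⁻¹) = r₀ * val w y * r₀⁻¹ := by
  obtain ⟨hinv, -, hab, htop₀⟩ := zTwo_facts hG h8 hlt hrS hrA hfpf hw
  obtain ⟨a, ha, r, Q, hr⟩ := hrot w (isMax_of_eight hG h8 hw) htop₀
  set v := a * w
  have hv : IsMax S A v := isMax_of_eight hG h8 (hw.mul_A hG ha)
  have htop : Top S A v := htop₀.mul_A hG ha
  obtain ⟨-, hsurj, -, -⟩ := zTwo_facts hG h8 hlt hrS hrA hfpf hv.1
  have hle := zTwo_le_nt hG h8 hv.1
  -- the values with `w` and with `v`
  have hvw : ∀ z ∈ zTwo hG, val w z = val z v := by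
    intro z hz
    have hzS := (mem_zTwo.1 hz).1
    have h1 : val z v = val z w := by
      rw [val_mul_right, val_eq_one (hG.central z hzS a ha), one_mul]
      have hzw : val z w = (val w z)⁻¹ := by rw [val, val]; group
      rw [hzw, (hG.central a (A_le hG ha) _ (inv_mem ((mem_zTwo.1 hz).2.2 w hw.1))).eq, mul_inv_cancel_right]
    have hb := (mem_zTwo.1 hz).2.2 w hw.1
    rw [h1, ← invA hG hb, show (val w z)⁻¹ = val z w by rw [val, val]; group]
  rw [hvw _ (hinv y hy), hvw y hy]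
  -- squaring is a bijection compatible with the values
  have hsq0 : ∀ z ∈ zTwo hG, z * z = 1 → z ∈ A := fun z hz h => not_outer_zTwo hG h8 hlt hz h
  have hsqmul : ∀ z ∈ zTwo hG, ∀ z' ∈ zTwo hG, z * z' * (z * z') = z * z * (z' * z') := fun z hz z' hz' =>
    (hab z' hz' z hz).mul_mul_mul_comm z z'
  have hinj : ∀ z ∈ zTwo hG, ∀ z' ∈ zTwo hG, z * z = z' * z' → val z v = val z' v := by
    intro z hz z' hz' h
    have h1 : z * z' * (z * z') = 1 := by
      rw [hsqmul z hz z' hz', h]; exact hG.setting.sq _ (mem_zTwo.1 hz').2.1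
    have h2 := hsq0 _ (mul_mem hz hz') h1
    have h3 : val (z * z') v = 1 := val_eq_one (hG.central v hv.1.1 _ h2).symm
    rw [val_hom_left hG hv (nt_le_hgrp hG hv (hle hz)) (nt_le_hgrp hG hv (hle hz')) hv.1.mem_cw_self,
      mul_eq_one_iff_eq_inv, invA hG (val_mem_A hG hv (hle hz') v hv.1.mem_cw_self)] at h3
    exact h3
  have hsqval : ∀ z ∈ zTwo hG, ∀ z' ∈ zTwo hG, val z v = val z' v → z * z = z' * z' := by
    intro z hz z' hz' h
    have h3 : val (z * z') v = 1 := by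
      rw [val_hom_left hG hv (nt_le_hgrp hG hv (hle hz)) (nt_le_hgrp hG hv (hle hz')) hv.1.mem_cw_self, h]
      exact hG.setting.sq _ (val_mem_A hG hv (hle hz') v hv.1.mem_cw_self)
    have h4 : z * z' ∈ cw S v :=
      fix_mem hG hv (hle (mul_mem hz hz')) hv.1.mem_cw_self hv.1.2.2 (commute_of_val h3)
    have h5 := IsMax.sq hG hv _ h4
    rw [hsqmul z hz z' hz', mul_eq_one_iff_eq_inv, invA hG (mem_zTwo.1 hz').2.1] at h5
    exact h5
  -- the rotation of `v`
  have hstep : ∀ z ∈ zTwo hG, ∀ z' ∈ zTwo hG, val z' v = r * val z v * r⁻¹ →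
      z' * z' = r * (z * z) * r⁻¹ := by
    intro z hz z' hz' hzz
    have hzA : val z v ∈ A := val_mem_A hG hv (hle hz) v hv.1.mem_cw_self
    by_cases hb1 : val z v = 1
    · have h1 : val z' v = 1 := by rw [hzz, hb1]; group
      rw [hsqval z hz 1 (one_mem _) (hb1.trans (val_eq_one (Commute.one_left v)).symm),
        hsqval z' hz' 1 (one_mem _) (h1.trans (val_eq_one (Commute.one_left v)).symm)]
      group
    -- the alternative is impossible
    have halt : ∀ z ∈ zTwo hG, ∀ z' ∈ zTwo hG, val z' v = r * val z v * r⁻¹ →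
        z' * z' = r * (z * z) * r⁻¹ ∨ z' * z' = r * (val z v * (z * z)) * r⁻¹ := by
      intro z hz z' hz' hzz
      obtain ⟨t, ht, htv, htq⟩ := hr.equiv hG hv htop (hle hz)
      have htv' : val t v = val z' v := by rw [htv v hr.w_mem, hzz]
      rcases sq_of_same_val hG h8 hv ht (hle hz') htv' with h | h
      · exact Or.inl (h.trans htq)
      · refine Or.inr ?_
        rw [h, htq, htv', hzz]; group
    rcases halt z hz z' hz' hzz with h | h
    · exact h
    exfalso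
    have hb : ∀ s ∈ zTwo hG, val s v ≠ 1 → s * s ≠ 1 := fun s hs h1 e =>
      h1 (val_eq_one (hG.central v hv.1.1 _ (hsq0 s hs e)).symm)
    set b := val z v
    set q := z * z
    have hqA : q ∈ A := (mem_zTwo.1 hz).2.1
    have hq1 : q ≠ 1 := hb z hz hb1
    have hrA' := hr.rot_A hG hv
    have hrb : r * b * r⁻¹ ∈ A := hrA' b hzA
    have hrb1 : r * b * r⁻¹ ≠ 1 := fun e => hb1 (conj_eq_one_iff.1 e)
    have hcyc := hG.rot_cycle hrA' hr.fpf hzA hb1
    rcases hG.cases hzA hrb hb1 hrb1 (fun e => hr.fpf b hzA hb1 e.symm) hqA with e | e | e | e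
    · exact hq1 e
    · refine hb z' hz' (hzz ▸ hrb1) ?_
      rw [h, e, hG.setting.sq b hzA]; group
    · obtain ⟨z'', hz'', hz''v⟩ := hsurj (b * (r * b * r⁻¹)) (mul_mem hzA hrb)
      have hzz' : val z'' v = r * val z' v * r⁻¹ := by rw [hz''v, hzz]; exact hcyc.1.symm
      have hz'q : z' * z' = b := by rw [h, e]; exact hcyc.2
      rcases halt z' hz' z'' hz'' hzz' with h2 | h2
      · rw [hz'q, ← e] at h2
        have h3 := hinj z'' hz'' z hz h2
        rw [hz''v] at h3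
        exact hrb1 (mul_eq_left.1 h3)
      · rw [hz'q, hzz, (commA hG hrb hzA).eq, hcyc.2, ← hz'q] at h2
        have h3 := hinj z'' hz'' z' hz' h2
        rw [hz''v, hzz] at h3
        exact hb1 (mul_eq_right.1 h3)
    · rw [e, show b * (b * (r * b * r⁻¹)) = r * b * r⁻¹ by rw [← mul_assoc, hG.setting.sq b hzA, one_mul],
        hcyc.1, ← e] at h
      have h3 := hinj z' hz' z hz h
      rw [hzz] at h3
      exact hr.fpf b hzA hb1 h3
  -- compare the two rotations
  have hy' := hinv y hy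
  have hqA := (mem_zTwo.1 hy).2.1
  have hbA : val y v ∈ A := val_mem_A hG hv (hle hy) v hv.1.mem_cw_self
  by_cases hq1 : y * y = 1
  · have hyA := hsq0 y hy hq1
    rw [val_eq_one (hG.central v hv.1.1 _ hyA).symm,
      val_eq_one (hG.central v hv.1.1 _ (hrA y hyA)).symm]
    group
  have hb1 : val y v ≠ 1 := fun e => hq1 (by
    rw [hsqval y hy 1 (one_mem _) (e.trans (val_eq_one (Commute.one_left v)).symm), one_mul])
  obtain ⟨z₁, hz₁, hz₁v⟩ := hsurj _ (hr.rot_A hG hv _ hbA)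
  have hz₁q := hstep y hy z₁ hz₁ hz₁v
  obtain ⟨z₂, hz₂, hz₂v⟩ := hsurj _ (hr.rot_A hG hv _ (hr.rot_A hG hv _ hbA))
  have hz₂q : z₂ * z₂ = r * (r * (y * y) * r⁻¹) * r⁻¹ := by
    rw [← hz₁q]; exact hstep z₁ hz₁ z₂ hz₂ (by rw [hz₂v, hz₁v])
  have hrot_eq : ∀ c ∈ A, r₀ * c * r₀⁻¹ ≠ c → c ≠ 1 → r₀ * c * r₀⁻¹ = r * c * r⁻¹ ∨
      r₀ * c * r₀⁻¹ = r * (r * c * r⁻¹) * r⁻¹ := by
    intro c hc hne hc1
    have hrc := hr.rot_A hG hv c hc
    have hrc1 : r * c * r⁻¹ ≠ 1 := fun e => hc1 (conj_eq_one_iff.1 e)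
    rcases hG.cases hc hrc hc1 hrc1 (fun e => hr.fpf c hc hc1 e.symm) (hrA c hc) with e | e | e | e
    · exact absurd (conj_eq_one_iff.1 e) hc1
    · exact absurd e hne
    · exact Or.inl e
    · exact Or.inr (e.trans (hG.rot_cycle (hr.rot_A hG hv) hr.fpf hc hc1).1.symm)
  have hy'q : r₀ * y * r₀⁻¹ * (r₀ * y * r₀⁻¹) = r₀ * (y * y) * r₀⁻¹ := by group
  have hcomp : ∀ c ∈ A, ∀ d ∈ A, c ≠ 1 → d ≠ 1 →
      (r₀ * c * r₀⁻¹ = r * c * r⁻¹ → r₀ * d * r₀⁻¹ = r * d * r⁻¹) := by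
    intro c hc d hd hc1 hd1 heq
    have hcy := hG.rot_cycle (hr.rot_A hG hv) hr.fpf hc hc1
    have hcy0 := hG.rot_cycle hrA hfpf hc hc1
    have hrc := hr.rot_A hG hv c hc
    rcases hG.cases hc hrc hc1 (fun e => hc1 (conj_eq_one_iff.1 e)) (fun e => hr.fpf c hc hc1 e.symm) hd
      with e | e | e | e
    · exact absurd e hd1
    · rw [e, heq]
    · rw [e, ← hcy.1.symm.trans rfl]
      rw [show r₀ * (r * c * r⁻¹) * r₀⁻¹ = r₀ * (r₀ * c * r₀⁻¹) * r₀⁻¹ by rw [heq], hcy0.1, heq]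
    · rw [e, hcy.2, ← heq]; exact hcy0.2
  rcases hrot_eq _ hqA (hfpf _ hqA hq1) hq1 with e | e
  · have h1 := hinj _ hy' z₁ hz₁ (by rw [hy'q, e, hz₁q])
    rw [h1, hz₁v]
    exact (hcomp _ hqA _ hbA hq1 hb1 e).symm
  · have h1 := hinj _ hy' z₂ hz₂ (by rw [hy'q, e, hz₂q])
    rw [h1, hz₂v]
    rcases hrot_eq _ hbA (hfpf _ hbA hb1) hb1 with e' | e'
    · have h2 := hcomp _ hbA _ hqA hb1 hq1 e'
      rw [e] at h2
      exact absurd (mul_left_cancel (mul_right_cancel h2))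
        (hr.fpf _ hqA hq1)
    · exact e'.symm

/-- No outside involution has centralizers of order at most eight only. -/
theorem false_of_eight {w₀ : G} (hw₀ : Outer S A w₀) : False := by
  haveI : Fact (Nat.Prime 2) := ⟨Nat.prime_two⟩
  have hlt : ∀ x, Outer S A x → nt S x ≠ (S : Subgroup G) := fun x hx e =>
    false_of_nt_eq_S hG h8 hrot hx e
  obtain ⟨r, hrS, hodd, hrA, hfpf⟩ := hG.rot
  obtain ⟨hinv, hsurj₀, -, -⟩ := zTwo_facts hG h8 hlt hrS hrA hfpf hw₀
  set Y := zTwo hG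
  set K := (S : Subgroup G) ⊓ centralizer (Y : Set G) with hK
  have hmemK : ∀ s, s ∈ K ↔ s ∈ (S : Subgroup G) ∧ ∀ y ∈ Y, val s y = 1 := fun s => by
    rw [hK, mem_inf, mem_centralizer_iff]
    exact and_congr_right fun _ => ⟨fun h y hy => val_eq_one (h y hy).symm,
      fun h y hy => (commute_of_val (h y hy)).eq.symm⟩
  have hvalA : ∀ s ∈ (S : Subgroup G), ∀ y ∈ Y, val s y ∈ A := fun s hs y hy => (mem_zTwo.1 hy).2.2 s hs
  have hmul : ∀ s ∈ (S : Subgroup G), ∀ s' ∈ (S : Subgroup G), ∀ y ∈ Y,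
      val (s * s') y = val s y * val s' y := fun s hs s' hs' y hy => by
    rw [val_mul_left, (hG.central s hs _ (hvalA s' hs' y hy)).eq, mul_inv_cancel_right]
    exact (commA hG (hvalA s' hs' y hy) (hvalA s hs y hy)).eq
  have hone : ∀ y, val (1 : G) y = 1 := fun y => val_eq_one (Commute.one_left y)
  haveI hKn : (K.subgroupOf (S : Subgroup G)).Normal := ⟨fun k hk g => by
    rw [mem_subgroupOf, hmemK] at hk ⊢
    refine ⟨(g * k * g⁻¹).2, fun y hy => ?_⟩
    show val ((g : G) * k * (g : G)⁻¹) y = 1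
    rw [hmul _ (mul_mem g.2 k.2) _ (inv_mem g.2) y hy, hmul _ g.2 _ k.2 y hy, hk.2 y hy, mul_one,
      ← hmul _ g.2 _ (inv_mem g.2) y hy, mul_inv_cancel, hone]⟩
  set f := QuotientGroup.mk' (K.subgroupOf (S : Subgroup G))
  have hf : ∀ z : (S : Subgroup G), f z = 1 ↔ ∀ y ∈ Y, val (z : G) y = 1 := fun z => by
    rw [QuotientGroup.mk'_apply, QuotientGroup.eq_one_iff, mem_subgroupOf, hmemK]
    exact ⟨fun h => h.2, fun h => ⟨z.2, h⟩⟩
  have hsq2 : ∀ q : (S : Subgroup G) ⧸ K.subgroupOf (S : Subgroup G), q * q = 1 := by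
    intro q
    obtain ⟨z, rfl⟩ := QuotientGroup.mk'_surjective _ q
    rw [← map_mul]
    exact (hf _).2 fun y hy => by
      rw [Subgroup.coe_mul, hmul _ z.2 _ z.2 y hy]; exact hG.setting.sq _ (hvalA _ z.2 y hy)
  have hcq : ∀ p q : (S : Subgroup G) ⧸ K.subgroupOf (S : Subgroup G), p * q = q * p := fun p q => by
    rw [← inv_eq_of_mul_eq_one_right (hsq2 (p * q)), mul_inv_rev, inv_eq_of_mul_eq_one_right (hsq2 p),
      inv_eq_of_mul_eq_one_right (hsq2 q)]
  have hrS' : ∀ x ∈ (S : Subgroup G), r⁻¹ * x * r ∈ (S : Subgroup G) := fun x hx => by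
    have := (mem_normalizer_iff.1 (inv_mem hrS) x).1 hx
    rwa [inv_inv] at this
  have hrSm : ∀ x ∈ (S : Subgroup G), r * x * r⁻¹ ∈ (S : Subgroup G) := fun x hx =>
    (mem_normalizer_iff.1 hrS x).1 hx
  have hrY' : ∀ y ∈ Y, ∃ y' ∈ Y, r * y' * r⁻¹ = y := fun y hy => by
    obtain ⟨y', hy'⟩ := Finite.surjective_of_injective
      (f := fun z : Y => (⟨r * z * r⁻¹, hinv z z.2⟩ : Y))
      (fun p q e => Subtype.ext (mul_left_cancel (mul_right_cancel (congrArg Subtype.val e :)))) ⟨y, hy⟩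
    exact ⟨y', y'.2, congrArg Subtype.val hy'⟩
  -- the outside involutions are fixed modulo `K`
  have hfix : ∀ w, Outer S A w → ∀ y ∈ Y, val (r * w * r⁻¹) y = val w y := fun w hw y hy => by
    obtain ⟨y', hy', rfl⟩ := hrY' y hy
    rw [show val (r * w * r⁻¹) (r * y' * r⁻¹) = r * val w y' * r⁻¹ by rw [val, val]; group,
      val_rot hG h8 hrot hlt hrS hrA hfpf hw hy']
  have hwK : ∀ w, Outer S A w → ¬ ∀ y ∈ Y, val w y = 1 := fun w hw h => by
    obtain ⟨a, ha, ha1⟩ := A.bot_or_exists_ne_one.resolve_left hG.setting.ne_bot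
    obtain ⟨-, hs, -, -⟩ := zTwo_facts hG h8 hlt hrS hrA hfpf hw
    obtain ⟨y, hy, hyv⟩ := hs a ha
    rw [val_eq_one (commute_of_val (h y hy)).symm] at hyv
    exact ha1 hyv.symm
  -- a fixed element over an outside involution
  set R := zpowers r
  have hKS : ∀ g ∈ K, ∀ y ∈ Y, val g y = 1 := fun g hg => ((hmemK g).1 hg).2
  have hrK : r ∈ normalizer (K : Set G) := mem_normalizer_fintype fun k hk => by
    rw [SetLike.mem_coe, hmemK] at hk ⊢
    refine ⟨hrSm k hk.1, fun y hy => ?_⟩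
    obtain ⟨y', hy', rfl⟩ := hrY' y hy
    rw [show val (r * k * r⁻¹) (r * y' * r⁻¹) = r * val k y' * r⁻¹ by rw [val, val]; group, hk.2 y' hy']
    group
  have hcop : (Nat.card R).Coprime (Nat.card K) := by
    obtain ⟨j, hj⟩ := (S.2.to_le (inf_le_left : K ≤ (S : Subgroup G))).exists_card_eq
    rw [hj, Nat.card_zpowers]
    exact (Nat.Coprime.pow_right j ((Nat.coprime_comm).1 (Nat.prime_two.coprime_iff_not_dvd.2 fun h2 =>
      Nat.not_even_iff_odd.2 hodd (even_iff_two_dvd.2 h2))))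
  have hfixed : ∀ x ∈ (S : Subgroup G), (∀ y ∈ Y, val (r * x * r⁻¹) y = val x y) →
      ∃ n ∈ K, x * n ∈ cw S r := by
    intro x hx hxr
    have hxK : x ∈ normalizer (K : Set G) := mem_normalizer_fintype fun k hk => by
      have := hKn.conj_mem ⟨k, (mem_inf.1 hk).1⟩ (mem_subgroupOf.2 hk) ⟨x, hx⟩
      exact mem_subgroupOf.1 this
    have hstep : r * x * r⁻¹ * x⁻¹ ∈ K := (hmemK _).2 ⟨mul_mem (hrSm x hx) (inv_mem hx), fun y hy => by
      rw [hmul _ (hrSm x hx) _ (inv_mem hx) y hy, hxr y hy, ← hmul x hx _ (inv_mem hx) y hy, mul_inv_cancel, hone]⟩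
    obtain ⟨n, hn, hc⟩ := CfsgLib.Coprime.exists_fixed_in_coset (A := R) (N := K) (zpowers_le.2 hrK) hcop
      (Or.inl (CfsgLib.Coprime.isSolvable_of_isMulCommutative (isMulCommutative_iff.2 fun p q =>
        Subtype.ext (by
          obtain ⟨i, hi⟩ := mem_zpowers_iff.1 p.2
          obtain ⟨j, hj⟩ := mem_zpowers_iff.1 q.2
          show (p : G) * q = q * p
          rw [← hi, ← hj, ← zpow_add, ← zpow_add, add_comm]))))
      hxK (fun a ha => by
        obtain ⟨i, rfl⟩ := (mem_powers_iff_mem_zpowers.2 ha : a ∈ Submonoid.powers r)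
        show r ^ i * x * (r ^ i)⁻¹ * x⁻¹ ∈ K
        induction i with
        | zero => simp [one_mem]
        | succ i ih =>
          rw [show r ^ (i + 1) * x * (r ^ (i + 1))⁻¹ * x⁻¹ =
            r * (r ^ i * x * (r ^ i)⁻¹ * x⁻¹) * r⁻¹ * (r * x * r⁻¹ * x⁻¹) by rw [pow_succ']; group]
          exact mul_mem ((mem_normalizer_iff.1 hrK _).1 (ih (pow_mem (mem_zpowers r) i))) hstep)
    exact ⟨n, hn, mem_cw.2 ⟨mul_mem hx (mem_inf.1 hn).1, (mem_centralizer_iff.1 hc r (mem_zpowers r)).symm⟩⟩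
  have hinvA : ∀ a ∈ A, Commute r a → a = 1 := fun a ha hc => by
    by_contra h1
    exact hfpf a ha h1 (by rw [hc.eq, mul_inv_cancel_right])
  set C := cw S r
  -- the fixed elements are `1` and an outside involution
  obtain ⟨n₀, hn₀, hc₀⟩ := hfixed w₀ hw₀.1 (hfix w₀ hw₀)
  have hc₀1 : w₀ * n₀ ≠ 1 := fun e => hwK w₀ hw₀ (by
    rw [mul_eq_one_iff_eq_inv.1 e]; exact hKS _ (inv_mem hn₀))
  haveI : Nontrivial C := ⟨⟨⟨_, hc₀⟩, 1, fun e => hc₀1 (congrArg Subtype.val e)⟩⟩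
  have hCp : IsPGroup 2 C := S.2.to_le (cw_le r)
  haveI := hCp.center_nontrivial
  have h2 : 2 ∣ Nat.card (center C) := by
    obtain ⟨k, hk⟩ := (hCp.to_subgroup (center C)).exists_card_eq
    rcases k with _ | k
    · rw [pow_zero] at hk
      have := Finite.one_lt_card_iff_nontrivial.2 ‹Nontrivial (center C)›
      omega
    · rw [hk]; exact dvd_pow_self 2 k.succ_ne_zero
  obtain ⟨z, hz⟩ := exists_prime_orderOf_dvd_card' (G := center C) 2 h2
  set u : G := ((z : C) : G) with hu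
  have hu2 : orderOf u = 2 := by rw [hu, Subgroup.orderOf_coe, Subgroup.orderOf_coe, hz]
  have huC : u ∈ C := (z : C).2
  have huA : u ∉ A := fun h => CfsgLib.Invol.invol_ne_one hu2 (hinvA u h (mem_cw.1 huC).2.symm)
  have huo : Outer S A u := ⟨(mem_cw.1 huC).1, CfsgLib.Invol.invol_mul_self hu2, huA⟩
  have hC2 : ∀ x ∈ C, x = 1 ∨ x = u := by
    intro x hx
    have hxu : x ∈ cw S u := mem_cw.2 ⟨(mem_cw.1 hx).1,
      congrArg Subtype.val (mem_center_iff.1 z.2 ⟨x, hx⟩)⟩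
    rcases cw_cases hG h8 huo hxu with h | h
    · exact Or.inl (hinvA x h (mem_cw.1 hx).2.symm)
    · refine Or.inr ?_
      rw [mul_eq_one_iff_eq_inv.1 (hinvA _ h ((mem_cw.1 hx).2.symm.mul_right (mem_cw.1 huC).2.symm)),
        huo.inv]
  -- the map `x ↦ x⁻¹ x^r` on the quotient
  let χ : (S : Subgroup G) →* (S : Subgroup G) ⧸ K.subgroupOf (S : Subgroup G) :=
    MonoidHom.mk' (fun x => f x * f ⟨r * x * r⁻¹, hrSm x x.2⟩) fun x y => by
      have he : (⟨r * ((x * y : (S : Subgroup G)) : G) * r⁻¹, hrSm _ (x * y).2⟩ : (S : Subgroup G)) =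
          ⟨r * x * r⁻¹, hrSm x x.2⟩ * ⟨r * y * r⁻¹, hrSm y y.2⟩ := Subtype.ext (by
            show r * ((x : G) * y) * r⁻¹ = r * x * r⁻¹ * (r * y * r⁻¹)
            group)
      rw [map_mul, he, map_mul]
      exact Commute.mul_mul_mul_comm (hcq _ _) _ _
  set ū := f ⟨u, huo.1⟩ with hū
  have hker : χ.ker = (zpowers ū).comap f := by
    ext x
    rw [MonoidHom.mem_ker, Subgroup.mem_comap]
    show f x * f ⟨r * x * r⁻¹, hrSm x x.2⟩ = 1 ↔ _
    constructor
    · intro h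
      have hxr : ∀ y ∈ Y, val (r * (x : G) * r⁻¹) y = val (x : G) y := fun y hy => by
        have h1 := (hf (x * ⟨r * x * r⁻¹, hrSm x x.2⟩)).1 (by rw [map_mul]; exact h) y hy
        rw [Subgroup.coe_mul, hmul _ x.2 _ (hrSm x x.2) y hy, mul_eq_one_iff_inv_eq,
          invA hG (hvalA _ x.2 y hy)] at h1
        exact h1.symm
      obtain ⟨n, hn, hc⟩ := hfixed x x.2 hxr
      have hfn : f ⟨n, (mem_inf.1 hn).1⟩ = 1 := (hf _).2 (hKS n hn)
      rcases hC2 _ hc with e | e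
      · have : f (x * ⟨n, (mem_inf.1 hn).1⟩) = 1 := (hf _).2 fun y _ => by rw [Subgroup.coe_mul, e, hone]
        rw [map_mul, hfn, mul_one] at this
        rw [this]; exact one_mem _
      · have : f (x * ⟨n, (mem_inf.1 hn).1⟩) = ū := congrArg f (Subtype.ext e)
        rw [map_mul, hfn, mul_one] at this
        rw [this]; exact mem_zpowers _
    · intro h
      obtain ⟨i, hi⟩ := mem_zpowers_iff.1 h
      have hru : r * u * r⁻¹ = u := by rw [← (mem_cw.1 huC).2.eq, mul_inv_cancel_right]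
      let g : (S : Subgroup G) := ⟨u, huo.1⟩ ^ i
      have hg : r * (g : G) * r⁻¹ = g := by
        show r * ((⟨u, huo.1⟩ ^ i : (S : Subgroup G)) : G) * r⁻¹ = _
        rw [Subgroup.coe_zpow, ← conj_zpow, hru]
      have hxg : f (x * g⁻¹) = 1 := by rw [map_mul, map_inv, map_zpow, ← hi, mul_inv_cancel]
      have h1 : f ⟨r * x * r⁻¹, hrSm x x.2⟩ = f x := by
        have hk : (x : G) * (g : G)⁻¹ ∈ K := (hmemK _).2 ⟨(x * g⁻¹).2, (hf _).1 hxg⟩
        have hk' := (mem_normalizer_iff.1 hrK _).1 hk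
        rw [show r * ((x : G) * (g : G)⁻¹) * r⁻¹ = r * x * r⁻¹ * (r * g * r⁻¹)⁻¹ by group, hg] at hk'
        have h2 : f (⟨r * x * r⁻¹, hrSm x x.2⟩ * g⁻¹) = 1 := (hf _).2 (hKS _ hk')
        rw [map_mul, ← hxg, map_mul] at h2
        exact mul_right_cancel h2
      rw [h1]; exact hsq2 _
  have hū1 : ū ≠ 1 := fun e => hwK u huo ((hf _).1 e)
  have hz2 : Nat.card (zpowers ū) = 2 := by
    rw [Nat.card_zpowers]; exact CfsgLib.Invol.invol_iff.2 ⟨hsq2 ū, hū1⟩
  have hidx : (χ.range).index = 2 := by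
    have h1 : χ.ker.index = (zpowers ū).index := by
      rw [hker, index_comap_of_surjective _ (QuotientGroup.mk'_surjective _)]
    rw [index_ker] at h1
    have h3 := (zpowers ū).card_mul_index
    have h4 := χ.range.card_mul_index
    rw [hz2, ← h1] at h3
    have hpos : 0 < Nat.card χ.range := Nat.card_pos
    rw [← h3] at h4
    exact Nat.eq_of_mul_eq_mul_left hpos (by rw [h4, mul_comm])
  have hūD : ū ∉ χ.range := by
    rintro ⟨x, hx⟩
    have hx' : f x * f ⟨r * x * r⁻¹, hrSm x x.2⟩ = ū := hx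
    have hrx : f ⟨r * x * r⁻¹, hrSm x x.2⟩ = f x * ū := by
      rw [← hx', ← mul_assoc, hsq2, one_mul]
    have hrp : ∀ (i : ℕ), r ^ i * (x : G) * (r ^ i)⁻¹ ∈ (S : Subgroup G) := fun i =>
      (mem_normalizer_iff.1 (pow_mem hrS i) _).1 x.2
    have hit : ∀ i : ℕ, f ⟨r ^ i * x * (r ^ i)⁻¹, hrp i⟩ = f x * ū ^ i := by
      intro i
      induction i with
      | zero =>
        rw [show (⟨r ^ 0 * (x : G) * (r ^ 0)⁻¹, hrp 0⟩ : (S : Subgroup G)) = x from Subtype.ext (by simp)]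
        simp
      | succ i ih =>
        have hd : f (⟨r ^ i * x * (r ^ i)⁻¹, hrp i⟩ * (x * (⟨u, huo.1⟩ : (S : Subgroup G)) ^ i)⁻¹) = 1 := by
          rw [map_mul, map_inv, map_mul, map_pow, ← hū, ← ih, mul_inv_cancel]
        have hk : r ^ i * (x : G) * (r ^ i)⁻¹ * ((x : G) * u ^ i)⁻¹ ∈ K :=
          (hmemK _).2 ⟨mul_mem (hrp i) (inv_mem (mul_mem x.2 (pow_mem huo.1 i))), fun y hy => by
            have := (hf _).1 hd y hy
            rwa [Subgroup.coe_mul, Subgroup.coe_inv, Subgroup.coe_mul, Subgroup.coe_pow] at this⟩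
        have hk' := (mem_normalizer_iff.1 hrK _).1 hk
        have hru : r * u ^ i * r⁻¹ = u ^ i := by
          rw [((mem_cw.1 huC).2.symm.pow_right i).eq, mul_inv_cancel_right]
        rw [show r * (r ^ i * (x : G) * (r ^ i)⁻¹ * ((x : G) * u ^ i)⁻¹) * r⁻¹ =
          r ^ (i + 1) * x * (r ^ (i + 1))⁻¹ * (r * x * r⁻¹ * (r * u ^ i * r⁻¹))⁻¹ by rw [pow_succ']; group,
          hru] at hk'
        have h2 : f (⟨r ^ (i + 1) * x * (r ^ (i + 1))⁻¹, hrp (i + 1)⟩ *
            (⟨r * x * r⁻¹, hrSm x x.2⟩ * (⟨u, huo.1⟩ : (S : Subgroup G)) ^ i)⁻¹) = 1 :=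
          (hf _).2 (fun y hy => by
            rw [Subgroup.coe_mul, Subgroup.coe_inv, Subgroup.coe_mul, Subgroup.coe_pow]
            exact hKS _ hk' y hy)
        rw [map_mul, map_inv, map_mul, map_pow, ← hū, mul_inv_eq_one, hrx] at h2
        rw [h2, mul_assoc, ← pow_succ']
    have hk := hit (orderOf r)
    obtain ⟨j, hj⟩ := hodd
    have hup : ū ^ orderOf r = ū := by rw [hj, pow_succ, pow_mul, pow_two, hsq2, one_pow, one_mul]
    rw [hup] at hk
    refine hū1 ((left_eq_mul (a := f x)).1 ?_)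
    rw [← hk]
    exact congrArg f (Subtype.ext (by simp [pow_orderOf_eq_one]))
  refine false_of_transfer hG (M := (χ.range.comap f).map (S : Subgroup G).subtype) (map_subtype_le _) ?_ huo ?_
  · rw [relIndex, subgroupOf, comap_map_eq_self_of_injective (S : Subgroup G).subtype_injective,
      index_comap_of_surjective _ (QuotientGroup.mk'_surjective _), hidx]
  · rintro x hx ⟨x', hx', rfl⟩
    have hxk : x' ∈ χ.ker := by
      show f x' * f ⟨r * x' * r⁻¹, hrSm x' x'.2⟩ = 1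
      rw [← map_mul]
      exact (hf _).2 fun y hy => by
        have h1 := hfix _ hx y hy
        rw [Subgroup.coe_subtype] at h1
        rw [Subgroup.coe_mul, hmul _ x'.2 _ (hrSm x' x'.2) y hy, h1]
        exact hG.setting.sq _ (hvalA _ x'.2 y hy)
    rw [hker, Subgroup.mem_comap, mem_zpowers_iff] at hxk
    obtain ⟨i, hi⟩ := hxk
    have hp : ū ^ i = 1 ∨ ū ^ i = ū := by
      rcases Int.even_or_odd i with ⟨k, rfl⟩ | ⟨k, rfl⟩
      · exact Or.inl (by rw [zpow_add, ← (Commute.refl ū).mul_zpow, hsq2, one_zpow])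
      · exact Or.inr (by rw [zpow_add, zpow_one, two_mul, zpow_add, ← (Commute.refl ū).mul_zpow, hsq2, one_zpow,
          one_mul])
    rcases hp with e | e
    · exact hwK _ hx ((hf x').1 (hi.symm.trans e))
    · exact hūD (by rw [← e, hi]; exact hx')

end CfsgLib.Gold.Rank2
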