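import Cfsg.Agent.Lib.Goldschmidt.Defs
import Cfsg.Agent.Lib.GW.Setting
import Cfsg.Agent.Lib.Bender.Binary.Models
import Cfsg.Agent.Lib.Invol.Basic
import Cfsg.Agent.S1237
import Cfsg.Agent.S3176

/-!
# Rank two without an involution outside `A`

The Sylow subgroup is homocyclic, so abelian, or that of `PSU(3, 4)`; this group has a strongly embedded
subgroup, which contains the centralizers of the involutions of `A`.
-/

set_option autoImplicit false
set_option linter.style.haveILetI false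

namespace CfsgLib.Gold.Rank2

open Subgroup

universe u

variable {G : Type u} [Group G] [Finite G]

theorem mem_triple {A : Subgroup G} (hA4 : Nat.card A = 4) (hsq : ∀ a ∈ A, a * a = 1) {a b x : G} (ha : a ∈ A)
    (hb : b ∈ A) (ha1 : a ≠ 1) (hb1 : b ≠ 1) (hab : a ≠ b) (hx : x ∈ A) (hx1 : x ≠ 1) :
    x = a ∨ x = b ∨ x = a * b := by
  classical
  by_contra h
  push_neg at h
  obtain ⟨h1, h2, h3⟩ := h
  have hab1 : a * b ≠ 1 := fun e => hab (by
    rw [← hsq a ha] at e
    exact (mul_left_cancel e).symm)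
  have hcard : ({1, a, b, a * b, x} : Finset G).card ≤ Nat.card A := by
    rw [← Nat.card_eq_finsetCard]
    refine Nat.card_le_card_of_injective (fun y => (⟨y.1, ?_⟩ : A)) fun y y' e => Subtype.ext (congrArg (·.1) e)
    have hy := y.2
    simp only [Finset.mem_insert, Finset.mem_singleton] at hy
    rcases hy with h | h | h | h | h <;> rw [h]
    exacts [one_mem _, ha, hb, mul_mem ha hb, hx]
  have hne1 : a * b ≠ a := fun e => hb1 (mul_left_cancel (e.trans (mul_one a).symm))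
  have hne2 : a * b ≠ b := fun e => ha1 (mul_right_cancel (e.trans (one_mul b).symm))
  rw [hA4, Finset.card_insert_of_notMem (by simp [ha1.symm, hb1.symm, hab1.symm, hx1.symm]),
    Finset.card_insert_of_notMem (by simp [hab, hne1.symm, h1.symm]),
    Finset.card_insert_of_notMem (by simp [hne2.symm, h2.symm]),
    Finset.card_insert_of_notMem (by simp [h3.symm]), Finset.card_singleton] at hcard
  omega

variable {S : Sylow 2 G} {A : Subgroup G}

/-- Fusion in `A` is done by the normalizer of `S`, and is transitive. -/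
theorem exists_conj_normalizer (h : Setting S A) (hA4 : Nat.card A = 4)
    (hcen : ∀ s ∈ (S : Subgroup G), ∀ a ∈ A, Commute s a) {a b : G} (ha : a ∈ A) (hb : b ∈ A)
    (ha1 : a ≠ 1) (hb1 : b ≠ 1) :
    ∃ n ∈ normalizer ((S : Subgroup G) : Set G), n * a * n⁻¹ = b := by
  have hburn : ∀ {x g : G}, x ∈ A → g * x * g⁻¹ ∈ A →
      ∃ n ∈ normalizer ((S : Subgroup G) : Set G), n * x * n⁻¹ = g * x * g⁻¹ := by
    intro x g hx hgx
    have hcx : ∀ {y : G}, y ∈ A → y ∈ centralizer ((S : Subgroup G) : Set G) := fun {y} hy =>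
      mem_centralizer_iff.2 fun s hs => hcen s hs y hy
    obtain ⟨n, hn, he⟩ := S.conj_eq_normalizer_conj_of_mem_centralizer x g⁻¹ (hcx hx) (by
      rw [inv_inv]; exact hcx hgx)
    refine ⟨n⁻¹, inv_mem hn, ?_⟩
    rw [inv_inv]
    rw [inv_inv] at he
    exact he.symm
  by_contra hno
  -- one of the three elements of `A` is then alone in its class
  have hiso : ∀ c ∈ A, c ≠ 1 → ∃ d ∈ A, d ≠ 1 ∧ d ≠ c ∧
      ∃ n ∈ normalizer ((S : Subgroup G) : Set G), n * c * n⁻¹ = d := by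
    intro c hc hc1
    by_contra hh
    push_neg at hh
    refine absurd (h.minimal (zpowers c) (zpowers_le.2 hc) (zpowers_ne_bot.2 hc1) ⟨?_, ?_⟩) ?_
    · exact zpowers_le.2 (h.closed.1 hc)
    · intro x hx g hg
      have hx' : x = 1 ∨ x = c := by
        obtain ⟨i, rfl⟩ := mem_zpowers_iff.1 hx
        rcases Int.even_or_odd i with ⟨j, rfl⟩ | ⟨j, rfl⟩
        · left; rw [← two_mul, zpow_mul, zpow_two, h.sq c hc, one_zpow]
        · right; rw [zpow_add_one, zpow_mul, zpow_two, h.sq c hc, one_zpow, one_mul]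
      rcases hx' with rfl | rfl
      · rw [mul_one, mul_inv_cancel]; exact one_mem _
      · have hgA := h.closed.2 x hc g hg
        obtain ⟨n, hn, he⟩ := hburn hc hgA
        by_cases hgx : g * x * g⁻¹ = x
        · rw [hgx]; exact mem_zpowers x
        · exact absurd he (hh _ hgA (fun e => hc1 (conj_eq_one_iff.1 e)) hgx n hn)
    · intro e
      have h2 : orderOf c = 2 := orderOf_eq_prime (by rw [sq, h.sq c hc]) hc1
      have := congrArg (fun B : Subgroup G => Nat.card B) e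
      rw [Nat.card_zpowers, h2, hA4] at this
      omega
  have hab : a ≠ b := fun e => hno ⟨1, one_mem _, by rw [e]; group⟩
  have htrip : ∀ {x : G}, x ∈ A → x ≠ 1 → x = a ∨ x = b ∨ x = a * b := fun {x} hx hx1 =>
    mem_triple hA4 h.sq ha hb ha1 hb1 hab hx hx1
  obtain ⟨d, hd, hd1, hda, n, hn, hnd⟩ := hiso a ha ha1
  obtain ⟨d', hd', hd1', hdb, n', hn', hnd'⟩ := hiso b hb hb1
  rcases htrip hd hd1 with e | e | e
  · exact hda e
  · exact hno ⟨n, hn, hnd.trans e⟩
  rcases htrip hd' hd1' with e' | e' | e'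
  · refine hno ⟨n'⁻¹, inv_mem hn', ?_⟩
    rw [← e', ← hnd']; group
  · exact hdb e'
  · refine hno ⟨n'⁻¹ * n, mul_mem (inv_mem hn') hn, ?_⟩
    rw [show n'⁻¹ * n * a * (n'⁻¹ * n)⁻¹ = n'⁻¹ * (n * a * n⁻¹) * n' by group, hnd, e, ← e', ← hnd']
    group

/-- There is an element of `N(S)` permuting the three involutions of `A` cyclically. -/
theorem exists_cycle (h : Setting S A) (hA4 : Nat.card A = 4)
    (hcen : ∀ s ∈ (S : Subgroup G), ∀ a ∈ A, Commute s a) :
    ∃ r ∈ normalizer ((S : Subgroup G) : Set G), ∀ a ∈ A, a ≠ 1 → ∀ b ∈ A, b ≠ 1 →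
      ∃ k : ℕ, r ^ k * a * (r ^ k)⁻¹ = b := by
  classical
  have hconjA : ∀ n ∈ normalizer ((S : Subgroup G) : Set G), ∀ a ∈ A, n * a * n⁻¹ ∈ A := fun n hn a ha =>
    h.closed.2 a ha n ((mem_normalizer_iff.1 hn a).1 (h.closed.1 ha))
  obtain ⟨a, ha, ha1⟩ : ∃ a ∈ A, a ≠ 1 :=
    (Subgroup.bot_or_exists_ne_one A).resolve_left h.ne_bot
  obtain ⟨b, hb, hb1, hab⟩ : ∃ b ∈ A, b ≠ 1 ∧ a ≠ b := by
    by_contra hh
    push_neg at hh
    have : Nat.card A ≤ 2 := by
      refine (Nat.card_le_card_of_injective (fun y : A => decide ((y : G) = 1)) fun y y' e => ?_).trans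
        (by simp)
      by_cases h1 : (y : G) = 1
      · exact Subtype.ext (h1.trans ((decide_eq_decide.1 e).1 h1).symm)
      · exact Subtype.ext ((hh y y.2 h1).symm.trans (hh y' y'.2 fun e' => h1 ((decide_eq_decide.1 e).2 e')))
    omega
  have htrip : ∀ {x : G}, x ∈ A → x ≠ 1 → x = a ∨ x = b ∨ x = a * b := fun {x} hx hx1 =>
    mem_triple hA4 h.sq ha hb ha1 hb1 hab hx hx1
  have hc1 : a * b ≠ 1 := fun e => hab (by
    rw [← h.sq a ha] at e
    exact (mul_left_cancel e).symm)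
  have hne : ∀ n : G, n ∈ normalizer ((S : Subgroup G) : Set G) → ∀ {x y : G}, x ≠ y → n * x * n⁻¹ ≠ n * y * n⁻¹ :=
    fun n _ x y hxy e => hxy (mul_left_cancel (mul_right_cancel e))
  have hca : a * b ≠ a := fun e => hb1 (mul_left_cancel (e.trans (mul_one a).symm))
  have hcb : a * b ≠ b := fun e => ha1 (mul_right_cancel (e.trans (one_mul b).symm))
  have hcmem : a * b ∈ A := mul_mem ha hb
  have hperm : ∀ n ∈ normalizer ((S : Subgroup G) : Set G), ∀ {x : G}, x ∈ A → x ≠ 1 →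
      n * x * n⁻¹ = a ∨ n * x * n⁻¹ = b ∨ n * x * n⁻¹ = a * b := fun n hn x hx hx1 =>
    htrip (hconjA n hn x hx) fun e => hx1 (conj_eq_one_iff.1 e)
  -- a cycle
  suffices hcyc : ∃ r ∈ normalizer ((S : Subgroup G) : Set G), ∃ x y z : G, r * x * r⁻¹ = y ∧ r * y * r⁻¹ = z ∧
      r * z * r⁻¹ = x ∧ ({x, y, z} : Set G) = {a, b, a * b} by
    obtain ⟨r, hr, x, y, z, hxy, hyz, hzx, hset⟩ := hcyc
    have hpow : ∀ {u v w : G}, r * u * r⁻¹ = v → r * v * r⁻¹ = w →
        r ^ 1 * u * (r ^ 1)⁻¹ = v ∧ r ^ 2 * u * (r ^ 2)⁻¹ = w := fun {u v w} h1 h2 =>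
      ⟨by rw [pow_one]; exact h1, by rw [← h2, ← h1, sq]; group⟩
    refine ⟨r, hr, fun p hp hp1 q hq hq1 => ?_⟩
    have hmem : ∀ {u : G}, u ∈ A → u ≠ 1 → u = x ∨ u = y ∨ u = z := fun {u} hu hu1 => by
      have : u ∈ ({x, y, z} : Set G) := by
        rw [hset]
        rcases htrip hu hu1 with e | e | e <;> simp [e]
      simpa using this
    have h0 : ∀ u : G, r ^ 0 * u * (r ^ 0)⁻¹ = u := fun u => by simp
    rcases hmem hp hp1 with rfl | rfl | rfl <;> rcases hmem hq hq1 with rfl | rfl | rfl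
    · exact ⟨0, h0 _⟩
    · exact ⟨1, (hpow hxy hyz).1⟩
    · exact ⟨2, (hpow hxy hyz).2⟩
    · exact ⟨2, (hpow hyz hzx).2⟩
    · exact ⟨0, h0 _⟩
    · exact ⟨1, (hpow hyz hzx).1⟩
    · exact ⟨1, (hpow hzx hxy).1⟩
    · exact ⟨2, (hpow hzx hxy).2⟩
    · exact ⟨0, h0 _⟩
  obtain ⟨n, hn, hnab⟩ := exists_conj_normalizer h hA4 hcen ha hb ha1 hb1
  obtain ⟨m, hm, hmac⟩ := exists_conj_normalizer h hA4 hcen ha hcmem ha1 hc1
  rcases hperm n hn hb hb1 with e | e | e
  · -- `n` exchanges `a` and `b`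
    have hnc : n * (a * b) * n⁻¹ = a * b := by
      rcases hperm n hn hcmem hc1 with e' | e' | e'
      · exact absurd (e'.trans e.symm) (hne n hn hcb)
      · exact absurd (e'.trans hnab.symm) (hne n hn hca)
      · exact e'
    rcases hperm m hm hcmem hc1 with e' | e' | e'
    · -- `m` exchanges `a` and `a * b`
      have hmb : m * b * m⁻¹ = b := by
        rcases hperm m hm hb hb1 with e'' | e'' | e''
        · exact absurd (e''.trans e'.symm) (hne m hm hcb.symm)
        · exact e''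
        · exact absurd (e''.trans hmac.symm) (hne m hm hab.symm)
      refine ⟨n * m, mul_mem hn hm, a, a * b, b, ?_, ?_, ?_, ?_⟩
      · rw [show n * m * a * (n * m)⁻¹ = n * (m * a * m⁻¹) * n⁻¹ by group, hmac, hnc]
      · rw [show n * m * (a * b) * (n * m)⁻¹ = n * (m * (a * b) * m⁻¹) * n⁻¹ by group, e', hnab]
      · rw [show n * m * b * (n * m)⁻¹ = n * (m * b * m⁻¹) * n⁻¹ by group, hmb, e]
      · ext u; simp only [Set.mem_insert_iff, Set.mem_singleton_iff]; tauto
    · refine ⟨m, hm, a, a * b, b, hmac, e', ?_, ?_⟩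
      · rcases hperm m hm hb hb1 with e'' | e'' | e''
        · exact e''
        · exact absurd (e''.trans e'.symm) (hne m hm hcb.symm)
        · exact absurd (e''.trans hmac.symm) (hne m hm hab.symm)
      · ext u; simp only [Set.mem_insert_iff, Set.mem_singleton_iff]; tauto
    · exact absurd (e'.trans hmac.symm) (hne m hm hca)
  · exact absurd (e.trans hnab.symm) (hne n hn hab.symm)
  · refine ⟨n, hn, a, b, a * b, hnab, e, ?_, rfl⟩
    rcases hperm n hn hcmem hc1 with e' | e' | e'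
    · exact e'
    · exact absurd (e'.trans hnab.symm) (hne n hn hca)
    · exact absurd (e'.trans e.symm) (hne n hn hcb)

/-- Rank two: some involution of `S` is outside `A`. -/
theorem exists_outer (h : Setting S A) (hA4 : Nat.card A = 4)
    (hcen : ∀ s ∈ (S : Subgroup G), ∀ a ∈ A, Commute s a) :
    ∃ x, x ∈ (S : Subgroup G) ∧ x * x = 1 ∧ x ∉ A := by
  classical
  haveI := h.simple
  haveI : Fact (Nat.Prime 2) := ⟨Nat.prime_two⟩
  by_contra hno
  push_neg at hno
  have hAS : A ≤ (S : Subgroup G) := h.closed.1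
  obtain ⟨r, hr, hrt⟩ := exists_cycle h hA4 hcen
  let φ : MulAut (S : Subgroup G) := (S : Subgroup G).normalizerMonoidHom ⟨r, hr⟩
  have hφ : ∀ (k : ℕ) (s : (S : Subgroup G)), ((φ ^ k) s : G) = r ^ k * (s : G) * (r ^ k)⁻¹ := by
    intro k
    induction k with
    | zero => intro s; simp
    | succ k ih =>
      intro s
      rw [pow_succ', MulAut.mul_apply, Subgroup.normalizerMonoidHom_apply_apply_coe, ih, pow_succ']
      show r * _ * r⁻¹ = _
      group
  have hinv : ∀ {s : (S : Subgroup G)}, orderOf s = 2 → (s : G) ∈ A ∧ (s : G) ≠ 1 := fun {s} hs => by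
    have hs' : orderOf (s : G) = 2 := by rwa [Subgroup.orderOf_coe]
    refine ⟨hno _ s.2 (by rw [← sq]; exact orderOf_dvd_iff_pow_eq_one.1 (dvd_of_eq hs')), fun e => ?_⟩
    rw [e, orderOf_one] at hs'
    omega
  have h2 : Cfsg.PRankLE 2 2 (S : Subgroup G) := by
    intro B _ hB
    refine le_trans ?_ (le_of_eq hA4)
    refine Nat.card_le_card_of_injective (fun y => (⟨((y : (S : Subgroup G)) : G), hno _ y.1.2 ?_⟩ : A))
      fun y y' e => Subtype.ext (Subtype.ext (congrArg (·.1) e))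
    have := hB y y.2
    rw [sq] at this
    exact congrArg Subtype.val this
  have h1 : ¬ Cfsg.PRankLE 2 1 (S : Subgroup G) := fun hh => by
    have := hh (A.subgroupOf (S : Subgroup G)) (isMulCommutative_iff.2 fun x y => Subtype.ext (Subtype.ext
      (hcen _ x.1.2 _ y.2).eq)) (fun x hx => Subtype.ext (by rw [sq]; exact h.sq _ hx))
    rw [Nat.card_congr (subgroupOfEquivOfLe hAS).toEquiv, hA4] at this
    norm_num at this
  letI : Fintype (GaloisField 2 4) := Fintype.ofFinite _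
  have hK : Fintype.card (GaloisField 2 4) = 16 := by
    rw [← Nat.card_eq_fintype_card, GaloisField.card 2 4 (by norm_num)]; norm_num
  obtain ⟨P⟩ : Nonempty (Sylow 2 (Cfsg.PSU 3 (GaloisField 2 4) 4)) := inferInstance
  rcases Cfsg.Agent.S1237.result S.2 h2 h1 φ (fun s t hs ht => by
      obtain ⟨k, hk⟩ := hrt _ (hinv hs).1 (hinv hs).2 _ (hinv ht).1 (hinv ht).2
      exact ⟨k, Subtype.ext (by rw [hφ]; exact hk)⟩) hK P with ⟨n, -, ⟨e⟩⟩ | he
  · exact h.sylow_noncomm (isMulCommutative_iff.2 fun x y => e.injective (by rw [map_mul, map_mul, mul_comm]))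
  have hO : Cfsg.oddCore G = ⊥ := by
    refine (inferInstance : (Cfsg.oddCore G).Normal).eq_bot_or_eq_top.resolve_right fun hh => ?_
    have h' := GW.odd_oddCore G
    rw [hh, card_top] at h'
    exact h'.not_two_dvd_nat ((show 2 ∣ Nat.card A by omega).trans (card_subgroup_dvd_card A))
  have hO' : ∀ N : Subgroup G, N.Normal → Odd N.index → N = ⊤ := fun N hN hodd =>
    hN.eq_bot_or_eq_top.resolve_left fun hh => by
      rw [hh, index_bot] at hodd
      exact hodd.not_two_dvd_nat ((show 2 ∣ Nat.card A by omega).trans (card_subgroup_dvd_card A))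
  rcases Cfsg.Agent.S3176.result hK S P he hO hO' with hf | htop
  · obtain ⟨f⟩ := hf
    obtain ⟨M, hM1, hM2, hM3⟩ := CfsgLib.Bender.Binary.se_psu (F := GaloisField 2 4) (n := 2) le_rfl
      (by rw [hK]; norm_num)
    obtain ⟨i, hi⟩ := exists_prime_orderOf_dvd_card' (G := M) 2 (even_iff_two_dvd.1 hM2)
    -- the conjugate of `M` containing an involution of `A`
    have hx2 : orderOf (f.symm (i : Cfsg.PSU 3 (GaloisField 2 4) 4)) = 2 := by
      rw [MulEquiv.orderOf_eq, Subgroup.orderOf_coe, hi]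
    obtain ⟨c, hc⟩ := CfsgLib.Invol.exists_conj_le_sylow (IsPGroup.of_card (p := 2) (n := 1)
      (G := zpowers (f.symm (i : Cfsg.PSU 3 (GaloisField 2 4) 4))) (by rw [Nat.card_zpowers, hx2, pow_one])) S
    have hcS := hc _ (mem_zpowers _)
    have hcA : c * f.symm (i : Cfsg.PSU 3 (GaloisField 2 4) 4) * c⁻¹ ∈ A := hno _ hcS (by
      rw [← sq, conj_pow, show f.symm (i : Cfsg.PSU 3 (GaloisField 2 4) 4) ^ 2 = 1 from
        orderOf_dvd_iff_pow_eq_one.1 (dvd_of_eq hx2)]; group)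
    set a₀ := c * f.symm (i : Cfsg.PSU 3 (GaloisField 2 4) 4) * c⁻¹ with ha₀
    have hcent : ∀ {a : G}, a ∈ A → a ≠ 1 → f c⁻¹ * f a * (f c⁻¹)⁻¹ ∈ M → ∀ g ∈ centralizer ({a} : Set G),
        f c⁻¹ * f g * (f c⁻¹)⁻¹ ∈ M := by
      intro a ha ha1 haM g hg
      by_contra hgM
      set A' := f c⁻¹ * f a * (f c⁻¹)⁻¹ with hA'
      set g' := f c⁻¹ * f g * (f c⁻¹)⁻¹ with hg'
      have hcomm : g' * A' = A' * g' := by
        have h' := congrArg f (mem_centralizer_singleton_iff.1 hg)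
        rw [map_mul, map_mul] at h'
        rw [hA', hg', show f c⁻¹ * f g * (f c⁻¹)⁻¹ * (f c⁻¹ * f a * (f c⁻¹)⁻¹) = f c⁻¹ * (f g * f a) * (f c⁻¹)⁻¹ by group,
          h']
        group
      have hmem : A' ∈ M ⊓ M.map (MulAut.conj g').toMonoidHom :=
        ⟨haM, A', haM, by show g' * A' * g'⁻¹ = A'; rw [hcomm, mul_inv_cancel_right]⟩
      have hA2 : orderOf A' = 2 := by
        rw [hA', ← MulAut.conj_apply, MulEquiv.orderOf_eq, MulEquiv.orderOf_eq]
        exact orderOf_eq_prime (by rw [sq, h.sq a ha]) ha1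
      have h' := Subgroup.orderOf_dvd_natCard _ hmem
      rw [hA2] at h'
      exact (hM3 g' hgM).not_two_dvd_nat h'
    have ha₀M : f c⁻¹ * f a₀ * (f c⁻¹)⁻¹ ∈ M := by
      simp [ha₀, mul_assoc]
    have ha₀1 : a₀ ≠ 1 := fun e => by
      rw [ha₀, conj_eq_one_iff] at e
      rw [e, orderOf_one] at hx2
      omega
    set H := M.comap ((MulAut.conj (f c⁻¹)).toMonoidHom.comp f.toMonoidHom) with hH
    have hle : ∀ a ∈ A, a ≠ 1 → centralizer ({a} : Set G) ≤ H := fun a ha ha1 g hg =>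
      hcent ha ha1 (hcent hcA ha₀1 ha₀M a (mem_centralizer_singleton_iff.2
        (hcen a (hAS ha) a₀ hcA).eq)) g hg
    have htop' : H = ⊤ := top_le_iff.1 (h.gen ▸ iSup_le fun t => hle t t.2.1 fun e => by
      have := t.2.2
      rw [e, orderOf_one] at this
      omega)
    refine hM1 (top_le_iff.1 fun y _ => ?_)
    have hy : f.symm ((f c⁻¹)⁻¹ * y * f c⁻¹) ∈ H := htop' ▸ mem_top _
    simpa [hH, mul_assoc] using hy
  · refine h.sylow_noncomm ?_
    have hp : IsPGroup 2 G := fun g => by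
      obtain ⟨k, hk⟩ := S.2 ⟨g, htop ▸ mem_top g⟩
      exact ⟨k, congrArg Subtype.val hk⟩
    haveI : Nontrivial G := (‹IsSimpleGroup G›).toNontrivial
    exact absurd (isMulCommutative_iff.2 fun a b => IsSimpleGroup.comm_iff_isSolvable.2
      (haveI := hp.isNilpotent; inferInstance) a b) h.noncomm

end CfsgLib.Gold.Rank2
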