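import Cfsg.Agent.Lib.Goldschmidt.Rank2.Defs
import Cfsg.Agent.Lib.Invol.L34Type.Main
import Cfsg.Agent.Lib.Fusion.Tate
import Cfsg.Agent.Lib.Invol.Basic

/-!
# Rank two with largest centralizers of order sixteen

If the coordinate subgroup is a Sylow subgroup, the group embeds in `PGL(3, 4)` and is too small. Otherwise an
element outside exchanges the two elementary subgroups, and the Sylow subgroup has order `128`. The rotation of
`A` fixes an involution `u` outside, which is not fused into the coordinate subgroup: the three products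
`d = a (u a u)` satisfy `u d u = d ^ 3`, which forces one coordinate, but their classes sum to zero. The
transfer gives a subgroup of index two.
-/

set_option autoImplicit false
set_option linter.unusedSectionVars false
set_option linter.style.haveILetI false

namespace CfsgLib.Gold.Rank2

open Subgroup
open CfsgLib.Invol.HeisFour (V fm H4 mul_def inv_def one_def self_add)
open CfsgLib.Invol.L34Type (subA subB subZ mem_subA mem_subB mem_subZ Frame)

universe u

theorem h4_invol : ∀ p : H4, p * p = 1 → p.b = 0 ∨ p.a = 0 := by decide +kernel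

theorem h4_cube : ∀ x0 x y : V, fm x0 y = fm x y → y ≠ 0 → x = x0 := by decide +kernel

theorem h4_fm_ne : ∀ x y : V, x ≠ 0 → y ≠ 0 → fm x y ≠ 0 := by decide +kernel

theorem h4_comm : ∀ p q : H4, (p * q * p⁻¹ * q⁻¹).b = 0 ∧ (p * q * p⁻¹ * q⁻¹).a = 0 := by decide +kernel

theorem h4_conj : ∀ w p : H4, w.b = 0 → w * p * w = ⟨p.a, p.b, p.c + fm w.a p.b⟩ := by decide +kernel

theorem h4_cubed : ∀ p : H4, p * p * p = ⟨p.a, p.b, p.c + fm p.a p.b⟩ := by decide +kernel

theorem h4_rel : ∀ x y c : V, (⟨0, y, c⟩ : H4) * ⟨x, 0, 0⟩ = (⟨x, 0, 0⟩ * ⟨0, y, c⟩) * (⟨x, 0, 0⟩ * ⟨0, y, c⟩) *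
    (⟨x, 0, 0⟩ * ⟨0, y, c⟩) := by decide +kernel

theorem h4_cube_inv : ∀ q : H4, (q * (q * q * q)⁻¹).b = 0 ∧ (q * (q * q * q)⁻¹).a = 0 := by decide +kernel

theorem h4_basis : ((1, 0) : V) ≠ 0 ∧ ((0, 1) : V) ≠ 0 ∧ ((1, 1) : V) ≠ 0 ∧ ((1, 0) : V) + (0, 1) + (1, 1) = 0 ∧
    (⟨(1, 0), 0, 0⟩ : H4) * ⟨(0, 1), 0, 0⟩ = ⟨(1, 1), 0, 0⟩ := by decide +kernel

theorem h4_split : ∀ p : H4, p = (⟨p.a, 0, p.c + fm p.a p.b⟩ : H4) * ⟨0, p.b, 0⟩ := by decide +kernel

theorem card_pgl {K : Type*} [Field K] [Fintype K] (hK : Fintype.card K = 4) :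
    Nat.card (GL (Fin 3) K ⧸ Subgroup.center (GL (Fin 3) K)) = 60480 := by
  have h := Subgroup.card_eq_card_quotient_mul_card_subgroup (Subgroup.center (GL (Fin 3) K))
  rw [Matrix.card_GL_field] at h
  have hc : Nat.card (Subgroup.center (GL (Fin 3) K)) = 3 := by
    have hinj : Function.Injective (Matrix.GeneralLinearGroup.scalar (Fin 3) : Kˣ →* GL (Fin 3) K) := by
      intro a b e
      have h1 := congrArg (fun M : GL (Fin 3) K => (M : Matrix (Fin 3) (Fin 3) K) 0 0) e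
      exact Units.ext (by simpa [Matrix.scalar] using h1)
    rw [Matrix.GeneralLinearGroup.center_eq_range_scalar, ← Nat.card_congr (MonoidHom.ofInjective hinj).toEquiv,
      Nat.card_units, Nat.card_eq_fintype_card, hK]
  rw [hc, Fin.prod_univ_three, hK] at h
  norm_num at h
  omega

variable {G : Type u} [Group G] [Finite G]

/-- The elements of `N(A)` centralizing `w` modulo `A`. -/
def modCent (A : Subgroup G) (w : G) : Subgroup G where
  carrier := {x | x ∈ normalizer (A : Set G) ∧ x * w * x⁻¹ * w⁻¹ ∈ A}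
  one_mem' := ⟨one_mem _, by simp⟩
  mul_mem' := by
    rintro x y ⟨hx, hxw⟩ ⟨hy, hyw⟩
    refine ⟨mul_mem hx hy, ?_⟩
    rw [show x * y * w * (x * y)⁻¹ * w⁻¹ = x * (y * w * y⁻¹ * w⁻¹) * x⁻¹ * (x * w * x⁻¹ * w⁻¹) by group]
    exact mul_mem ((mem_normalizer_iff.1 hx _).1 hyw) hxw
  inv_mem' := by
    rintro x ⟨hx, hxw⟩
    refine ⟨inv_mem hx, ?_⟩
    rw [show x⁻¹ * w * x⁻¹⁻¹ * w⁻¹ = x⁻¹ * (x * w * x⁻¹ * w⁻¹)⁻¹ * x⁻¹⁻¹ by group]
    exact (mem_normalizer_iff.1 (inv_mem hx) _).1 (inv_mem hxw)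

variable {S : Sylow 2 G} {A : Subgroup G}

theorem Ground.mem_normalizer (hG : Ground S A) {x : G} (hx : x ∈ (S : Subgroup G)) :
    x ∈ normalizer (A : Set G) := mem_normalizer_iff.2 fun a => by
  constructor
  · intro ha
    rw [(hG.central x hx a ha).eq, mul_inv_cancel_right]; exact ha
  · intro ha
    have h := (hG.central x⁻¹ (inv_mem hx) _ ha).eq
    rw [show x⁻¹ * (x * a * x⁻¹) = a * x⁻¹ by group] at h
    rw [mul_right_cancel h]; exact ha

theorem Ground.mem_A_of_conj (hG : Ground S A) {c x : G} (hx : x ∈ (S : Subgroup G))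
    (hc : c * x * c⁻¹ ∈ A) : x ∈ A := by
  have h := hG.setting.closed.2 _ hc c⁻¹ (by
    rw [show c⁻¹ * (c * x * c⁻¹) * c⁻¹⁻¹ = x by group]; exact hx)
  rwa [show c⁻¹ * (c * x * c⁻¹) * c⁻¹⁻¹ = x by group] at h

namespace Coord

variable (C : Coord S A)

theorem hom_mem (p : H4) : C.θ p ∈ (S : Subgroup G) := C.le ⟨p, rfl⟩

theorem hom_mem_Z {p : H4} : C.θ p ∈ A ↔ p.b = 0 ∧ p.a = 0 := by
  have h : C.θ p ∈ subZ.map C.θ ↔ p ∈ subZ := mem_map_iff_mem C.inj
  rw [C.map_Z] at h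
  exact h.trans mem_subZ

theorem A_le : A ≤ subA.map C.θ := C.map_Z.ge.trans (map_mono inf_le_left)

theorem A_le' : A ≤ subB.map C.θ := C.map_Z.ge.trans (map_mono inf_le_right)

theorem eq_of_elem {E : Subgroup G} (hEP : E ≤ C.θ.range) (hE : ∀ x ∈ E, x * x = 1) (h16 : Nat.card E = 16) :
    E = subA.map C.θ ∨ E = subB.map C.θ := by
  have hcases : ∀ x ∈ E, x ∈ subA.map C.θ ∨ x ∈ subB.map C.θ := by
    intro x hx
    obtain ⟨p, rfl⟩ := hEP hx
    have := hE _ hx
    rw [← map_mul, ← map_one C.θ] at this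
    exact (h4_invol p (C.inj this)).imp (fun h => ⟨p, h, rfl⟩) fun h => ⟨p, h, rfl⟩
  have hcard : ∀ W : Subgroup H4, Nat.card W ≤ 16 → E ≤ W.map C.θ → E = W.map C.θ := fun W hW hle =>
    eq_of_le_of_card_ge hle (by rw [card_map_of_injective C.inj, h16]; exact hW)
  have hA16 : Nat.card subA ≤ 16 := by
    refine le_trans (Nat.card_le_card_of_injective (fun p : subA => ((p : H4).a, (p : H4).c)) fun p q e =>
      Subtype.ext (CfsgLib.Invol.HeisFour.H4.ext' (congrArg Prod.fst e) (by rw [mem_subA.1 p.2, mem_subA.1 q.2])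
        (congrArg Prod.snd e))) (by simp)
  have hB16 : Nat.card subB ≤ 16 := by
    refine le_trans (Nat.card_le_card_of_injective (fun p : subB => ((p : H4).b, (p : H4).c)) fun p q e =>
      Subtype.ext (CfsgLib.Invol.HeisFour.H4.ext' (by rw [mem_subB.1 p.2, mem_subB.1 q.2]) (congrArg Prod.fst e)
        (congrArg Prod.snd e))) (by simp)
  by_cases h : E ≤ subA.map C.θ
  · exact Or.inl (hcard _ hA16 h)
  refine Or.inr (hcard _ hB16 fun y hy => ?_)
  obtain ⟨x, hx, hxA⟩ := SetLike.not_le_iff_exists.1 h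
  have hxB := (hcases x hx).resolve_left hxA
  rcases hcases y hy with hyA | hyB
  · rcases hcases (x * y) (mul_mem hx hy) with h' | h'
    · exact absurd ((Subgroup.mul_mem_cancel_right _ hyA).1 h') hxA
    · exact (Subgroup.mul_mem_cancel_left _ hxB).1 h'
  · exact hyB

theorem A_le_S : subA.map C.θ ≤ (S : Subgroup G) := (map_le_range C.θ _).trans C.le

theorem B_le_S : subB.map C.θ ≤ (S : Subgroup G) := (map_le_range C.θ _).trans C.le

theorem sq_A {x : G} (hx : x ∈ subA.map C.θ) : x * x = 1 := by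
  obtain ⟨p, hp, rfl⟩ := hx
  rw [← map_mul, CfsgLib.Invol.L34Type.mul_self_subA p hp, map_one]

theorem sq_B {x : G} (hx : x ∈ subB.map C.θ) : x * x = 1 := by
  obtain ⟨p, hp, rfl⟩ := hx
  rw [← map_mul, show p * p = 1 from by
    have : ∀ p : H4, p.a = 0 → p * p = 1 := by decide +kernel
    exact this p hp, map_one]

theorem card_map_A : Nat.card (subA.map C.θ) = 16 := by
  rw [card_map_of_injective C.inj]
  have e : subA ≃ V × V :=
    { toFun := fun p => (p.1.a, p.1.c)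
      invFun := fun t => ⟨⟨t.1, 0, t.2⟩, rfl⟩
      left_inv := fun p => Subtype.ext (CfsgLib.Invol.HeisFour.H4.ext' rfl p.2.symm rfl)
      right_inv := fun t => rfl }
  rw [Nat.card_congr e]; simp

theorem card_map_B : Nat.card (subB.map C.θ) = 16 := by
  rw [card_map_of_injective C.inj]
  have e : subB ≃ V × V :=
    { toFun := fun p => (p.1.b, p.1.c)
      invFun := fun t => ⟨⟨0, t.1, t.2⟩, rfl⟩
      left_inv := fun p => Subtype.ext (CfsgLib.Invol.HeisFour.H4.ext' p.2.symm rfl rfl)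
      right_inv := fun t => rfl }
  rw [Nat.card_congr e]; simp

theorem card_range : Nat.card C.θ.range = 64 := by
  rw [← Nat.card_congr (MonoidHom.ofInjective C.inj).toEquiv, CfsgLib.Invol.HeisFour.card_H4]

theorem range_le_of {H : Subgroup G} (hA : subA.map C.θ ≤ H) (hB : subB.map C.θ ≤ H) : C.θ.range ≤ H := by
  rintro _ ⟨p, rfl⟩
  rw [h4_split p, map_mul]
  exact mul_mem (hA ⟨_, rfl, rfl⟩) (hB ⟨_, rfl, rfl⟩)

/-- An elementary subgroup of order sixteen over `A` lies in the coordinate subgroup, when the elements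
outside it of an overgroup multiply into it. -/
theorem le_range {N E : Subgroup G} (hN : ∀ x ∈ N, ∀ y ∈ N, x ∉ C.θ.range → y ∉ C.θ.range → x * y ∈ C.θ.range)
    (hNS : N ≤ (S : Subgroup G)) (hA4 : Nat.card A = 4) (hEN : E ≤ N) (hE : ∀ x ∈ E, x * x = 1)
    (h16 : Nat.card E = 16) : E ≤ C.θ.range := by
  classical
  intro v hv
  by_contra hvP
  have hcomm : ∀ x ∈ E, ∀ y ∈ E, x * y = y * x := fun x hx y hy => by
    have h := hE _ (mul_mem hx hy)
    calc x * y = (x * y)⁻¹ := (inv_eq_of_mul_eq_one_right h).symm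
      _ = y * x := by rw [mul_inv_rev, inv_eq_of_mul_eq_one_right (hE x hx), inv_eq_of_mul_eq_one_right (hE y hy)]
  have hin : ∀ x ∈ E, x ∈ C.θ.range → x ∈ A := by
    rintro _ hx ⟨p, rfl⟩
    by_contra hpA
    have h1 := hE _ hx
    rw [← map_mul, ← map_one C.θ] at h1
    have hpZ : p ∉ subZ := fun h => hpA (C.hom_mem_Z.2 (mem_subZ.1 h))
    rcases h4_invol p (C.inj h1) with h | h
    · exact hvP (map_le_range C.θ _ (C.cent_A p h hpZ v (hNS (hEN hv)) (hcomm v hv _ hx)))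
    · exact hvP (map_le_range C.θ _ (C.cent_B p h hpZ v (hNS (hEN hv)) (hcomm v hv _ hx)))
  have hle : Nat.card E ≤ Nat.card (A × Bool) := by
    refine Nat.card_le_card_of_injective (fun x : E =>
      if h : (x : G) ∈ C.θ.range then ((⟨x, hin x x.2 h⟩ : A), true)
      else ((⟨v * x, hin _ (mul_mem hv x.2) (hN v (hEN hv) x (hEN x.2) hvP h)⟩ : A), false)) fun x y e => ?_
    dsimp only at e
    split_ifs at e with hx hy
    · exact Subtype.ext (congrArg (fun t : A × Bool => (t.1 : G)) e)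
    · exact Bool.noConfusion (congrArg Prod.snd e)
    · exact Bool.noConfusion (congrArg Prod.snd e)
    · exact Subtype.ext (mul_left_cancel (congrArg (fun t : A × Bool => (t.1 : G)) e))
  rw [Nat.card_prod, h16, hA4, Nat.card_eq_fintype_card, Fintype.card_bool] at hle
  omega

end Coord

theorem exists_grow {p : ℕ} [Fact p.Prime] {P K : Subgroup G} (hP : IsPGroup p P) (hKP : K ≤ P) (hne : K ≠ P) :
    ∃ x ∈ P, x ∉ K ∧ ∀ y ∈ K, x * y * x⁻¹ ∈ K := by
  haveI := hP.isNilpotent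
  have hlt : K.subgroupOf P < ⊤ := lt_top_iff_ne_top.2 fun e => hne (le_antisymm hKP (subgroupOf_eq_top.1 e))
  obtain ⟨x, hx, hxK⟩ := SetLike.exists_of_lt (Group.normalizerCondition_of_isNilpotent _ hlt)
  exact ⟨x, x.2, fun h => hxK h, fun y hy =>
    (mem_normalizer_iff.1 hx ⟨y, hKP hy⟩).1 hy⟩

/-- The coordinate subgroup is the Sylow subgroup: the group embeds in `PGL(3, 4)`. -/
theorem false_of_range_eq (hG : Ground S A) (C : Coord S A) (he : C.θ.range = (S : Subgroup G)) : False := by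
  classical
  haveI := hG.setting.simple
  haveI : Fact (Nat.Prime 2) := ⟨Nat.prime_two⟩
  let F : Frame G := ⟨S, (MonoidHom.ofInjective C.inj).trans (MulEquiv.subgroupCongr he)⟩
  have hO : Cfsg.oddCore G = ⊥ := by
    refine (inferInstance : (Cfsg.oddCore G).Normal).eq_bot_or_eq_top.resolve_right fun hh => ?_
    have h' := GW.odd_oddCore G
    rw [hh, card_top] at h'
    exact h'.not_two_dvd_nat
      ((show 2 ∣ Nat.card A by rw [hG.card_A]; norm_num).trans (card_subgroup_dvd_card A))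
  letI : Fintype (GaloisField 2 2) := Fintype.ofFinite _
  have hK : Fintype.card (GaloisField 2 2) = 4 := by
    rw [← Nat.card_eq_fintype_card, GaloisField.card 2 2 (by norm_num)]; norm_num
  obtain ⟨f, hf⟩ := F.embedding hO hK
  apply hG.large
  rw [← card_pgl hK]
  exact Subgroup.card_dvd_of_injective f hf

/-- Elements of `S` outside the coordinate subgroup exchange its elementary subgroups. -/
structure Swap (C : Coord S A) : Prop where
  AB : ∀ x ∈ (S : Subgroup G), x ∉ C.θ.range → ∀ y ∈ subA.map C.θ, x * y * x⁻¹ ∈ subB.map C.θ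
  BA : ∀ x ∈ (S : Subgroup G), x ∉ C.θ.range → ∀ y ∈ subB.map C.θ, x * y * x⁻¹ ∈ subA.map C.θ
  two : ∀ x ∈ (S : Subgroup G), ∀ y ∈ (S : Subgroup G), x ∉ C.θ.range → y ∉ C.θ.range → x * y ∈ C.θ.range

theorem exists_swap (hG : Ground S A) (C : Coord S A) (hne : C.θ.range ≠ (S : Subgroup G)) :
    (∃ g ∈ (S : Subgroup G), g ∉ C.θ.range) ∧ Swap C := by
  classical
  haveI : Fact (Nat.Prime 2) := ⟨Nat.prime_two⟩
  set P := C.θ.range with hP
  set EA := subA.map C.θ with hEA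
  set EB := subB.map C.θ with hEB
  have hAP : EA ≤ P := map_le_range C.θ _
  have hBP : EB ≤ P := map_le_range C.θ _
  have himg : ∀ (E : Subgroup G), (∀ y ∈ E, y * y = 1) → Nat.card E = 16 → ∀ x : G,
      (∀ y ∈ E, x * y * x⁻¹ ∈ P) → (∀ y ∈ E, x * y * x⁻¹ ∈ EA) ∨ ∀ y ∈ E, x * y * x⁻¹ ∈ EB := by
    intro E hE h16 x hx
    rcases C.eq_of_elem (E := E.map (MulAut.conj x).toMonoidHom) (by rintro _ ⟨y, hy, rfl⟩; exact hx y hy)
      (by rintro _ ⟨y, hy, rfl⟩; rw [← map_mul, hE y hy, map_one])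
      ((card_map_of_injective (MulAut.conj x).injective).trans h16) with h | h
    · exact Or.inl fun y hy => h.le ⟨y, hy, rfl⟩
    · exact Or.inr fun y hy => h.le ⟨y, hy, rfl⟩
  set N := (S : Subgroup G) ⊓ normalizer (P : Set G) with hN
  have hdiff : EA ≠ EB := fun e => by
    have : C.θ ⟨(1, 0), 0, 0⟩ ∈ EB := e ▸ ⟨_, rfl, rfl⟩
    rw [hEB, mem_map_iff_mem C.inj, mem_subB] at this
    exact one_ne_zero (congrArg Prod.fst this)
  have hsw : ∀ x ∈ N, x ∉ P → (∀ y ∈ EA, x * y * x⁻¹ ∈ EB) ∧ ∀ y ∈ EB, x * y * x⁻¹ ∈ EA := by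
    intro x hx hxP
    have hn : ∀ y ∈ P, x * y * x⁻¹ ∈ P := fun y hy => (mem_normalizer_iff.1 hx.2 y).1 hy
    exact ⟨(himg EA (fun y hy => C.sq_A hy) C.card_map_A x fun y hy => hn y (hAP hy)).resolve_left
        fun h => hxP (C.norm_A x hx.1 h),
      (himg EB (fun y hy => C.sq_B hy) C.card_map_B x fun y hy => hn y (hBP hy)).resolve_right
        fun h => hxP (C.norm_B x hx.1 h)⟩
  have hprod : ∀ x ∈ N, ∀ y ∈ N, x ∉ P → y ∉ P → x * y ∈ P := by
    intro x hx y hy hxP hyP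
    refine C.norm_A _ (mul_mem hx.1 hy.1) fun z hz => ?_
    rw [show x * y * z * (x * y)⁻¹ = x * (y * z * y⁻¹) * x⁻¹ by group]
    exact (hsw x hx hxP).2 _ ((hsw y hy hyP).1 z hz)
  have hNS : N = (S : Subgroup G) := by
    by_contra hNne
    obtain ⟨x, hxS, hxN, hx⟩ := exists_grow S.2 (inf_le_left : N ≤ (S : Subgroup G)) hNne
    refine hxN ⟨hxS, CfsgLib.ProdFusion.mem_of_forall_conj_mem fun y hy => ?_⟩
    have hPN : P ≤ N := le_inf C.le le_normalizer
    have hle : ∀ E : Subgroup G, (∀ z ∈ E, z * z = 1) → Nat.card E = 16 → E ≤ P → ∀ z ∈ E, x * z * x⁻¹ ∈ P := by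
      intro E hE h16 hEP z hz
      exact C.le_range hprod inf_le_left hG.card_A (E := E.map (MulAut.conj x).toMonoidHom)
        (by rintro _ ⟨z', hz', rfl⟩; exact hx _ (hPN (hEP hz')))
        (by rintro _ ⟨z', hz', rfl⟩; rw [← map_mul, hE z' hz', map_one])
        ((card_map_of_injective (MulAut.conj x).injective).trans h16) ⟨z, hz, rfl⟩
    exact C.range_le_of (H := P.comap (MulAut.conj x).toMonoidHom)
      (fun z hz => hle EA (fun z hz => C.sq_A hz) C.card_map_A hAP z hz)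
      (fun z hz => hle EB (fun z hz => C.sq_B hz) C.card_map_B hBP z hz) hy
  refine ⟨?_, ⟨fun x hx h => (hsw x (hNS.ge hx) h).1, fun x hx h => (hsw x (hNS.ge hx) h).2,
    fun x hx y hy => hprod x (hNS.ge hx) y (hNS.ge hy)⟩⟩
  by_contra h
  push_neg at h
  exact hne (le_antisymm C.le h)

/-- The rotation, of order a power of three. -/
theorem exists_rot (hG : Ground S A) : ∃ (r : G) (k : ℕ), r ∈ normalizer ((S : Subgroup G) : Set G) ∧
    r ^ 3 ^ k = 1 ∧ (∀ a ∈ A, r * a * r⁻¹ ∈ A) ∧ ∀ a ∈ A, a ≠ 1 → r * a * r⁻¹ ≠ a := by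
  classical
  obtain ⟨r, hr, -, hrA, hfix⟩ := hG.rot
  have hsq := hG.setting.sq
  have hcomm : ∀ a ∈ A, ∀ b ∈ A, a * b = b * a := fun a ha b hb =>
    (hG.central a (hG.setting.closed.1 ha) b hb).eq
  have hne : ∀ a ∈ A, a ≠ 1 → r * a * r⁻¹ ≠ 1 := fun a _ ha1 e => ha1 (conj_eq_one_iff.1 e)
  -- the rotation has order three on `A`
  have key : ∀ a ∈ A, a ≠ 1 → r ^ 3 * a * (r ^ 3)⁻¹ = a ∧ r ^ 2 * a * (r ^ 2)⁻¹ ≠ a := by
    intro a ha ha1
    set b := r * a * r⁻¹ with hb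
    set c := r * b * r⁻¹ with hc
    have hbA : b ∈ A := hrA a ha
    have hcA : c ∈ A := hrA b hbA
    have hb1 : b ≠ 1 := hne a ha ha1
    have hc1 : c ≠ 1 := hne b hbA hb1
    have hab : a * b ≠ 1 := fun e => hfix a ha ha1 (by
      rw [← hsq a ha] at e
      exact mul_left_cancel e)
    have hca : c ≠ a := fun e => hfix (a * b) (mul_mem ha hbA) hab (by
      rw [show r * (a * b) * r⁻¹ = (r * a * r⁻¹) * (r * b * r⁻¹) by group, ← hb, ← hc, e, hcomm b hbA a ha])
    have hba : b ≠ a := hfix a ha ha1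
    have hcb : c ≠ b := hfix b hbA hb1
    have hcab : c = a * b := by
      by_contra hne'
      have hle : ({1, a, b, c, a * b} : Finset G).card ≤ Nat.card A := by
        rw [← Nat.card_eq_finsetCard]
        refine Nat.card_le_card_of_injective (fun y => (⟨y.1, ?_⟩ : A)) fun y y' e =>
          Subtype.ext (congrArg (·.1) e)
        have hy := y.2
        simp only [Finset.mem_insert, Finset.mem_singleton] at hy
        rcases hy with h | h | h | h | h <;> rw [h]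
        exacts [one_mem _, ha, hbA, hcA, mul_mem ha hbA]
      have h2 : a * b ≠ a := fun e => hb1 (mul_left_cancel (e.trans (mul_one a).symm))
      have h3 : a * b ≠ b := fun e => ha1 (mul_right_cancel (e.trans (one_mul b).symm))
      rw [hG.card_A, Finset.card_insert_of_notMem (by simp [ha1.symm, hb1.symm, hc1.symm, hab.symm]),
        Finset.card_insert_of_notMem (by simp [hba.symm, hca.symm, h2.symm]),
        Finset.card_insert_of_notMem (by simp [hcb.symm, h3.symm]),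
        Finset.card_insert_of_notMem (by simp [hne']), Finset.card_singleton] at hle
      omega
    constructor
    · rw [show r ^ 3 * a * (r ^ 3)⁻¹ = r * (r * (r * a * r⁻¹) * r⁻¹) * r⁻¹ by
        rw [pow_succ, pow_succ, pow_one]; group, ← hb, ← hc, hcab,
        show r * (a * b) * r⁻¹ = (r * a * r⁻¹) * (r * b * r⁻¹) by group, ← hb, ← hc, hcab,
        hcomm a ha b hbA, ← mul_assoc, hsq b hbA, one_mul]
    · rw [show r ^ 2 * a * (r ^ 2)⁻¹ = r * (r * a * r⁻¹) * r⁻¹ by rw [pow_succ, pow_one]; group, ← hb, ← hc]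
      exact hca
  obtain ⟨k, m, hm, ho⟩ := Nat.exists_eq_pow_mul_and_not_dvd (orderOf_pos r).ne' 3 (by norm_num)
  have h3 : ∀ (j : ℕ), ∀ a ∈ A, a ≠ 1 → (r ^ 3) ^ j * a * ((r ^ 3) ^ j)⁻¹ = a := by
    intro j
    induction j with
    | zero => intro a _ _; simp
    | succ j ih =>
      intro a ha ha1
      rw [pow_succ, show (r ^ 3) ^ j * r ^ 3 * a * ((r ^ 3) ^ j * r ^ 3)⁻¹ =
        (r ^ 3) ^ j * (r ^ 3 * a * (r ^ 3)⁻¹) * ((r ^ 3) ^ j)⁻¹ by group, (key a ha ha1).1, ih a ha ha1]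
  refine ⟨r ^ m, k, pow_mem hr m, by rw [← pow_mul, mul_comm, ← ho, pow_orderOf_eq_one], ?_, ?_⟩
  · intro a ha
    clear hm ho
    induction m with
    | zero => simpa using ha
    | succ m ih =>
      rw [pow_succ', show r * r ^ m * a * (r * r ^ m)⁻¹ = r * (r ^ m * a * (r ^ m)⁻¹) * r⁻¹ by group]
      exact hrA _ ih
  · intro a ha ha1
    obtain ⟨j, hj⟩ : ∃ j, m = 3 * j + 1 ∨ m = 3 * j + 2 := ⟨m / 3, by omega⟩
    rcases hj with rfl | rfl
    · rw [pow_add, pow_mul, pow_one, show (r ^ 3) ^ j * r * a * ((r ^ 3) ^ j * r)⁻¹ =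
        (r ^ 3) ^ j * (r * a * r⁻¹) * ((r ^ 3) ^ j)⁻¹ by group, h3 j _ (hrA a ha) (hne a ha ha1)]
      exact hfix a ha ha1
    · have hA2 : r ^ 2 * a * (r ^ 2)⁻¹ ∈ A := by
        rw [show r ^ 2 * a * (r ^ 2)⁻¹ = r * (r * a * r⁻¹) * r⁻¹ by rw [pow_succ, pow_one]; group]
        exact hrA _ (hrA a ha)
      rw [pow_add, pow_mul, show (r ^ 3) ^ j * r ^ 2 * a * ((r ^ 3) ^ j * r ^ 2)⁻¹ =
        (r ^ 3) ^ j * (r ^ 2 * a * (r ^ 2)⁻¹) * ((r ^ 3) ^ j)⁻¹ by group,
        h3 j _ hA2 fun e => ha1 (conj_eq_one_iff.1 e)]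
      exact (key a ha ha1).2

/-- An involution outside fixed by the rotation; in the coordinate subgroup it centralizes only `A`. -/
theorem exists_outside (hG : Ground S A) (C : Coord S A) (hw : Swap C) {g : G} (hg : g ∈ (S : Subgroup G))
    (hgP : g ∉ C.θ.range) : ∃ v ∈ (S : Subgroup G), v ∉ C.θ.range ∧ v * v = 1 := by
  classical
  obtain ⟨r, k, hr, hrk, hrA, hfix⟩ := exists_rot hG
  set P := C.θ.range with hP
  have hrS : ∀ x ∈ (S : Subgroup G), r * x * r⁻¹ ∈ (S : Subgroup G) := fun x hx => (mem_normalizer_iff.1 hr x).1 hx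
  -- the rotation fixes both elementary subgroups
  have hmap : ∀ E : Subgroup G, (∀ z ∈ E, z * z = 1) → Nat.card E = 16 → E ≤ (S : Subgroup G) → ∀ s : G,
      (∀ x ∈ (S : Subgroup G), s * x * s⁻¹ ∈ (S : Subgroup G)) →
      E.map (MulAut.conj s).toMonoidHom = subA.map C.θ ∨ E.map (MulAut.conj s).toMonoidHom = subB.map C.θ := by
    intro E hE h16 hES s hs
    have hsq : ∀ x ∈ E.map (MulAut.conj s).toMonoidHom, x * x = 1 := by
      rintro _ ⟨z, hz, rfl⟩; rw [← map_mul, hE z hz, map_one]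
    have hc : Nat.card (E.map (MulAut.conj s).toMonoidHom) = 16 :=
      (card_map_of_injective (MulAut.conj s).injective).trans h16
    exact C.eq_of_elem (C.le_range hw.two le_rfl hG.card_A
      (by rintro _ ⟨z, hz, rfl⟩; exact hs z (hES hz)) hsq hc) hsq hc
  set cr := (MulAut.conj r).toMonoidHom with hcr
  have hinj : Function.Injective cr := (MulAut.conj r).injective
  have hboth : (subA.map C.θ).map cr = subA.map C.θ ∧ (subB.map C.θ).map cr = subB.map C.θ := by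
    have hne : subA.map C.θ ≠ subB.map C.θ := fun e => by
      have : C.θ ⟨(1, 0), 0, 0⟩ ∈ subB.map C.θ := e ▸ ⟨_, rfl, rfl⟩
      rw [mem_map_iff_mem C.inj, mem_subB] at this
      exact one_ne_zero (congrArg Prod.fst this)
    have hA := hmap _ (fun z hz => C.sq_A hz) C.card_map_A C.A_le_S r hrS
    have hB := hmap _ (fun z hz => C.sq_B hz) C.card_map_B C.B_le_S r hrS
    rcases hA with hA | hA
    · exact ⟨hA, hB.resolve_left fun e => hne (map_injective hinj (hA.trans e.symm))⟩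
    exfalso
    have hB' : (subB.map C.θ).map cr = subA.map C.θ :=
      hB.resolve_right fun e => hne (map_injective hinj (hA.trans e.symm))
    have hpow : ∀ j : ℕ, (subA.map C.θ).map (MulAut.conj (r ^ (2 * j + 1))).toMonoidHom = subB.map C.θ := by
      intro j
      induction j with
      | zero => simpa using hA
      | succ j ih =>
        have hm : ∀ (H : Subgroup G) (s t : G), H.map (MulAut.conj (s * t)).toMonoidHom =
            (H.map (MulAut.conj t).toMonoidHom).map (MulAut.conj s).toMonoidHom := fun H s t => by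
          rw [Subgroup.map_map]
          congr 1
          ext x
          simp [mul_assoc]
        rw [show 2 * (j + 1) + 1 = 2 * j + 1 + 1 + 1 by ring, pow_succ' r (2 * j + 1 + 1), hm,
          pow_succ' r (2 * j + 1), hm, ih]
        exact (congrArg (Subgroup.map cr) hB').trans hA
    obtain ⟨j, hj⟩ := (by decide : Odd 3).pow (n := k)
    have := hpow j
    rw [← hj, hrk, map_one] at this
    exact hne (by rw [← this]; exact (Subgroup.map_id _).symm)
  have hrP : ∀ x ∈ P, r * x * r⁻¹ ∈ P := fun x hx => C.range_le_of (H := P.comap cr)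
    (fun z hz => map_le_range C.θ subA (hboth.1.le ⟨z, hz, rfl⟩))
    (fun z hz => map_le_range C.θ subB (hboth.2.le ⟨z, hz, rfl⟩)) hx
  have hrP' : ∀ x, r * x * r⁻¹ ∈ P → x ∈ P := fun x hx => by
    have hiter : ∀ j : ℕ, r ^ j * (r * x * r⁻¹) * (r ^ j)⁻¹ ∈ P := by
      intro j
      induction j with
      | zero => simpa using hx
      | succ j ih =>
        rw [pow_succ', show r * r ^ j * (r * x * r⁻¹) * (r * r ^ j)⁻¹ =
          r * (r ^ j * (r * x * r⁻¹) * (r ^ j)⁻¹) * r⁻¹ by group]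
        exact hrP _ ih
    have h1 := hiter (3 ^ k - 1)
    rwa [show r ^ (3 ^ k - 1) * (r * x * r⁻¹) * (r ^ (3 ^ k - 1))⁻¹ =
      r ^ (3 ^ k - 1 + 1) * x * (r ^ (3 ^ k - 1 + 1))⁻¹ by rw [pow_succ]; group,
      Nat.sub_add_cancel (Nat.one_le_pow _ _ (by norm_num)), hrk, inv_one, mul_one, one_mul] at h1
  -- a fixed point in the coset
  let Ω := {x : G // x ∈ (S : Subgroup G) ∧ x ∉ P}
  let f : Ω → Ω := fun x => ⟨r * x.1 * r⁻¹, hrS _ x.2.1, fun h => x.2.2 (hrP' _ h)⟩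
  have hf : Function.Injective f := fun x y e =>
    Subtype.ext (mul_left_cancel (mul_right_cancel (congrArg Subtype.val e)))
  let σ : Equiv.Perm Ω := Equiv.ofBijective f (Finite.injective_iff_bijective.1 hf)
  have hσ : ∀ (j : ℕ) (x : Ω), ((σ ^ j) x).1 = r ^ j * x.1 * (r ^ j)⁻¹ := by
    intro j
    induction j with
    | zero => intro x; simp
    | succ j ih =>
      intro x
      rw [pow_succ', Equiv.Perm.mul_apply, pow_succ' r,
        show r * r ^ j * x.1 * (r * r ^ j)⁻¹ = r * (r ^ j * x.1 * (r ^ j)⁻¹) * r⁻¹ by group, ← ih x]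
      rfl
  haveI : Fact (Nat.Prime 3) := ⟨Nat.prime_three⟩
  have hσ1 : σ ^ 3 ^ k = 1 := Equiv.ext fun x => Subtype.ext (by rw [hσ, hrk]; simp)
  have hcard : Nat.card Ω = 64 := by
    rw [← C.card_range]
    exact Nat.card_congr
      { toFun := fun x => (⟨g * x.1, hw.two g hg x.1 x.2.1 hgP x.2.2⟩ : P)
        invFun := fun p => ⟨g⁻¹ * p.1, mul_mem (inv_mem hg) (C.le p.2), fun h => hgP (by
          have := mul_mem p.2 (inv_mem h)
          rw [mul_inv_rev, inv_inv, mul_inv_cancel_left] at this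
          exact this)⟩
        left_inv := fun x => Subtype.ext (by simp)
        right_inv := fun p => Subtype.ext (by simp) }
  letI : Fintype Ω := Fintype.ofFinite Ω
  obtain ⟨v, hv⟩ := Equiv.Perm.exists_fixed_point_of_prime (p := 3) (n := k) (σ := σ)
    (by rw [← Nat.card_eq_fintype_card, hcard]; norm_num) hσ1
  have hvr : r * v.1 * r⁻¹ = v.1 := congrArg Subtype.val hv
  refine ⟨v.1, v.2.1, v.2.2, ?_⟩
  -- only the identity of the coordinate subgroup is fixed
  have hAfix : ∀ a ∈ A, r * a * r⁻¹ = a → a = 1 := fun a ha e => by_contra fun h => hfix a ha h e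
  obtain ⟨p, hp⟩ := hw.two v.1 v.2.1 v.1 v.2.1 v.2.2 v.2.2
  have hp2 : C.θ p * C.θ p = 1 := by
    refine hAfix _ ?_ ?_
    · rw [← map_mul, C.hom_mem_Z]
      exact (by decide +kernel : ∀ q : H4, (q * q).b = 0 ∧ (q * q).a = 0) p
    · rw [hp, show r * (v.1 * v.1 * (v.1 * v.1)) * r⁻¹ =
        (r * v.1 * r⁻¹) * (r * v.1 * r⁻¹) * ((r * v.1 * r⁻¹) * (r * v.1 * r⁻¹)) by group, hvr]
  rw [← map_mul, ← map_one C.θ] at hp2
  have hpA : C.θ p ∈ A := by
    by_contra hpA
    have hpZ : p ∉ subZ := fun h => hpA (C.hom_mem_Z.2 (mem_subZ.1 h))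
    have hcm : Commute v.1 (C.θ p) := by rw [hp]; exact (Commute.refl v.1).mul_right (Commute.refl v.1)
    rcases h4_invol p (C.inj hp2) with h | h
    · exact v.2.2 (map_le_range C.θ _ (C.cent_A p h hpZ _ v.2.1 hcm))
    · exact v.2.2 (map_le_range C.θ _ (C.cent_B p h hpZ _ v.2.1 hcm))
  rw [← hp]
  exact hAfix _ hpA (by
    rw [hp, show r * (v.1 * v.1) * r⁻¹ = (r * v.1 * r⁻¹) * (r * v.1 * r⁻¹) by group, hvr])

/-- The involution outside is not fused into the coordinate subgroup. -/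
theorem not_fused (hG : Ground S A) (C : Coord S A) (hw : Swap C) {v : G} (hv : v ∈ (S : Subgroup G))
    (hvP : v ∉ C.θ.range) (hvv : v * v = 1) (h : G) (hh : h * v * h⁻¹ ∈ C.θ.range) : False := by
  classical
  haveI : Fact (Nat.Prime 2) := ⟨Nat.prime_two⟩
  have hvA : v ∉ A := fun e => hvP (map_le_range C.θ _ (C.A_le e))
  -- into the first elementary subgroup
  obtain ⟨h₁, w, hwv, hwA, hwE⟩ : ∃ (h₁ w : G), h₁ * v * h₁⁻¹ = w ∧ w ∉ A ∧ w ∈ subA.map C.θ := by
    have hwA : h * v * h⁻¹ ∉ A := fun e => hvA (hG.mem_A_of_conj hv e)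
    have hw1 : (h * v * h⁻¹) * (h * v * h⁻¹) = 1 := by
      rw [show h * v * h⁻¹ * (h * v * h⁻¹) = h * (v * v) * h⁻¹ by group, hvv]; group
    obtain ⟨p, hp⟩ := hh
    have hp1 : p * p = 1 := C.inj (by rw [map_mul, hp, hw1, map_one])
    rcases h4_invol p hp1 with hb | ha
    · exact ⟨h, _, rfl, hwA, hp ▸ ⟨p, hb, rfl⟩⟩
    · refine ⟨v * h, v * (h * v * h⁻¹) * v⁻¹, by group, ?_, hw.BA v hv hvP _ (hp ▸ ⟨p, ha, rfl⟩)⟩
      intro e
      refine hwA ?_
      have := (mem_normalizer_iff.1 (hG.mem_normalizer hv) _).2 e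
      exact this
  obtain ⟨pw, hpw, hpwe⟩ := id hwE
  have hwS : w ∈ (S : Subgroup G) := C.A_le_S hwE
  have hpwZ : pw ∉ subZ := fun e => hwA (hpwe ▸ C.hom_mem_Z.2 (mem_subZ.1 e))
  -- move `A` to itself inside `C(w)`
  set EA := subA.map C.θ with hEA
  have hEC : EA ≤ centralizer ({w} : Set G) := by
    rintro _ ⟨p, hp, rfl⟩
    rw [mem_centralizer_singleton_iff, ← hpwe, ← map_mul, ← map_mul,
      CfsgLib.Invol.L34Type.comm_subA p hp pw hpw]
  obtain ⟨Q, hQ⟩ := (((IsPGroup.of_card (p := 2) (n := 4) (G := EA) (by rw [C.card_map_A]; norm_num)).of_equiv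
    (subgroupOfEquivOfLe hEC).symm)).exists_le_sylow
  have hQeq : (Q : Subgroup (centralizer ({w} : Set G))) = EA.subgroupOf (centralizer ({w} : Set G)) := by
    refine (eq_of_le_of_card_ge hQ ?_).symm
    rw [Nat.card_congr (subgroupOfEquivOfLe hEC).toEquiv, C.card_map_A]
    obtain ⟨c, hc⟩ := CfsgLib.Invol.exists_conj_le_sylow (Q.2.map (centralizer ({w} : Set G)).subtype) S
    have hwQ : (⟨w, mem_centralizer_singleton_iff.2 rfl⟩ : centralizer ({w} : Set G)) ∈
        (Q : Subgroup (centralizer ({w} : Set G))) := hQ hwE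
    have hcw : c * w * c⁻¹ ∈ (S : Subgroup G) := hc _ ⟨_, hwQ, rfl⟩
    have hout : Outer S A (c * w * c⁻¹) := ⟨hcw, by
      rw [show c * w * c⁻¹ * (c * w * c⁻¹) = c * (w * w) * c⁻¹ by group, C.sq_A hwE]; group,
      fun e => hwA (hG.mem_A_of_conj hwS e)⟩
    refine le_trans ?_ (C.max_le _ hout)
    refine Nat.card_le_card_of_injective (fun y => (⟨c * ((y : centralizer ({w} : Set G)) : G) * c⁻¹,
      hc _ ⟨_, y.2, rfl⟩, mem_centralizer_singleton_iff.2 ?_⟩ :
        ((S : Subgroup G) ⊓ centralizer ({c * w * c⁻¹} : Set G) : Subgroup G))) fun y y' e =>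
      Subtype.ext (Subtype.ext (mul_left_cancel (mul_right_cancel (congrArg Subtype.val e))))
    have := mem_centralizer_singleton_iff.1 (y : centralizer ({w} : Set G)).2
    rw [show c * ((y : centralizer ({w} : Set G)) : G) * c⁻¹ * (c * w * c⁻¹) =
      c * (((y : centralizer ({w} : Set G)) : G) * w) * c⁻¹ by group, this]
    group
  have hAC : ∀ a ∈ A, h₁ * a * h₁⁻¹ ∈ centralizer ({w} : Set G) := fun a ha =>
    mem_centralizer_singleton_iff.2 (by
      rw [← hwv, show h₁ * a * h₁⁻¹ * (h₁ * v * h₁⁻¹) = h₁ * (a * v) * h₁⁻¹ by group,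
        ← (hG.central v hv a ha).eq]; group)
  obtain ⟨c, hc⟩ := CfsgLib.Invol.exists_conj_le_sylow (G := centralizer ({w} : Set G))
    (Q := (A.map (MulAut.conj h₁).toMonoidHom).subgroupOf (centralizer ({w} : Set G)))
    ((IsPGroup.of_card (p := 2) (n := 2) (G := A.map (MulAut.conj h₁).toMonoidHom) (by
      rw [card_map_of_injective (MulAut.conj h₁).injective, hG.card_A]; norm_num)).of_equiv
      (subgroupOfEquivOfLe (by rintro _ ⟨a, ha, rfl⟩; exact hAC a ha)).symm) Q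
  set k₁ := (c : G) * h₁ with hk₁
  have hk₁v : k₁ * v * k₁⁻¹ = w := by
    rw [hk₁, show (c : G) * h₁ * v * ((c : G) * h₁)⁻¹ = c * (h₁ * v * h₁⁻¹) * (c : G)⁻¹ by group, hwv,
      mem_centralizer_singleton_iff.1 c.2, mul_inv_cancel_right]
  have hk₁A : k₁ ∈ normalizer (A : Set G) := CfsgLib.ProdFusion.mem_of_forall_conj_mem fun a ha => by
    refine hG.setting.closed.2 a ha k₁ ?_
    have := hc ⟨h₁ * a * h₁⁻¹, hAC a ha⟩ (show h₁ * a * h₁⁻¹ ∈ A.map (MulAut.conj h₁).toMonoidHom from ⟨a, ha, rfl⟩)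
    have := hQeq.le this
    rw [hk₁, show (c : G) * h₁ * a * ((c : G) * h₁)⁻¹ = c * (h₁ * a * h₁⁻¹) * (c : G)⁻¹ by group]
    exact C.A_le_S this
  -- the coordinate subgroup is a Sylow subgroup of `C(w mod A)`
  set P := C.θ.range with hP
  have hPM : P ≤ modCent A w := by
    rintro _ ⟨p, rfl⟩
    refine ⟨hG.mem_normalizer (C.hom_mem p), ?_⟩
    rw [← hpwe, ← map_inv, ← map_inv, ← map_mul, ← map_mul, ← map_mul, C.hom_mem_Z]
    exact h4_comm p pw
  obtain ⟨R, hR⟩ := ((IsPGroup.of_card (p := 2) (n := 6) (G := P) (by rw [C.card_range]; norm_num)).of_equiv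
    (subgroupOfEquivOfLe hPM).symm).exists_le_sylow
  have hS128 : Nat.card (S : Subgroup G) ≤ 128 := by
    rw [show (128 : ℕ) = Nat.card (P × Bool) by rw [Nat.card_prod, C.card_range]; simp]
    exact Nat.card_le_card_of_injective (fun x : (S : Subgroup G) =>
      if hx : (x : G) ∈ P then ((⟨x, hx⟩ : P), true) else ((⟨v * x, hw.two v hv x x.2 hvP hx⟩ : P), false))
      fun x y e => by
        dsimp only at e
        split_ifs at e with hx hy
        · exact Subtype.ext (congrArg (fun t : P × Bool => (t.1 : G)) e)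
        · exact Bool.noConfusion (congrArg Prod.snd e)
        · exact Bool.noConfusion (congrArg Prod.snd e)
        · exact Subtype.ext (mul_left_cancel (congrArg (fun t : P × Bool => (t.1 : G)) e))
  have hReq : (R : Subgroup (modCent A w)) = P.subgroupOf (modCent A w) := by
    refine (eq_of_le_of_card_ge hR ?_).symm
    rw [Nat.card_congr (subgroupOfEquivOfLe hPM).toEquiv, C.card_range]
    by_contra hlt
    push_neg at hlt
    obtain ⟨d, hd⟩ := CfsgLib.Invol.exists_conj_le_sylow (R.2.map (modCent A w).subtype) S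
    obtain ⟨n, hn⟩ := R.2.exists_card_eq
    have h128 : 128 ≤ Nat.card (R : Subgroup (modCent A w)) := by
      rw [hn] at hlt ⊢
      have : 6 < n := by
        by_contra hle
        push_neg at hle
        have := Nat.pow_le_pow_right (by norm_num : 0 < 2) hle
        omega
      exact le_trans (by norm_num) (Nat.pow_le_pow_right (by norm_num : 0 < 2) this)
    let φ : ↥(R : Subgroup (modCent A w)) → (S : Subgroup G) :=
      fun y => ⟨d * ((y : modCent A w) : G) * d⁻¹, hd _ ⟨_, y.2, rfl⟩⟩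
    have hφ : Function.Bijective φ := Nat.bijective_iff_injective_and_card _ |>.2 ⟨fun y y' e =>
      Subtype.ext (Subtype.ext (mul_left_cancel (mul_right_cancel (congrArg Subtype.val e)))),
      le_antisymm (Nat.card_le_card_of_injective φ fun y y' e =>
        Subtype.ext (Subtype.ext (mul_left_cancel (mul_right_cancel (congrArg Subtype.val e))))) (hS128.trans h128)⟩
    have hdA : d ∈ normalizer (A : Set G) := CfsgLib.ProdFusion.mem_of_forall_conj_mem fun a ha =>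
      hG.setting.closed.2 a ha d (hd a ⟨⟨a, hPM (map_le_range C.θ _ (C.A_le ha))⟩,
        hR (show a ∈ P from map_le_range C.θ _ (C.A_le ha)), rfl⟩)
    set w' := d * w * d⁻¹ with hw'
    have hw'S : w' ∈ (S : Subgroup G) := hd w ⟨⟨w, hPM (map_le_range C.θ _ hwE)⟩,
      hR (show w ∈ P from map_le_range C.θ _ hwE), rfl⟩
    have hw'A : w' ∉ A := fun e => hwA (hG.mem_A_of_conj hwS e)
    have hall : ∀ x ∈ (S : Subgroup G), x * w' * x⁻¹ * w'⁻¹ ∈ A := by
      intro x hx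
      obtain ⟨y, hy⟩ := hφ.2 ⟨x, hx⟩
      have hy' : d * ((y : modCent A w) : G) * d⁻¹ = x := congrArg Subtype.val hy
      rw [← hy', hw', show d * ((y : modCent A w) : G) * d⁻¹ * (d * w * d⁻¹) *
          (d * ((y : modCent A w) : G) * d⁻¹)⁻¹ * (d * w * d⁻¹)⁻¹ =
          d * (((y : modCent A w) : G) * w * ((y : modCent A w) : G)⁻¹ * w⁻¹) * d⁻¹ by group]
      exact (mem_normalizer_iff.1 hdA _).1 (y : modCent A w).2.2
    by_cases hw'P : w' ∈ P
    · obtain ⟨p, hp⟩ := hw'P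
      have hp1 : p * p = 1 := C.inj (by
        rw [map_mul, hp, hw', show d * w * d⁻¹ * (d * w * d⁻¹) = d * (w * w) * d⁻¹ by group, C.sq_A hwE]
        simp)
      have hx := hall v hv
      rcases h4_invol p hp1 with hb | ha
      · have h1 : v * w' * v⁻¹ ∈ subB.map C.θ := hw.AB v hv hvP _ (hp ▸ ⟨p, hb, rfl⟩)
        have h2 : w' ∈ subB.map C.θ := by
          have h3 := mul_mem (inv_mem (C.A_le' hx)) h1
          rwa [show (v * w' * v⁻¹ * w'⁻¹)⁻¹ * (v * w' * v⁻¹) = w' by group] at h3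
        rw [← hp, mem_map_iff_mem C.inj, mem_subB] at h2
        exact hw'A (hp ▸ C.hom_mem_Z.2 ⟨hb, h2⟩)
      · have h1 : v * w' * v⁻¹ ∈ subA.map C.θ := hw.BA v hv hvP _ (hp ▸ ⟨p, ha, rfl⟩)
        have h2 : w' ∈ subA.map C.θ := by
          have h3 := mul_mem (inv_mem (C.A_le hx)) h1
          rwa [show (v * w' * v⁻¹ * w'⁻¹)⁻¹ * (v * w' * v⁻¹) = w' by group] at h3
        rw [← hp, mem_map_iff_mem C.inj, mem_subA] at h2
        exact hw'A (hp ▸ C.hom_mem_Z.2 ⟨h2, ha⟩)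
    · set e : H4 := ⟨(1, 0), 0, 0⟩ with he
      have hae : C.θ e ∈ subA.map C.θ := ⟨e, rfl, rfl⟩
      have hx := hall (C.θ e) (C.hom_mem e)
      have h1 : w' * C.θ e * w'⁻¹ ∈ subB.map C.θ := hw.AB w' hw'S hw'P _ hae
      have h2 : C.θ e ∈ subB.map C.θ := by
        have := mul_mem (C.A_le' hx) h1
        rwa [show C.θ e * w' * (C.θ e)⁻¹ * w'⁻¹ * (w' * C.θ e * w'⁻¹) = C.θ e by group] at this
      rw [mem_map_iff_mem C.inj, mem_subB] at h2
      exact one_ne_zero (congrArg Prod.fst h2)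
  -- move the centralizer of `v` modulo `A` into `P`
  set T : Subgroup G := ((S : Subgroup G) ⊓ modCent A v).map (MulAut.conj k₁).toMonoidHom with hT
  have hTM : T ≤ modCent A w := by
    rintro _ ⟨x, ⟨-, hxA, hxv⟩, rfl⟩
    refine ⟨mul_mem (mul_mem hk₁A hxA) (inv_mem hk₁A), ?_⟩
    show k₁ * x * k₁⁻¹ * w * (k₁ * x * k₁⁻¹)⁻¹ * w⁻¹ ∈ A
    rw [← hk₁v, show k₁ * x * k₁⁻¹ * (k₁ * v * k₁⁻¹) * (k₁ * x * k₁⁻¹)⁻¹ * (k₁ * v * k₁⁻¹)⁻¹ =
      k₁ * (x * v * x⁻¹ * v⁻¹) * k₁⁻¹ by group]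
    exact (mem_normalizer_iff.1 hk₁A _).1 hxv
  obtain ⟨c₂, hc₂⟩ := CfsgLib.Invol.exists_conj_le_sylow (G := modCent A w) (Q := T.subgroupOf (modCent A w))
    (((S.2.to_le inf_le_left).map _).of_equiv (subgroupOfEquivOfLe hTM).symm) R
  set k := (c₂ : G) * k₁ with hk
  have hkA : k ∈ normalizer (A : Set G) := mul_mem c₂.2.1 hk₁A
  have hkT : ∀ x ∈ (S : Subgroup G), x * v * x⁻¹ * v⁻¹ ∈ A → k * x * k⁻¹ ∈ P := by
    intro x hx hxv
    have hxT : k₁ * x * k₁⁻¹ ∈ T := ⟨x, ⟨hx, hG.mem_normalizer hx, hxv⟩, rfl⟩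
    have h' := hc₂ ⟨_, hTM hxT⟩ hxT
    have h' := hReq.le h'
    rw [hk, show (c₂ : G) * k₁ * x * ((c₂ : G) * k₁)⁻¹ = c₂ * (k₁ * x * k₁⁻¹) * (c₂ : G)⁻¹ by group]
    exact h'
  have hkv : k * v * k⁻¹ ∈ EA := by
    rw [hk, show (c₂ : G) * k₁ * v * ((c₂ : G) * k₁)⁻¹ = c₂ * (k₁ * v * k₁⁻¹) * (c₂ : G)⁻¹ by group, hk₁v,
      show (c₂ : G) * w * (c₂ : G)⁻¹ = c₂ * w * (c₂ : G)⁻¹ * w⁻¹ * w by group]
    exact mul_mem (C.A_le c₂.2.2) hwE
  obtain ⟨pv, hpv, hpve⟩ := hkv
  -- the products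
  have hd : ∀ x : V, x ≠ 0 → ∃ (y : V) (q p : H4), q.a = x ∧ q.b = y ∧
      (∃ c : V, v * C.θ ⟨x, 0, 0⟩ * v = C.θ ⟨0, y, c⟩) ∧
      k * C.θ q * k⁻¹ = C.θ p ∧ p.a = pv.a := by
    intro x hx
    obtain ⟨b, hb, hbe⟩ := hw.AB v hv hvP (C.θ ⟨x, 0, 0⟩) ⟨⟨x, 0, 0⟩, rfl, rfl⟩
    have hvi : v⁻¹ = v := inv_eq_of_mul_eq_one_right hvv
    rw [hvi] at hbe
    have hba : b = ⟨0, b.b, b.c⟩ := CfsgLib.Invol.HeisFour.H4.ext' hb rfl rfl
    have hby : b.b ≠ 0 := fun e => by
      have h1 : C.θ b ∈ A := C.hom_mem_Z.2 ⟨e, hb⟩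
      have h2 := (hG.central v hv _ h1).eq
      have h3 : C.θ (⟨x, 0, 0⟩ : H4) = C.θ b := by
        calc C.θ (⟨x, 0, 0⟩ : H4) = v * v * C.θ ⟨x, 0, 0⟩ * (v * v) := by rw [hvv]; group
          _ = v * (v * C.θ ⟨x, 0, 0⟩ * v) * v := by group
          _ = C.θ b := by rw [← hbe, h2, mul_assoc, hvv, mul_one]
      exact hx ((congrArg H4.a (C.inj h3)).trans hb)
    set q : H4 := (⟨x, 0, 0⟩ : H4) * b with hq
    have hq' : q = ⟨x, b.b, b.c + fm x b.b⟩ := by
      rw [hq, hba, mul_def]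
      simp
    -- `v q v = q ^ 3`
    have hrel : v * C.θ q * v = C.θ (q * q * q) := by
      have h1 : v * C.θ q * v = C.θ (b * ⟨x, 0, 0⟩) := by
        have hb' : v * C.θ b * v = C.θ ⟨x, 0, 0⟩ := by
          rw [hbe, show v * (v * C.θ ⟨x, 0, 0⟩ * v) * v = v * v * C.θ ⟨x, 0, 0⟩ * (v * v) by group, hvv]
          group
        calc v * C.θ q * v = v * C.θ ⟨x, 0, 0⟩ * (v * v) * C.θ b * v := by
              rw [hvv, mul_one, hq, map_mul]; group
          _ = (v * C.θ ⟨x, 0, 0⟩ * v) * (v * C.θ b * v) := by group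
          _ = C.θ (b * ⟨x, 0, 0⟩) := by rw [hb', ← hbe, map_mul]
      rw [h1]
      congr 1
      rw [hq, hba]
      exact h4_rel x b.b b.c
    have hqv : C.θ q * v * (C.θ q)⁻¹ * v⁻¹ ∈ A := by
      have e : C.θ q * v * (C.θ q)⁻¹ * v⁻¹ = C.θ q * (C.θ (q * q * q))⁻¹ := by
        rw [← hrel, hvi]
        simp only [mul_inv_rev, hvi, mul_assoc]
      rw [e, ← map_inv, ← map_mul, C.hom_mem_Z]
      exact h4_cube_inv q
    obtain ⟨p, hp⟩ := hkT _ (C.hom_mem q) hqv
    have hp3 : pv * p * pv = p * p * p := C.inj (by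
      rw [map_mul, map_mul, map_mul, map_mul, hp, hpve,
        show k * v * k⁻¹ * (k * C.θ q * k⁻¹) * (k * v * k⁻¹) = k * (v * C.θ q * v) * k⁻¹ by group, hrel,
        map_mul, map_mul]
      group)
    have hpq : p * p ≠ 1 := fun e => by
      have h1 : C.θ (q * q) = 1 := by
        have : k * C.θ (q * q) * k⁻¹ = C.θ (p * p) := by rw [map_mul C.θ q q, map_mul C.θ p p, hp]; group
        rw [e, map_one] at this
        exact conj_eq_one_iff.1 this
      rw [← map_one C.θ] at h1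
      have h2 := congrArg H4.c (C.inj h1)
      rw [hq', mul_def, one_def] at h2
      change b.c + fm x b.b + (b.c + fm x b.b) + fm x b.b = 0 at h2
      rw [self_add, zero_add] at h2
      exact h4_fm_ne x b.b hx hby h2
    refine ⟨b.b, q, p, by rw [hq'], by rw [hq'], ⟨b.c, by rw [← hba, hbe]⟩, hp.symm, ?_⟩
    rw [h4_conj pv p hpv, h4_cubed p] at hp3
    refine h4_cube pv.a p.a p.b (add_left_cancel (congrArg H4.c hp3)) fun hb0 => hpq ?_
    exact CfsgLib.Invol.L34Type.mul_self_subA p hb0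
  obtain ⟨y₁, q₁, p₁, hq₁a, hq₁b, ⟨c₁, hc₁⟩, hp₁, hx₁⟩ := hd (1, 0) h4_basis.1
  obtain ⟨y₂, q₂, p₂, hq₂a, hq₂b, ⟨c₂', hc₂'⟩, hp₂, hx₂⟩ := hd (0, 1) h4_basis.2.1
  obtain ⟨y₃, q₃, p₃, hq₃a, hq₃b, ⟨c₃, hc₃⟩, hp₃, hx₃⟩ := hd (1, 1) h4_basis.2.2.1
  have hy : y₁ + y₂ = y₃ := by
    have h1 : C.θ ⟨0, y₁, c₁⟩ * C.θ ⟨0, y₂, c₂'⟩ = C.θ ⟨0, y₃, c₃⟩ := by
      rw [← hc₁, ← hc₂', ← hc₃, show v * C.θ ⟨(1, 0), 0, 0⟩ * v * (v * C.θ ⟨(0, 1), 0, 0⟩ * v) =
        v * C.θ ⟨(1, 0), 0, 0⟩ * (v * v) * C.θ ⟨(0, 1), 0, 0⟩ * v by group, hvv, mul_one,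
        mul_assoc v, ← map_mul,
        h4_basis.2.2.2.2]
    rw [← map_mul, mul_def] at h1
    exact congrArg H4.b (C.inj h1)
  have hdiff : C.θ (q₁ * q₂ * q₃⁻¹) ∈ A := C.hom_mem_Z.2 ⟨by
      rw [mul_def, mul_def, inv_def]
      show q₁.b + q₂.b + q₃.b = 0
      rw [hq₁b, hq₂b, hq₃b, hy, self_add], by
      rw [mul_def, mul_def, inv_def]
      show q₁.a + q₂.a + q₃.a = 0
      rw [hq₁a, hq₂a, hq₃a]; exact h4_basis.2.2.2.1⟩
  have himg := (mem_normalizer_iff.1 hkA _).1 hdiff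
  rw [map_mul, map_mul, map_inv, show k * (C.θ q₁ * C.θ q₂ * (C.θ q₃)⁻¹) * k⁻¹ =
    k * C.θ q₁ * k⁻¹ * (k * C.θ q₂ * k⁻¹) * (k * C.θ q₃ * k⁻¹)⁻¹ by group, hp₁, hp₂, hp₃, ← map_inv,
    ← map_mul, ← map_mul, C.hom_mem_Z, mul_def, mul_def, inv_def] at himg
  have h0 : p₁.a + p₂.a + p₃.a = 0 := himg.2
  rw [hx₁, hx₂, hx₃, self_add, zero_add] at h0
  -- so `w` would lie in `A`
  have : C.θ pv ∈ A := C.hom_mem_Z.2 ⟨hpv, h0⟩
  rw [hpve] at this
  exact hvA (hG.mem_A_of_conj hv this)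

theorem sixteenStmt : SixteenStmt.{u} := by
  intro G _ _ S A hG C
  classical
  haveI := hG.setting.simple
  by_cases he : C.θ.range = (S : Subgroup G)
  · exact false_of_range_eq hG C he
  obtain ⟨⟨g, hg, hgP⟩, hw⟩ := exists_swap hG C he
  obtain ⟨v, hv, hvP, hvv⟩ := exists_outside hG C hw hg hgP
  have hidx : C.θ.range.relIndex (S : Subgroup G) = 2 := by
    rw [Subgroup.relIndex, Subgroup.index_eq_two_iff]
    refine ⟨⟨g, hg⟩, fun b => ?_⟩
    by_cases hb : (b : G) ∈ C.θ.range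
    · exact Or.inr ⟨hb, fun h => hgP ((Subgroup.mul_mem_cancel_left _ hb).1 h)⟩
    · exact Or.inl ⟨hw.two _ b.2 g hg hb hgP, hb⟩
  obtain ⟨M, hM, hM2, hvM⟩ := CfsgLib.Fusion.thompson_transfer S C.le hidx (u := v) (by rw [sq, hvv])
    fun h hh => not_fused hG C hw hv hvP hvv h hh
  rcases hM.eq_bot_or_eq_top with e | e
  · rw [e, index_bot] at hM2
    have hle := card_subgroup_dvd_card A
    rw [hG.card_A, hM2] at hle
    norm_num at hle
  · exact hvM (e ▸ mem_top v)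

end CfsgLib.Gold.Rank2
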