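import Cfsg.Agent.Lib.Goldschmidt.Rank2.Coord
import Cfsg.Agent.Lib.Goldschmidt.Rank2.Eight
import Cfsg.Agent.Lib.Goldschmidt.Rank2.Sixteen
import Cfsg.Agent.Lib.Goldschmidt.Rank2.NoOutside

/-!
# Rank two: the ground situation with rotations is impossible
-/

set_option autoImplicit false
set_option linter.unusedSectionVars false

namespace CfsgLib.Gold.Rank2

open Subgroup

universe u

variable {G : Type u} [Group G] [Finite G] {S : Sylow 2 G} {A : Subgroup G}

/-- The ground situation with rotations is impossible. -/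
theorem false_of_ground (hG : Ground S A) (hrot : HasRot S A) : False := by
  obtain ⟨x₀, hx₀S, hx₀2, hx₀A⟩ := exists_outer hG.setting hG.card_A hG.central
  have hx₀ : Outer S A x₀ := ⟨hx₀S, hx₀2, hx₀A⟩
  obtain ⟨w₁, hw₁⟩ := exists_isMax hG hx₀
  obtain ⟨x, hx, htop⟩ := exists_top hG hw₁
  obtain ⟨a, ha, r, Q, hr⟩ := hrot x hx htop
  have hw : IsMax S A (a * x) := hx.mul_A hG ha
  have hc := hr.card_cw hG hw
  have hQle := hr.card_Q_le hG hw (htop.mul_A hG ha)
  have hQdvd : 2 ∣ Nat.card Q := by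
    have h2 : orderOf (a * x) = 2 := CfsgLib.Invol.invol_iff.2 ⟨hw.1.2.1, hw.1.ne_one⟩
    rw [← h2]
    exact Subgroup.orderOf_dvd_natCard Q hr.w_mem
  have hne3 : Nat.card Q ≠ 3 := fun e => by rw [e] at hQdvd; omega
  have hpos : 0 < Nat.card Q := Nat.card_pos
  rcases (show Nat.card Q = 2 ∨ Nat.card Q = 4 by omega) with hQ | hQ
  · refine false_of_eight hG (fun y hy => (hw.2 y hy).trans ?_) hrot hx₀
    rw [hc, hQ]
  · obtain ⟨C⟩ := exists_coord hG hw hr (htop.mul_A hG ha) (by rw [hc, hQ])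
    exact sixteenStmt G S A hG C

end CfsgLib.Gold.Rank2
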