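import Cfsg.Agent.Lib.Goldschmidt.Defs
import Cfsg.Agent.Lib.Invol.L34Type.Base

/-!
# Rank two, `A` in the Frattini subgroup: the interfaces

`Ground` is what the signalizer functor leaves. The largest centralizer of an outside involution then has
order `8` or `16`; in the second case `Coord` gives coordinates of type `L₃(4)`.
-/

set_option autoImplicit false

namespace CfsgLib.Gold.Rank2

open Subgroup
open CfsgLib.Invol.HeisFour (H4)
open CfsgLib.Invol.L34Type (subA subB subZ)

universe u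

variable {G : Type u} [Group G]

/-- An involution of `S` outside `A`. -/
def Outer (S : Sylow 2 G) (A : Subgroup G) (x : G) : Prop :=
  x ∈ (S : Subgroup G) ∧ x * x = 1 ∧ x ∉ A

/-- The situation without balance. -/
structure Ground (S : Sylow 2 G) (A : Subgroup G) : Prop where
  setting : Setting S A
  card_A : Nat.card A = 4
  central : ∀ s ∈ (S : Subgroup G), ∀ a ∈ A, Commute s a
  phi : A ≤ sqGen (S : Subgroup G)
  rot : ∃ r ∈ normalizer ((S : Subgroup G) : Set G), Odd (orderOf r) ∧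
    (∀ a ∈ A, r * a * r⁻¹ ∈ A) ∧ ∀ a ∈ A, a ≠ 1 → r * a * r⁻¹ ≠ a
  split : ∀ w, Outer S A w → ∃ Q : Subgroup G, Q ≤ (S : Subgroup G) ⊓ centralizer ({w} : Set G) ∧ A ⊓ Q = ⊥ ∧
    ∀ x ∈ (S : Subgroup G), Commute x w → ∃ a ∈ A, ∃ q ∈ Q, x = a * q
  sq_cent : ∀ w, Outer S A w → ∀ x ∈ (S : Subgroup G), Commute x w → x * x ∈ A → x * x = 1
  large : ¬ Nat.card G ∣ 60480

/-- Coordinates of type `L₃(4)` on a subgroup of `S`: `A` is `a = b = 0`, the two elementary subgroups of order
sixteen are the centralizers in `S` of their elements outside `A`, and only the subgroup itself fixes them. -/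
structure Coord (S : Sylow 2 G) (A : Subgroup G) where
  θ : H4 →* G
  inj : Function.Injective θ
  le : θ.range ≤ (S : Subgroup G)
  map_Z : subZ.map θ = A
  max_le : ∀ w, Outer S A w → Nat.card ((S : Subgroup G) ⊓ centralizer ({w} : Set G) : Subgroup G) ≤ 16
  cent_A : ∀ p ∈ subA, p ∉ subZ → ∀ x ∈ (S : Subgroup G), Commute x (θ p) → x ∈ subA.map θ
  cent_B : ∀ p ∈ subB, p ∉ subZ → ∀ x ∈ (S : Subgroup G), Commute x (θ p) → x ∈ subB.map θ
  norm_A : ∀ x ∈ (S : Subgroup G), (∀ y ∈ subA.map θ, x * y * x⁻¹ ∈ subA.map θ) → x ∈ θ.range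
  norm_B : ∀ x ∈ (S : Subgroup G), (∀ y ∈ subB.map θ, x * y * x⁻¹ ∈ subB.map θ) → x ∈ θ.range

/-- The case of largest centralizers of order sixteen. -/
def SixteenStmt : Prop :=
  ∀ (G : Type u) [Group G] [Finite G] (S : Sylow 2 G) (A : Subgroup G), Ground S A → Coord S A → False

end CfsgLib.Gold.Rank2
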