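import Cfsg.Agent.Lib.Goldschmidt.Rank2.FourGen
import Cfsg.Agent.Lib.Goldschmidt.Rank2.Defs
import Cfsg.Agent.Lib.Goldschmidt.Comp.Lift
import Cfsg.Agent.Lib.Goldschmidt.Phi.Signalizer
import Cfsg.Agent.Lib.Fusion.ZStarCenter
import Cfsg.Agent.Lib.Coprime.LBalance.Cores

/-!
# Rank two: the signalizer functor on `A × ⟨w⟩`

`A` is central in `C(a)` modulo its odd core. So when all the involutions of a coset `A w` are good the cores
of the `C(a)` generate a subgroup of odd order, which is impossible: every coset has an involution `e` with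
`O(C a) ∩ C(e)` outside `O(C e)` for some `a`.
-/

set_option autoImplicit false
set_option linter.style.haveILetI false

namespace CfsgLib.Gold.Rank2

open Subgroup
open CfsgLib.Walter.Rank (CQ proj)

universe u

variable {G : Type u} [Group G] [Finite G] {S : Sylow 2 G} {A : Subgroup G}

/-- An involution sees all the cores of the centralizers of `A` in its own core. -/
def Good (A : Subgroup G) (e : G) : Prop :=
  ∀ a ∈ A, a ≠ 1 → Cfsg.centralizerPPrimeCore 2 a ⊓ centralizer ({e} : Set G) ≤ Cfsg.centralizerPPrimeCore 2 e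

/-- The functor. -/
def theta (A : Subgroup G) (e : G) : Subgroup G :=
  gen A fun a => Cfsg.centralizerPPrimeCore 2 a ⊓ centralizer ({e} : Set G)

omit [Finite G] in
theorem eq_one_of_map_eq {a b : G} (hb : b ∈ centralizer ({a} : Set G))
    (e : proj a ⟨b, hb⟩ = 1) : b ∈ Cfsg.centralizerPPrimeCore 2 a :=
  ⟨⟨b, hb⟩, (QuotientGroup.eq_one_iff _).1 e, rfl⟩

/-- An element whose image has a centralizer with trivial core. -/
theorem core_inf_le {a b : G} (hab : Commute a b) (ha : a * a = 1)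
    (hbot : CfsgLib.Coprime.coreIn 2
      (centralizer ({proj b ⟨a, mem_centralizer_singleton_iff.2 hab⟩} : Set (CQ b))) = ⊥) :
    Cfsg.centralizerPPrimeCore 2 a ⊓ centralizer ({b} : Set G) ≤ Cfsg.centralizerPPrimeCore 2 b := by
  haveI := Fact.mk Nat.prime_two
  intro d hd
  set C := centralizer ({b} : Set G)
  have haC : a ∈ C := mem_centralizer_singleton_iff.2 hab
  set B := Cfsg.centralizerPPrimeCore 2 a with hBdef
  have hle : ((B ⊓ C).subgroupOf C).map (proj b) ≤
      CfsgLib.Coprime.coreIn 2 (centralizer ({proj b ⟨a, haC⟩} : Set (CQ b))) := by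
    refine CfsgLib.Coprime.le_coreIn ?_ ?_ ?_
    · rintro _ ⟨c, hc, rfl⟩
      refine mem_centralizer_singleton_iff.2 ?_
      rw [← map_mul, ← map_mul]
      exact congrArg (proj b) (Subtype.ext
        (mem_centralizer_singleton_iff.1 (Phi.core_le_centralizer a (mem_subgroupOf.1 hc).1)))
    · intro z hz
      obtain ⟨g, rfl⟩ := QuotientGroup.mk'_surjective _ z
      have hcomm : ∀ s ∈ (zpowers a).subgroupOf C, g * s * g⁻¹ * s⁻¹ ∈ Cfsg.pPrimeCore 2 ↥C := by
        intro s hs
        obtain ⟨i, hi⟩ := mem_zpowers_iff.1 (mem_subgroupOf.1 hs)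
        have e : s = (⟨a, haC⟩ : C) ^ i := Subtype.ext (by rw [SubgroupClass.coe_zpow]; exact hi.symm)
        rw [← QuotientGroup.eq_one_iff]
        show proj b (g * s * g⁻¹ * s⁻¹) = 1
        rw [map_mul, map_mul, map_mul, map_inv, map_inv,
          show proj b g * proj b s = proj b s * proj b g from by
            rw [e, map_zpow]
            exact (Commute.zpow_right (show Commute (proj b g) (proj b ⟨a, haC⟩) from
              mem_centralizer_singleton_iff.1 hz) i).eq,
          mul_inv_cancel_right, mul_inv_cancel]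
      obtain ⟨v, hv, hvc⟩ := CfsgLib.Coprime.exists_mul_mem_centralizer (p := 2)
        (V := Cfsg.pPrimeCore 2 ↥C) (CfsgLib.Coprime.pPrimeCore_coprime Nat.prime_two)
        ((CfsgLib.Coprime.isPGroup_zpowers (p := 2) (k := 1) (x := a) (by rw [pow_one, pow_two, ha])).comap_of_injective
          C.subtype C.subtype_injective)
        (by rw [Subgroup.normalizer_eq_top]; exact le_top) hcomm
      have hog : proj b (v * g) = proj b g := by
        rw [map_mul, show proj b v = 1 from (QuotientGroup.eq_one_iff v).2 hv, one_mul]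
      rw [← hog]
      refine le_normalizer_map (proj b) (mem_map_of_mem _ ?_)
      have hca : ((v * g : C) : G) ∈ centralizer ({a} : Set G) := mem_centralizer_singleton_iff.2
        (congrArg Subtype.val (mem_centralizer_iff.1 hvc ⟨a, haC⟩ (mem_subgroupOf.2 (mem_zpowers a)))).symm
      refine mem_normalizer_fintype fun c hc => ?_
      refine mem_subgroupOf.2 ⟨?_, SetLike.coe_mem _⟩
      have h3 := Phi.conj_mem_core (g := ((v * g : C) : G)) (mem_subgroupOf.1 hc).1
      rwa [show ((v * g : C) : G) * a * ((v * g : C) : G)⁻¹ = a by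
        rw [mem_centralizer_singleton_iff.1 hca, mul_inv_cancel_right]] at h3
    · refine Nat.Coprime.coprime_dvd_left (card_map_dvd _ (proj b)) ?_
      rw [Nat.card_congr (subgroupOfEquivOfLe inf_le_right).toEquiv]
      exact (CfsgLib.Coprime.coprime_card_coreIn Nat.prime_two (centralizer ({a} : Set G))).coprime_dvd_left
        (card_dvd_of_le inf_le_left)
  rw [hbot, le_bot_iff, Subgroup.map_eq_bot_iff, QuotientGroup.ker_mk'] at hle
  exact ⟨⟨d, hd.2⟩, hle (mem_subgroupOf.2 hd), rfl⟩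

variable (h : Setting S A) (hA4 : Nat.card A = 4) (hcen : ∀ s ∈ (S : Subgroup G), ∀ a ∈ A, Commute s a)
include h hA4 hcen

/-- An element of `N(A)` fixing an involution of `A` fixes `A`. -/
theorem fix_of_fix {a b n : G} (ha : a ∈ A) (ha1 : a ≠ 1) (hb : b ∈ A) (hn : n ∈ normalizer (A : Set G))
    (hna : n * a * n⁻¹ = a) : n * b * n⁻¹ = b := by
  haveI := Fact.mk Nat.prime_two
  by_cases hb1 : b = 1
  · rw [hb1, mul_one, mul_inv_cancel]
  by_cases hab : b = a
  · rw [hab, hna]
  rcases mem_triple hA4 h.sq ha hb ha1 hb1 (Ne.symm hab) ((mem_normalizer_iff.1 hn b).1 hb)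
    (fun e => hb1 (conj_eq_one_iff.1 e)) with e | e | e
  · exact absurd (mul_left_cancel (mul_right_cancel (e.trans hna.symm))) hab
  · exact e
  · exfalso
    obtain ⟨k, m, hm, hkm⟩ := Nat.exists_eq_two_pow_mul_odd (orderOf_pos n).ne'
    have hswap : ∀ j : ℕ, n ^ (2 * j) * b * (n ^ (2 * j))⁻¹ = b := by
      intro j
      induction j with
      | zero => simp
      | succ j ih =>
        have h2 : n * (n * b * n⁻¹) * n⁻¹ = b := by
          rw [e, show n * (a * b) * n⁻¹ = n * a * n⁻¹ * (n * b * n⁻¹) by group, hna, e, ← mul_assoc, h.sq a ha,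
            one_mul]
        calc n ^ (2 * (j + 1)) * b * (n ^ (2 * (j + 1)))⁻¹
            = n * (n * (n ^ (2 * j) * b * (n ^ (2 * j))⁻¹) * n⁻¹) * n⁻¹ := by
              rw [show 2 * (j + 1) = 2 * j + 1 + 1 by ring, pow_succ', pow_succ']; group
          _ = b := by rw [ih, h2]
    obtain ⟨j, rfl⟩ := hm
    have hmb : n ^ (2 * j + 1) * b * (n ^ (2 * j + 1))⁻¹ = a * b := by
      rw [pow_succ', show n * n ^ (2 * j) * b * (n * n ^ (2 * j))⁻¹ = n * (n ^ (2 * j) * b * (n ^ (2 * j))⁻¹) * n⁻¹
        by group, hswap, e]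
    set N := normalizer (A : Set G)
    have hp : IsPGroup 2 (zpowers (⟨n ^ (2 * j + 1), pow_mem hn _⟩ : N)) :=
      CfsgLib.Coprime.isPGroup_zpowers (p := 2) (k := k) (Subtype.ext (by
        show (n ^ (2 * j + 1)) ^ 2 ^ k = 1
        rw [← pow_mul, mul_comm, ← hkm, pow_orderOf_eq_one]))
    obtain ⟨u, hu⟩ := CfsgLib.Invol.exists_conj_le_sylow hp (S.subtype h.sylow_le_normalizer)
    have hs : (u : G) * n ^ (2 * j + 1) * (u : G)⁻¹ ∈ (S : Subgroup G) := hu _ (mem_zpowers _)
    have hub : (u : G) * b * (u : G)⁻¹ ∈ A := (mem_normalizer_iff.1 u.2 b).1 hb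
    have h3 := (hcen _ hs _ hub).eq
    have h4 : n ^ (2 * j + 1) * b = b * n ^ (2 * j + 1) := by
      have := congrArg (fun x => (u : G)⁻¹ * x * (u : G)) h3
      simpa [mul_assoc] using this
    rw [h4, mul_inv_cancel_right] at hmb
    exact ha1 (mul_eq_right.1 hmb.symm)

theorem sylow_le_centralizer {a : G} (ha : a ∈ A) : (S : Subgroup G) ≤ centralizer ({a} : Set G) :=
  fun s hs => mem_centralizer_singleton_iff.2 (hcen s hs a ha).eq

/-- `A` is central modulo the odd core in the centralizer of each of its involutions. -/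
theorem proj_central {a b : G} (ha : a ∈ A) (ha1 : a ≠ 1) (hb : b ∈ A) (g : centralizer ({a} : Set G)) :
    proj a g * proj a ⟨b, h.mem_centralizer ha hb⟩ = proj a ⟨b, h.mem_centralizer ha hb⟩ * proj a g := by
  haveI := Fact.mk Nat.prime_two
  have hZ := CfsgLib.Fusion.zcentral_of_closed_subgroup (centralizer ({a} : Set G))
    (S.subtype (sylow_le_centralizer h hA4 hcen ha)) (A.subgroupOf (centralizer ({a} : Set G)))
    (fun x hx => h.le_sylow (mem_subgroupOf.1 hx)) (fun z hz x hx => Subtype.ext ?_)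
    ⟨b, h.mem_centralizer ha hb⟩ (mem_subgroupOf.2 hb) g
  · have h1 : proj a (g * ⟨b, h.mem_centralizer ha hb⟩ * g⁻¹ * (⟨b, h.mem_centralizer ha hb⟩ : centralizer ({a} : Set G))⁻¹) = 1 :=
      (QuotientGroup.eq_one_iff _).2 hZ
    rw [map_mul, map_mul, map_mul, map_inv, map_inv, mul_inv_eq_one, mul_inv_eq_iff_eq_mul] at h1
    exact h1
  · show (x : G) * z * (x : G)⁻¹ = z
    have hzA : (z : G) ∈ A := hz
    obtain ⟨n, hn, hne⟩ := h.exists_fusion (X := {a, (z : G)})
      (Set.insert_subset_iff.2 ⟨h.le_sylow ha, Set.singleton_subset_iff.2 (h.le_sylow hzA)⟩) (g := (x : G))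
      (fun y hy => by
        rcases hy with rfl | rfl
        · rw [mem_centralizer_singleton_iff.1 x.2, mul_inv_cancel_right]; exact h.le_sylow ha
        · exact hx)
    rw [hne (z : G) (Or.inr rfl)]
    refine fix_of_fix h hA4 hcen ha ha1 hzA hn ?_
    rw [← hne a (Or.inl rfl), mem_centralizer_singleton_iff.1 x.2, mul_inv_cancel_right]

/-- The cores are balanced on `A`. -/
theorem balanced : Phi.Balanced A := by
  haveI := Fact.mk Nat.prime_two
  intro a ha _ b hb hb1
  refine core_inf_le (show Commute a b from h.commute_mem ha hb) (h.sq a ha) ?_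
  set x := proj b ⟨a, h.mem_centralizer hb ha⟩
  have htop : centralizer ({x} : Set (CQ b)) = ⊤ := top_unique fun y _ => by
    obtain ⟨g, rfl⟩ := QuotientGroup.mk'_surjective _ y
    exact mem_centralizer_singleton_iff.2 (proj_central h hA4 hcen hb hb1 ha g)
  show CfsgLib.Coprime.coreIn 2 (centralizer ({x} : Set (CQ b))) = ⊥
  rw [htop, eq_bot_iff, ← CfsgLib.Walter.Rank.cq_core b]
  haveI : (CfsgLib.Coprime.coreIn 2 (⊤ : Subgroup (CQ b))).Normal := normalizer_eq_top_iff.1 (top_unique
    ((le_normalizer (H := (⊤ : Subgroup (CQ b)))).trans (CfsgLib.Coprime.normalizer_le_normalizer_coreIn _ _)))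
  exact CfsgLib.Coprime.le_pPrimeCore (CfsgLib.Coprime.coprime_card_coreIn Nat.prime_two _)

/-- The Frattini cover of the centralizer. -/
theorem cover {a : G} (ha : a ∈ A) (ha1 : a ≠ 1) :
    centralizer ({a} : Set G) ≤ Cfsg.centralizerPPrimeCore 2 a ⊔ normalizer (A : Set G) := by
  intro g hg
  have hn : proj a ⟨g, hg⟩ ∈ normalizer (img A a : Set (CQ a)) := mem_normalizer_fintype fun x hx => by
    obtain ⟨b, hb, rfl⟩ := (h.mem_img_iff ha).1 hx
    rw [proj_central h hA4 hcen ha ha1 hb, mul_inv_cancel_right]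
    exact h.proj_mem_img ha hb
  obtain ⟨g', hg', e⟩ := h.exists_lift ha hn
  have h1 : g * (g' : G)⁻¹ ∈ Cfsg.centralizerPPrimeCore 2 a :=
    eq_one_of_map_eq (mul_mem hg (inv_mem g'.2)) (by
      rw [show (⟨g * (g' : G)⁻¹, _⟩ : centralizer ({a} : Set G)) = ⟨g, hg⟩ * g'⁻¹ from rfl, map_mul, map_inv, e,
        mul_inv_cancel])
  have h2 := mul_mem_sup h1 hg'
  rwa [inv_mul_cancel_right] at h2

/-- The parts at an involution commuting with `A`. -/
theorem parts {e : G} (he : ∀ a ∈ A, Commute e a) (hgood : Good A e) :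
    Parts A (Cfsg.centralizerPPrimeCore 2 e)
      fun a => Cfsg.centralizerPPrimeCore 2 a ⊓ centralizer ({e} : Set G) where
  card := hA4
  sq := h.sq
  odd := Phi.core_odd e
  inv := fun a ha => mem_normalizer_fintype fun x hx => by
    have h1 := Phi.conj_mem_core (g := a) hx
    rwa [show a * e * a⁻¹ = e by rw [← (he a ha).eq, mul_inv_cancel_right]] at h1
  le := fun a ha ha1 => le_inf (hgood a ha ha1) (inf_le_left.trans (Phi.core_le_centralizer a))
  conj := fun a _ _ x hx y hy => by
    obtain ⟨hxe, hxa⟩ := mem_inf.1 hx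
    have hxC := Phi.core_le_centralizer e hxe
    refine mem_inf.2 ⟨?_, mul_mem (mul_mem hxC hy.2) (inv_mem hxC)⟩
    have h1 := Phi.conj_mem_core (g := x) hy.1
    rwa [show x * a * x⁻¹ = a by rw [mem_centralizer_singleton_iff.1 hxa, mul_inv_cancel_right]] at h1
  comm := fun b hb hb1 x hx a ha => by
    obtain ⟨hxe, hxb⟩ := mem_inf.1 hx
    have hxC := Phi.core_le_centralizer e hxe
    have haC : a ∈ centralizer ({e} : Set G) := mem_centralizer_singleton_iff.2 (he a ha).symm.eq
    refine mem_inf.2 ⟨eq_one_of_map_eq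
      (mul_mem (mul_mem (mul_mem (h.mem_centralizer hb ha) hxb) (inv_mem (h.mem_centralizer hb ha))) (inv_mem hxb))
      ?_, mul_mem (mul_mem (mul_mem haC hxC) (inv_mem haC)) (inv_mem hxC)⟩
    show proj b (⟨a, h.mem_centralizer hb ha⟩ * ⟨x, hxb⟩ * (⟨a, h.mem_centralizer hb ha⟩ : centralizer _)⁻¹ *
      (⟨x, hxb⟩ : centralizer _)⁻¹) = 1
    rw [map_mul, map_mul, map_mul, map_inv, map_inv, ← proj_central h hA4 hcen hb hb1 ha ⟨x, hxb⟩,
      mul_inv_cancel_right, mul_inv_cancel]
  bal := fun a ha ha1 b hb hb1 x hx =>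
    mem_inf.2 ⟨balanced h hA4 hcen a ha ha1 b hb hb1 ⟨hx.1.1, hx.2⟩, hx.1.2⟩

/-- Every coset of an involution outside `A` has a bad element. -/
theorem exists_not_good {w : G} (hw : Outer S A w) : ∃ a ∈ A, ¬ Good A (a * w) := by
  haveI := Fact.mk Nat.prime_two
  by_contra hall
  push Not at hall
  have hbal := balanced h hA4 hcen
  have hcomm : ∀ a ∈ A, Commute w a := hcen w hw.1
  -- the group `E`
  let E : Subgroup G :=
    { carrier := {x | x ∈ A ∨ x * w ∈ A}
      one_mem' := Or.inl (one_mem _)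
      mul_mem' := by
        rintro x y (hx | hx) (hy | hy)
        · exact Or.inl (mul_mem hx hy)
        · exact Or.inr (by rw [mul_assoc]; exact mul_mem hx hy)
        · exact Or.inr (by rw [mul_assoc, ← (hcomm y hy).eq, ← mul_assoc]; exact mul_mem hx hy)
        · refine Or.inl ?_
          have h1 := mul_mem hx hy
          rwa [show x * w * (y * w) = x * (w * (y * w)) by group, (hcomm _ hy).eq, mul_assoc y,
            hw.2.1, mul_one] at h1
      inv_mem' := by
        rintro x (hx | hx)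
        · exact Or.inl (inv_mem hx)
        · refine Or.inr ?_
          have h1 : w * (x * w) = x * w * w := (hcomm _ hx).eq
          rw [mul_assoc x, hw.2.1, mul_one] at h1
          have hwx : x * w = w * x := by
            have h2 := congrArg (fun z => z * w) h1.symm
            rwa [show w * (x * w) * w = w * x * (w * w) by group, hw.2.1, mul_one] at h2
          have h2 := inv_mem hx
          rwa [hwx, mul_inv_rev, inv_eq_of_mul_eq_one_right hw.2.1] at h2 }
  have hAE : A ≤ E := fun a ha => Or.inl ha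
  have hwE : w ∈ E := Or.inr (by rw [hw.2.1]; exact one_mem _)
  have hform : ∀ x ∈ E, ∃ a ∈ A, x = a ∨ x = a * w := by
    rintro x (hx | hx)
    · exact ⟨x, hx, Or.inl rfl⟩
    · exact ⟨x * w, hx, Or.inr (by rw [mul_assoc, hw.2.1, mul_one])⟩
  have hEc : ∀ x ∈ E, ∀ a ∈ A, Commute x a := by
    intro x hx a ha
    obtain ⟨b, hb, rfl | rfl⟩ := hform x hx
    · exact h.commute_mem hb ha
    · exact Commute.mul_left (h.commute_mem hb ha) (hcomm a ha)
  have hEE : ∀ x ∈ E, ∀ y ∈ E, Commute x y := by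
    intro x hx y hy
    obtain ⟨b, hb, rfl | rfl⟩ := hform y hy
    · exact hEc x hx _ hb
    · refine (hEc x hx b hb).mul_right ?_
      obtain ⟨c, hc, rfl | rfl⟩ := hform x hx
      · exact (hcomm _ hc).symm
      · exact Commute.mul_left (hcomm c hc).symm (Commute.refl w)
  have hEe : Cfsg.IsElementaryAbelian 2 E := by
    refine ⟨isMulCommutative_iff.2 fun x y => Subtype.ext (hEE x x.2 y y.2).eq, fun x hx => ?_⟩
    rw [pow_two]
    obtain ⟨b, hb, rfl | rfl⟩ := hform x hx
    · exact h.sq _ hb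
    · rw [show b * w * (b * w) = b * (w * b) * w by group, (hcomm b hb).eq, ← mul_assoc b, h.sq b hb, one_mul,
        hw.2.1]
  have hE8 : 2 ^ 3 ≤ Nat.card E := by
    obtain ⟨k, hk⟩ := IsPGroup.iff_card.1 (CfsgLib.Invol.isPGroup_of_isElementaryAbelian hEe)
    have hlt : Nat.card A < Nat.card E :=
      lt_of_le_of_ne (Subgroup.card_le_of_le hAE) fun e =>
        hw.2.2 ((Subgroup.eq_of_le_of_card_ge hAE e.ge).ge hwE)
    rw [hA4, hk] at hlt
    rw [hk]
    refine Nat.pow_le_pow_right (by norm_num) ?_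
    by_contra hk3
    have := Nat.pow_le_pow_right (show 0 < 2 by norm_num) (show k ≤ 2 by omega)
    omega
  have hgood : ∀ e ∈ E, e ≠ 1 → Good A e := by
    intro e he he1
    obtain ⟨b, hb, rfl | rfl⟩ := hform e he
    · exact fun a ha ha1 => hbal a ha ha1 e hb he1
    · exact hall b hb
  have hθC : ∀ e, theta A e ≤ centralizer ({e} : Set G) := fun e => iSup_le fun _ => inf_le_right
  have hfix : ∀ e ∈ E, e ≠ 1 → ∀ a ∈ A, a ≠ 1 →
      theta A e ⊓ centralizer ({a} : Set G) ≤ Cfsg.centralizerPPrimeCore 2 a := by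
    intro e he he1 a ha ha1 x hx
    have hP := parts h hA4 hcen (hEc e he) (hgood e he he1)
    have hxC : x ∈ Cfsg.centralizerPPrimeCore 2 e ⊓ centralizer ({a} : Set G) :=
      ⟨hP.gen_le (mem_inf.1 hx).1, (mem_inf.1 hx).2⟩
    obtain ⟨d, i, rfl, -, hdA, hiP, -⟩ := hP.split ha ha1 hxC
    have hd : d ∈ theta A e := by
      have := mul_mem (mem_inf.1 hx).1 (inv_mem (le_gen (P := fun a => Cfsg.centralizerPPrimeCore 2 a ⊓
        centralizer ({e} : Set G)) ha ha1 hiP))
      rwa [mul_inv_cancel_right] at this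
    exact mul_mem (hP.gen_inf a ha ha1 ⟨hd, hdA⟩).1 (mem_inf.1 hiP).1
  have hAθ : ∀ e ∈ E, ∀ b ∈ E, ∀ x ∈ theta A e, b * x * b⁻¹ ∈ theta A e := by
    intro e he b hb x hx
    have hle : theta A e ≤ (theta A e).comap (MulAut.conj b).toMonoidHom := iSup_le fun a y hy => by
      refine le_gen (P := fun a => Cfsg.centralizerPPrimeCore 2 a ⊓ centralizer ({e} : Set G)) a.2.1 a.2.2
        (mem_inf.2 ⟨?_, ?_⟩)
      · have h1 := Phi.conj_mem_core (g := b) hy.1
        rwa [show b * (a : G) * b⁻¹ = a by rw [(hEc b hb a a.2.1).eq, mul_inv_cancel_right]] at h1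
      · have hbe : b ∈ centralizer ({e} : Set G) := mem_centralizer_singleton_iff.2 (hEE b hb e he).eq
        exact mul_mem (mul_mem hbe hy.2) (inv_mem hbe)
    exact hle hx
  have hodd : ∀ e ∈ E, e ≠ 1 → ¬ 2 ∣ Nat.card (theta A e) := fun e he he1 hd => Phi.core_odd e
    (hd.trans (card_dvd_of_le (parts h hA4 hcen (hEc e he) (hgood e he he1)).gen_le))
  have hAe : Cfsg.IsElementaryAbelian 2 A := h.elementary
  have hθ : Cfsg.IsSolvableSignalizerFunctor 2 E (theta A) := by
    refine ⟨⟨fun e _ _ => hθC e, hodd, fun e he _ b hb => hAθ e he b hb, fun e he he1 f hf _ => ?_⟩,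
      fun e he he1 => CfsgLib.FT.isSolvable_of_odd _
        (Nat.not_even_iff_odd.1 fun hev => hodd e he he1 (even_iff_two_dvd.1 hev))⟩
    refine CfsgLib.SolvSignalizer.le_of_fixed_points hAe (by rw [hA4]; norm_num) ?_
      (fun hd => hodd e he he1 (hd.trans (card_dvd_of_le inf_le_left))) fun a ha ha1 x hx => ?_
    · refine fun a ha => mem_normalizer_fintype fun x hx => mem_inf.2 ⟨hAθ e he a (hAE ha) x hx.1, ?_⟩
      have haf : a ∈ centralizer ({f} : Set G) := mem_centralizer_singleton_iff.2 (hEc f hf a ha).symm.eq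
      exact mul_mem (mul_mem haf hx.2) (inv_mem haf)
    · obtain ⟨⟨hxe, hxf⟩, hxa⟩ := hx
      exact le_gen (P := fun a => Cfsg.centralizerPPrimeCore 2 a ⊓ centralizer ({f} : Set G)) ha ha1
        ⟨hfix e he he1 a ha ha1 ⟨hxe, hxa⟩, hxf⟩
  obtain ⟨X, hX, hXθ⟩ := CfsgLib.SolvSignalizer.exists_complete hEe hE8 hθ
  have hW : ¬ 2 ∣ Nat.card (Phi.W A) := fun hd => hX.2.1 (hd.trans (card_dvd_of_le (iSup_le fun a => by
    refine le_trans ?_ (hXθ a (hAE a.2.1) a.2.2)
    exact le_trans (le_inf le_rfl (Phi.core_le_centralizer (a : G)))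
      (le_gen (P := fun b => Cfsg.centralizerPPrimeCore 2 b ⊓ centralizer ({(a : G)} : Set G)) a.2.1 a.2.2))))
  exact h.false_of_cover hW Phi.normalizer_le_normalizer_W (fun _ ha ha1 => Phi.core_le_W ha ha1)
    (fun _ ha ha1 => cover h hA4 hcen ha ha1)

end CfsgLib.Gold.Rank2
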