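import Cfsg.Agent.Lib.Goldschmidt.Rank2.BadLocal
import Cfsg.Agent.Lib.Goldschmidt.Rank2.Functor
import Cfsg.Agent.S1250

/-!
# Rank two: the bad involutions

At a bad involution `e` outside `A` the centralizer modulo its odd core has a component over `A` whose simple
quotient has an elementary Sylow subgroup of order four and an order not dividing `60480`. So
`C_S(e) = A × Q`, and a rotation of `A` centralizes `Q`.
-/

set_option autoImplicit false
set_option linter.style.haveILetI false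
set_option linter.unusedSectionVars false

namespace CfsgLib.Gold.Rank2

open Subgroup
open CfsgLib.Walter.Rank (CQ proj pre mem_pre mem_pre_iff)

universe u

/-- What is used of the groups of the list with four elements of order at most two in a Sylow subgroup. -/
def SmallModelStmt : Prop :=
  ∀ (Y : Type u) [Group Y] [Finite Y], IsSimpleGroup Y → ¬ IsMulCommutative Y → Form Y → ∀ Q : Sylow 2 Y,
    Nat.card {x : Y // x ∈ (Q : Subgroup Y) ∧ x * x = 1} = 4 →
      ModelOK (Q : Subgroup Y) ∨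
        ((∀ x ∈ (Q : Subgroup Y), x * x = 1) ∧ Nat.card (Q : Subgroup Y) = 4 ∧ ¬ Nat.card Y ∣ 60480)

variable {G : Type u} [Group G] [Finite G] {S : Sylow 2 G} {A : Subgroup G}

/-- A component over `A` with elementary Sylow subgroup in the quotient and large order. -/
def BadAt (A : Subgroup G) (e : G) : Prop :=
  ∃ (P : Sylow 2 (CQ e)) (K : Subgroup (CQ e)), Met P (img A e) K ∧
    (∀ T : Sylow 2 (K ⧸ center K), ∀ x ∈ (T : Subgroup (K ⧸ center K)), x * x = 1) ∧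
    ¬ Nat.card (K ⧸ center K) ∣ 60480

variable (h : Setting S A) (hA4 : Nat.card A = 4) {e : G} (hA : A ≤ centralizer ({e} : Set G))
include h hA4 hA

theorem mem_img_outer {x : CQ e} : x ∈ img A e ↔ ∃ a, ∃ ha : a ∈ A, proj e ⟨a, hA ha⟩ = x := by
  constructor
  · rintro ⟨⟨a, hc⟩, ha, rfl⟩
    exact ⟨a, ha, rfl⟩
  · rintro ⟨a, ha, rfl⟩
    exact ⟨⟨a, hA ha⟩, ha, rfl⟩

theorem card_img : Nat.card (img A e) = 4 := by
  rw [← hA4]
  refine (Nat.card_eq_of_bijective (fun a : A => (⟨proj e ⟨a, hA a.2⟩, (mem_img_outer h hA4 hA).2 ⟨a, a.2, rfl⟩⟩ :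
    img A e)) ⟨fun a b eq => Subtype.ext ?_, fun x => ?_⟩).symm
  · refine mul_inv_eq_one.1 (CfsgLib.Walter.Rank.eq_one_of_proj (S := S) (y := e)
      (h.le_sylow (mul_mem a.2 (inv_mem b.2))) (mul_mem (hA a.2) (inv_mem (hA b.2))) ?_)
    rw [show (⟨(a : G) * (b : G)⁻¹, _⟩ : centralizer ({e} : Set G)) = ⟨a, hA a.2⟩ * ⟨b, hA b.2⟩⁻¹ from rfl,
      map_mul, map_inv, show proj e ⟨a, hA a.2⟩ = proj e ⟨b, hA b.2⟩ from congrArg Subtype.val eq, mul_inv_cancel]
  · obtain ⟨a, ha, eq⟩ := (mem_img_outer h hA4 hA).1 x.2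
    exact ⟨⟨a, ha⟩, Subtype.ext eq⟩

theorem exists_loc_outer (hF : FormModelStmt.{u}) (heo : orderOf e = 2) :
    ∃ P : Sylow 2 (CQ e), Loc P (img A e) := by
  haveI := Fact.mk Nat.prime_two
  set C := centralizer ({e} : Set G) with hC
  obtain ⟨T, hT⟩ := ((S.2.to_le h.le_sylow).comap_of_injective C.subtype C.subtype_injective :
    IsPGroup 2 (A.subgroupOf C)).exists_le_sylow
  have hsc : Cfsg.IsStronglyClosed (A.subgroupOf C) (T : Subgroup C) := by
    refine ⟨hT, fun a ha g hg => ?_⟩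
    obtain ⟨g₀, hg₀⟩ := CfsgLib.Invol.exists_conj_le_sylow (T.2.map C.subtype) S
    have hin : ∀ b ∈ A, g₀ * b * g₀⁻¹ ∈ A := fun b hb =>
      h.closed.2 b hb g₀ (hg₀ b ⟨⟨b, hA hb⟩, hT (mem_subgroupOf.2 hb), rfl⟩)
    have hg₀n : g₀ ∈ normalizer (A : Set G) := mem_normalizer_fintype hin
    refine mem_subgroupOf.2 ((mem_normalizer_iff.1 hg₀n _).2 ?_)
    have h1 := hg₀ _ (mem_map_of_mem C.subtype hg)
    have e1 : g₀ * ((g : G) * (a : G) * (g : G)⁻¹) * g₀⁻¹ = (g₀ * g) * (a : G) * (g₀ * g)⁻¹ := by group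
    show g₀ * ((g : G) * (a : G) * (g : G)⁻¹) * g₀⁻¹ ∈ A
    rw [e1]
    refine h.closed.2 (a : G) ha _ ?_
    rw [← e1]
    exact h1
  have hscq := Cfsg.Agent.S1250.result T (A.subgroupOf C) hsc (Cfsg.pPrimeCore 2 ↥C)
  rw [← Sylow.coe_mapSurjective (QuotientGroup.mk'_surjective _)] at hscq
  refine ⟨T.mapSurjective (QuotientGroup.mk'_surjective _), CfsgLib.Walter.Rank.cq_core e, fun b hb => ?_, hscq,
    fun Y _ _ hs hn hle Q B hB hsq hsc' => ?_⟩
  · obtain ⟨a, ha, rfl⟩ := (mem_img_outer h hA4 hA).1 hb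
    rw [← map_mul, show (⟨a, hA ha⟩ * ⟨a, hA ha⟩ : C) = 1 from Subtype.ext (h.sq a ha), map_one]
  · refine hF Y hs hn (h.sections Y hs hn (lt_of_le_of_lt hle (h.card_cq_lt heo)) Q B hB
      (isMulCommutative_iff.2 fun a b => Subtype.ext ?_) hsc') Q
    have h1 := hsq _ (mul_mem a.2 b.2)
    rw [mul_eq_one_iff_eq_inv, mul_inv_rev, inv_eq_of_mul_eq_one_right (hsq _ a.2),
      inv_eq_of_mul_eq_one_right (hsq _ b.2)] at h1
    exact h1

/-- The quotient of a component over `A` is in the list. -/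
theorem form_of_met (heo : orderOf e = 2) {P : Sylow 2 (CQ e)} {K : Subgroup (CQ e)}
    (hM : Met P (img A e) K) :
    IsSimpleGroup (K ⧸ center K) ∧ ¬ IsMulCommutative (K ⧸ center K) ∧ Form (K ⧸ center K) := by
  haveI := Fact.mk Nat.prime_two
  obtain ⟨T, hT, -, h4, hTB⟩ := hM.sylow
  set q := QuotientGroup.mk' (center K) with hq
  have hqs : Function.Surjective q := QuotientGroup.mk'_surjective _
  have hs := hM.comp.2.2
  haveI := hs
  have hna : ¬ IsMulCommutative (K ⧸ center K) := fun hc => by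
    haveI : Group.IsSolvable (center K) := CfsgLib.Coprime.isSolvable_of_isMulCommutative inferInstance
    haveI : Group.IsSolvable (K ⧸ center K) := Group.isSolvable_of_comm fun a b => isMulCommutative_iff.1 hc a b
    haveI : Group.IsSolvable K := Group.isSolvable_of_ker_le_range (center K).subtype q (by simp [hq])
    exact CfsgLib.Coprime.not_isSolvable_of_isComponent hM.comp inferInstance
  refine ⟨hs, hna, h.sections _ hs hna ?_ (T.mapSurjective hqs) (((img A e).subgroupOf K).map q) ?_ ?_ ?_⟩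
  · exact lt_of_le_of_lt (Nat.le_of_dvd Nat.card_pos hM.card_quot_dvd) (h.card_cq_lt heo)
  · intro e0
    have h1 : Nat.card {x : K ⧸ center K // x ∈ (T : Subgroup K).map q ∧ x * x = 1} =
        Nat.card (((img A e).subgroupOf K).map q) := Nat.card_congr (Equiv.subtypeEquivRight hTB)
    rw [h4, e0, Subgroup.card_bot] at h1
    norm_num at h1
  · refine isMulCommutative_iff.2 fun a b => Subtype.ext ?_
    obtain ⟨a', ha', ea⟩ := a.2
    obtain ⟨b', hb', eb⟩ := b.2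
    show (a : K ⧸ center K) * b = b * a
    rw [← ea, ← eb, ← map_mul, ← map_mul]
    exact congrArg q (Subtype.ext (hM.loc.comm ha' hb'))
  · rw [Sylow.coe_mapSurjective]
    exact Cfsg.Agent.S1250.result T ((img A e).subgroupOf K)
      ⟨fun b hb => (hT b).2 (hM.loc.closed.1 (mem_subgroupOf.1 hb)),
        fun b hb g hg => hM.loc.conj_mem (g := (g : CQ e)) hb ((hT _).1 hg)⟩ (center K)

/-- An involution that is not good is bad. -/
theorem badAt_of_not_good (hF : FormModelStmt.{u}) (hS : SmallModelStmt.{u}) (heo : orderOf e = 2)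
    (hng : ¬ Good A e) : BadAt A e := by
  haveI := Fact.mk Nat.prime_two
  by_contra hnb
  refine hng fun a ha ha1 => core_inf_le (show Commute a e from mem_centralizer_singleton_iff.1 (hA ha))
    (h.sq a ha) ?_
  obtain ⟨P, hL⟩ := exists_loc_outer h hA4 hA hF heo
  refine coreIn_eq_bot hL (card_img h hA4 hA) (fun K hM T h4 => ?_)
    ((mem_img_outer h hA4 hA).2 ⟨a, ha, rfl⟩) fun e0 =>
      ha1 (CfsgLib.Walter.Rank.eq_one_of_proj (S := S) (h.le_sylow ha) (hA ha) e0)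
  obtain ⟨hs, hna, hf⟩ := form_of_met h hA4 hA heo hM
  refine (hS _ hs hna hf T h4).resolve_right fun ⟨hsq, _, hlarge⟩ => hnb ⟨P, K, hM, fun T' x hx => ?_, hlarge⟩
  obtain ⟨g, hg⟩ := CfsgLib.Invol.exists_conj_le_sylow T'.2 T
  have h1 := hsq _ (hg x hx)
  rwa [show g * x * g⁻¹ * (g * x * g⁻¹) = g * (x * x) * g⁻¹ by group, conj_eq_one_iff] at h1

/-- The decomposition of `C_S(e)` and the rotation at a bad involution. -/
theorem at_bad (hcen : ∀ s ∈ (S : Subgroup G), ∀ a ∈ A, Commute s a) (heS : e ∈ (S : Subgroup G))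
    (hbad : BadAt A e) :
    ∃ (r : G) (Q : Subgroup G), Q ≤ (S : Subgroup G) ⊓ centralizer ({e} : Set G) ∧ e ∈ Q ∧ A ⊓ Q = ⊥ ∧
      (∀ x ∈ (S : Subgroup G) ⊓ centralizer ({e} : Set G), ∃ a ∈ A, ∃ q ∈ Q, x = a * q) ∧
      (∀ x ∈ (S : Subgroup G) ⊓ centralizer ({e} : Set G), r * x * r⁻¹ ∈
        (S : Subgroup G) ⊓ centralizer ({e} : Set G)) ∧
      (∀ a ∈ A, a ≠ 1 → r * a * r⁻¹ ≠ a) ∧ ∀ q ∈ Q, Commute r q := by
  haveI := Fact.mk Nat.prime_two
  obtain ⟨P, K, hM, helem, -⟩ := hbad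
  set W := (S : Subgroup G) ⊓ centralizer ({e} : Set G) with hW
  set Q := W ⊓ pre e (centralizer (K : Set (CQ e))) with hQ
  have hinj : ∀ {x : G} (hx : x ∈ (S : Subgroup G)) (hxc : x ∈ centralizer ({e} : Set G)),
      proj e ⟨x, hxc⟩ = 1 → x = 1 := fun hx hxc he =>
    CfsgLib.Walter.Rank.eq_one_of_proj (S := S) hx hxc he
  have hAW : A ≤ W := le_inf h.le_sylow hA
  have hdec : ∀ x ∈ W, ∃ a ∈ A, ∃ q ∈ Q, x = a * q := by
    intro x hx
    have hxA : x ∈ centralizer (A : Set G) :=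
      mem_centralizer_iff.2 fun a ha => (hcen x (mem_inf.1 hx).1 a ha).eq.symm
    have hxS : x ∈ (S : Subgroup G) := (mem_inf.1 hx).1
    have hxC : x ∈ centralizer ({e} : Set G) := (mem_inf.1 hx).2
    obtain ⟨j, hj⟩ := S.2 ⟨x, hxS⟩
    have hx2 : proj e ⟨x, hxC⟩ ^ 2 ^ j = 1 := by
      rw [← map_pow, show (⟨x, hxC⟩ : centralizer ({e} : Set G)) ^ 2 ^ j = 1 from
        Subtype.ext (by simpa using congrArg Subtype.val hj), map_one]
    have hxB : proj e ⟨x, hxC⟩ ∈ centralizer (img A e : Set (CQ e)) := mem_centralizer_iff.2 fun y hy => by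
      obtain ⟨a, ha, rfl⟩ := (mem_img_outer h hA4 hA).1 hy
      rw [← map_mul, ← map_mul]
      exact congrArg _ (Subtype.ext (mem_centralizer_iff.1 hxA a ha))
    obtain ⟨_, hb, hbc⟩ := hM.split_two (card_img h hA4 hA) (fun T _ => helem T) hx2 hxB
    obtain ⟨a, ha, rfl⟩ := (mem_img_outer h hA4 hA).1 hb
    refine ⟨a, ha, a⁻¹ * x, mem_inf.2 ⟨mul_mem (inv_mem (hAW ha)) hx, ?_⟩, (mul_inv_cancel_left a x).symm⟩
    rw [show a⁻¹ * x = x * a⁻¹ from
      ((show Commute x a from (mem_centralizer_iff.1 hxA a ha).symm).inv_right).eq.symm]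
    refine (mem_pre_iff (mul_mem hxC (inv_mem (hA ha)))).2 ?_
    rw [← map_inv, ← map_mul] at hbc
    exact hbc
  have hdisj : A ⊓ Q = ⊥ := (eq_bot_iff_forall _).2 fun a ha => by
    have haA : a ∈ A := (mem_inf.1 ha).1
    have h1 := (mem_pre_iff (hA haA)).1 (mem_inf.1 (mem_inf.1 ha).2).2
    have h2 : proj e ⟨a, hA haA⟩ ∈ img A e := (mem_img_outer h hA4 hA).2 ⟨a, haA, rfl⟩
    refine hinj (h.le_sylow haA) (hA haA) (congrArg Subtype.val
      (hM.inj ⟨_, hM.le h2⟩ h2 (mem_center_iff.2 fun k => Subtype.ext ?_)))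
    exact mem_centralizer_iff.1 h1 k k.2
  have heW : e ∈ W := mem_inf.2 ⟨heS, mem_centralizer_singleton_iff.2 rfl⟩
  have heQ : e ∈ Q := by
    refine mem_inf.2 ⟨heW, (mem_pre_iff (mem_inf.1 heW).2).2 (mem_centralizer_iff.2 fun k hk => ?_)⟩
    obtain ⟨g, rfl⟩ := QuotientGroup.mk'_surjective _ k
    rw [← map_mul, ← map_mul]
    exact congrArg _ (Subtype.ext (mem_centralizer_singleton_iff.1 g.2))
  -- the rotation
  obtain ⟨k, hkB, hkf⟩ := hM.exists_rot
  set C := centralizer ({e} : Set G) with hC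
  set O := Cfsg.pPrimeCore 2 ↥C
  obtain ⟨g, hg⟩ := QuotientGroup.mk'_surjective O (k : CQ e)
  have hgproj : ∀ (o : C), o ∈ O → proj e (o * g) = (k : CQ e) := fun o ho => by
    rw [map_mul, show proj e o = 1 from (QuotientGroup.eq_one_iff o).2 ho, one_mul]
    exact hg
  have hkQ : ∀ (q : G) (hq : q ∈ C), q ∈ Q → (k : CQ e) * proj e ⟨q, hq⟩ * (k : CQ e)⁻¹ = proj e ⟨q, hq⟩ :=
    fun q hq hqQ => by
      rw [mem_centralizer_iff.1 ((mem_pre_iff hq).1 (mem_inf.1 hqQ).2) k k.2, mul_inv_cancel_right]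
  have hnorm : QuotientGroup.mk' O g ∈
      normalizer (((W.subgroupOf C).map (QuotientGroup.mk' O) : Subgroup _) : Set (CQ e)) := by
    refine mem_normalizer_fintype ?_
    rintro _ ⟨⟨x, hxC⟩, hx, rfl⟩
    rw [hg]
    obtain ⟨a, ha, q, hq, rfl⟩ := hdec x hx
    have hqC : q ∈ C := (mem_inf.1 (mem_inf.1 hq).1).2
    obtain ⟨a', ha', e1⟩ := (mem_img_outer h hA4 hA).1 (hkB _ ((mem_img_outer h hA4 hA).2 ⟨a, ha, rfl⟩))
    refine ⟨⟨a', hA ha'⟩ * ⟨q, hqC⟩, mem_subgroupOf.2 (mul_mem (hAW ha') (mem_inf.1 hq).1), ?_⟩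
    show proj e (⟨a', hA ha'⟩ * ⟨q, hqC⟩) = (k : CQ e) * proj e (⟨a, hA ha⟩ * ⟨q, hqC⟩) * (k : CQ e)⁻¹
    rw [map_mul, map_mul, e1]
    conv_lhs => rw [← hkQ q hqC hq]
    group
  obtain ⟨o, ho, hon⟩ := CfsgLib.Coprime.exists_mem_normalizer_lift (p := 2) (O := O) (P := W.subgroupOf C)
    (CfsgLib.Coprime.pPrimeCore_not_dvd Nat.prime_two)
    ((S.2.to_le inf_le_left).comap_of_injective C.subtype C.subtype_injective) (g := g) hnorm
  have hrW : ∀ x ∈ W, ((o * g : C) : G) * x * ((o * g : C) : G)⁻¹ ∈ W := fun x hx =>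
    mem_subgroupOf.1 ((mem_normalizer_iff.1 hon ⟨x, (mem_inf.1 hx).2⟩).1 (mem_subgroupOf.2 hx))
  refine ⟨((o * g : C) : G), Q, inf_le_left, heQ, hdisj, hdec, hrW, fun a ha ha1 he => ?_,
    fun q hq => ?_⟩
  · have h2 : proj e ⟨a, hA ha⟩ ∈ img A e := (mem_img_outer h hA4 hA).2 ⟨a, ha, rfl⟩
    refine hkf _ h2 (fun e0 => ha1 (hinj (h.le_sylow ha) _ e0)) ?_
    rw [← hgproj o ho, ← map_inv, ← map_mul, ← map_mul]
    exact congrArg _ (Subtype.ext he)
  · have hqW := (mem_inf.1 hq).1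
    have hqC : q ∈ C := (mem_inf.1 hqW).2
    set r := ((o * g : C) : G) with hr
    have h1 : r * q * r⁻¹ * q⁻¹ = 1 := by
      refine hinj (mul_mem (mem_inf.1 (hrW q hqW)).1 (inv_mem (mem_inf.1 hqW).1))
        (mul_mem (mem_inf.1 (hrW q hqW)).2 (inv_mem hqC)) ?_
      show proj e ((o * g) * ⟨q, hqC⟩ * (o * g)⁻¹ * (⟨q, hqC⟩ : C)⁻¹) = 1
      rw [map_mul, map_mul, map_mul, map_inv, map_inv, hgproj o ho, hkQ q hqC hq, mul_inv_cancel]
    rw [mul_inv_eq_one, mul_inv_eq_iff_eq_mul] at h1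
    exact h1

/-- The order of the group does not divide `60480`. -/
theorem not_dvd_of_bad (hbad : BadAt A e) : ¬ Nat.card G ∣ 60480 := by
  obtain ⟨P, K, hM, -, hlarge⟩ := hbad
  intro hd
  exact hlarge ((hM.card_quot_dvd.trans ((Subgroup.card_quotient_dvd_card _).trans
    (card_subgroup_dvd_card _))).trans hd)

end CfsgLib.Gold.Rank2
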