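import Cfsg.Agent.Lib.Goldschmidt.Comp.Spec
import Cfsg.Agent.Lib.Fusion.AbelianSylowAut
import Cfsg.Agent.Lib.Coprime.LBalance.Cores
import Cfsg.Agent.Lib.FT.NoMinSimple
import Cfsg.Agent.Lib.Invol.Basic

/-!
# Rank two: a component not centralized by a strongly closed four group

The component contains the four group, which maps onto the elements of order at most two of a Sylow subgroup of
the simple quotient. If that quotient has no core at its involution centralizers and no odd automorphism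
centralizing one of them, the component is harmless for balance.
-/

set_option autoImplicit false
set_option linter.style.haveILetI false
set_option linter.unusedSectionVars false

namespace CfsgLib.Gold.Rank2

open Subgroup
open scoped commutatorElement

universe u

variable {X : Type u} [Group X] [Finite X] {P : Sylow 2 X} {B : Subgroup X}

/-- No core at the centralizers of the involutions of `T`, and only the trivial automorphism of odd order
centralizes one of them. -/
def ModelOK {Y : Type u} [Group Y] (T : Subgroup Y) : Prop :=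
  ∀ v ∈ T, orderOf v = 2 → Cfsg.pPrimeCore 2 (centralizer ({v} : Set Y)) = ⊥ ∧
    ∀ α : MulAut Y, Odd (orderOf α) → (∀ c ∈ centralizer ({v} : Set Y), α c = c) → α = 1

omit [Finite X] in
/-- The action of the normalizer of a component on its simple quotient. -/
def quotAct (K : Subgroup X) : normalizer (K : Set X) →* MulAut (K ⧸ center K) :=
  { toFun := fun g => QuotientGroup.congr _ _ (normalizerMonoidHom K g)
      (CfsgLib.Coprime.map_center_equiv (normalizerMonoidHom K g))
    map_one' := MulEquiv.ext fun x => by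
      obtain ⟨k, rfl⟩ := QuotientGroup.mk'_surjective _ x
      show QuotientGroup.mk' (center K) (normalizerMonoidHom K 1 k) = _
      rw [map_one]; rfl
    map_mul' := fun g g' => MulEquiv.ext fun x => by
      obtain ⟨k, rfl⟩ := QuotientGroup.mk'_surjective _ x
      show QuotientGroup.mk' (center K) (normalizerMonoidHom K (g * g') k) = _
      rw [map_mul]; rfl }

omit [Finite X] in
theorem quotAct_apply (K : Subgroup X) (g : normalizer (K : Set X)) (k : K) :
    quotAct K g (QuotientGroup.mk' (center K) k) =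
      QuotientGroup.mk' (center K) ⟨(g : X) * k * (g : X)⁻¹, (mem_normalizer_iff.1 g.2 k).1 k.2⟩ := rfl

omit [Finite X] in
/-- An element acting trivially on the simple quotient centralizes the component. -/
theorem mem_centralizer_of_quotAct {K : Subgroup X} (hK : Cfsg.IsComponent K) {y : normalizer (K : Set X)}
    (hy : quotAct K y = 1) : (y : X) ∈ centralizer (K : Set X) := by
  have hz : ∀ k : K, (⟨(y : X) * k * (y : X)⁻¹, (mem_normalizer_iff.1 y.2 k).1 k.2⟩ : K) * k⁻¹ ∈ center K := by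
    intro k
    have h1 := quotAct_apply K y k
    rw [hy, MulAut.one_apply] at h1
    rw [← QuotientGroup.eq_one_iff]
    show QuotientGroup.mk' (center K) (_ * k⁻¹) = 1
    rw [map_mul, map_inv, ← h1, mul_inv_cancel]
  let φ : K →* center K :=
    { toFun := fun k => ⟨_, hz k⟩
      map_one' := Subtype.ext (Subtype.ext (by simp))
      map_mul' := fun k k' => Subtype.ext (by
        have hc := mem_center_iff.1 (hz k') (k⁻¹)
        have hc' := congrArg Subtype.val hc
        apply Subtype.ext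
        push_cast at hc' ⊢
        calc (y : X) * ((k : X) * k') * (y : X)⁻¹ * ((k : X) * k')⁻¹
            = (y : X) * k * (y : X)⁻¹ * (((y : X) * k' * (y : X)⁻¹ * (k' : X)⁻¹) * (k : X)⁻¹) := by group
          _ = (y : X) * k * (y : X)⁻¹ * ((k : X)⁻¹ * ((y : X) * k' * (y : X)⁻¹ * (k' : X)⁻¹)) := by rw [hc']
          _ = (y : X) * k * (y : X)⁻¹ * (k : X)⁻¹ * ((y : X) * k' * (y : X)⁻¹ * (k' : X)⁻¹) := by group) }
  have hker : φ.ker = ⊤ := by
    haveI := hK.2.1
    refine top_unique ((Group.IsPerfect.commutator_eq_top (G := K)).ge.trans ?_)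
    refine commutator_le.2 fun a _ b _ => ?_
    rw [MonoidHom.mem_ker, map_commutatorElement, commutatorElement_eq_one_iff_mul_comm]
    exact Subtype.ext (mem_center_iff.1 (φ b).2 _)
  refine mem_centralizer_iff.2 fun k hk => ?_
  have h1 : φ ⟨k, hk⟩ = 1 := MonoidHom.mem_ker.1 (hker.ge (mem_top _))
  have h2 : (y : X) * k * (y : X)⁻¹ * k⁻¹ = 1 := congrArg (fun z : center K => ((z : K) : X)) h1
  rw [mul_inv_eq_one, mul_inv_eq_iff_eq_mul] at h2
  exact h2.symm

/-- The data of a component not centralized by `B`. -/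
structure Met (P : Sylow 2 X) (B K : Subgroup X) : Prop where
  loc : Loc P B
  comp : Cfsg.IsComponent K
  le : B ≤ K
  inj : ∀ b : K, (b : X) ∈ B → b ∈ center K → b = 1
  sylow : ∃ T : Sylow 2 K, (∀ x : K, x ∈ (T : Subgroup K) ↔ (x : X) ∈ (P : Subgroup X)) ∧
    Model (K ⧸ center K) ((T : Subgroup K).map (QuotientGroup.mk' (center K))) ∧
    Nat.card {x : K ⧸ center K // x ∈ (T : Subgroup K).map (QuotientGroup.mk' (center K)) ∧ x * x = 1} = 4 ∧
    ∀ x, x ∈ (T : Subgroup K).map (QuotientGroup.mk' (center K)) ∧ x * x = 1 ↔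
      x ∈ (B.subgroupOf K).map (QuotientGroup.mk' (center K))

/-- A component not centralized by a four group contains it. -/
theorem met_of_not_centralized (h : Loc P B) (hB4 : Nat.card B = 4) {K : Subgroup X}
    (hK : Cfsg.IsComponent K) (hm : ¬ B ≤ centralizer (K : Set X)) : Met P B K := by
  classical
  obtain ⟨T, hT, hM, hcov⟩ := h.met_spec hK hm
  set q := QuotientGroup.mk' (center K) with hq
  set Ω := {x : K ⧸ center K // x ∈ (T : Subgroup K).map q ∧ x * x = 1} with hΩ
  have hin : ∀ b : K, (b : X) ∈ B → q b ∈ (T : Subgroup K).map q ∧ q b * q b = 1 := fun b hb =>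
    ⟨mem_map_of_mem q ((hT b).2 (h.closed.1 hb)), by
      rw [← map_mul, show b * b = 1 from Subtype.ext (h.sq _ hb), map_one]⟩
  let f : B.subgroupOf K → Ω := fun b => ⟨q b, hin b (mem_subgroupOf.1 b.2)⟩
  have hfs : Function.Surjective f := by
    rintro ⟨_, ⟨x, hx, rfl⟩, hxx⟩
    rw [← map_mul] at hxx
    obtain ⟨b, hb, hbz⟩ := hcov x hx ((QuotientGroup.eq_one_iff _).1 hxx)
    exact ⟨⟨b, mem_subgroupOf.2 hb⟩, Subtype.ext (QuotientGroup.eq.2 hbz)⟩
  have hcardBK : Nat.card (B.subgroupOf K) = Nat.card (B ⊓ K : Subgroup X) := by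
    rw [← inf_subgroupOf_right, Nat.card_congr (subgroupOfEquivOfLe (inf_le_right : B ⊓ K ≤ K)).toEquiv]
  have h1 := Nat.card_le_card_of_surjective f hfs
  have h2 : Nat.card (B ⊓ K : Subgroup X) ≤ 4 := hB4 ▸ Subgroup.card_le_of_le inf_le_left
  have h3 : 4 ≤ Nat.card Ω := hM.four
  have hle : B ≤ K := inf_eq_left.1 (Subgroup.eq_of_le_of_card_ge inf_le_left (by omega))
  have hfi : Function.Injective f :=
    ((Nat.bijective_iff_surjective_and_card f).2 ⟨hfs, by omega⟩).1
  refine ⟨h, hK, hle, fun b hb hbz => ?_, T, hT, hM, (show Nat.card Ω = 4 by omega), fun x => ⟨fun hx => ?_, ?_⟩⟩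
  · have h4 : f ⟨b, mem_subgroupOf.2 hb⟩ = f 1 := Subtype.ext
      (((QuotientGroup.eq_one_iff b).2 hbz).trans (map_one q).symm)
    exact congrArg Subtype.val (hfi h4)
  · obtain ⟨b, hb⟩ := hfs ⟨x, hx⟩
    exact ⟨b, b.2, congrArg Subtype.val hb⟩
  · rintro ⟨b, hb, rfl⟩
    exact hin b (mem_subgroupOf.1 hb)

namespace Met

variable {K : Subgroup X} (hM : Met P B K)
include hM

theorem eq_of_eq {b b' : K} (hb : (b : X) ∈ B) (hb' : (b' : X) ∈ B)
    (e : QuotientGroup.mk' (center K) b = QuotientGroup.mk' (center K) b') : b = b' :=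
  inv_mul_eq_one.1 (hM.inj _ (mul_mem (inv_mem hb) hb') (QuotientGroup.eq.1 e))

/-- Conjugation by an element of `K` moves an element of `B` modulo the centre only inside `B`. -/
theorem conj_mem {k b : K} (hb : (b : X) ∈ B)
    (e : QuotientGroup.mk' (center K) (k * b * k⁻¹) ∈ (B.subgroupOf K).map (QuotientGroup.mk' (center K))) :
    ((k * b * k⁻¹ : K) : X) ∈ B := by
  obtain ⟨b', hb', e⟩ := e
  obtain ⟨T, hT, -⟩ := hM.sylow
  have h1 : b'⁻¹ * (k * b * k⁻¹) ∈ center K := QuotientGroup.eq.1 e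
  have h2 : ((k * b * k⁻¹ : K) : X) ∈ (P : Subgroup X) := by
    have := mul_mem (hM.loc.closed.1 (mem_subgroupOf.1 hb')) (hM.loc.center_le_sylow hM.comp h1)
    rwa [← Subgroup.coe_mul, mul_inv_cancel_left] at this
  push_cast at h2 ⊢
  exact hM.loc.conj_mem hb h2

/-- An element centralizing `B` normalizes the component. -/
theorem le_normalizer (hB4 : Nat.card B = 4) : centralizer (B : Set X) ≤ normalizer (K : Set X) := by
  haveI := Fact.mk Nat.prime_two
  intro g hg
  rw [← CfsgLib.Coprime.conjBy_eq_self_iff]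
  by_contra hne
  have hK' : Cfsg.IsComponent (CfsgLib.Coprime.conjBy g K) :=
    CfsgLib.Coprime.isComponent_map_equiv (MulAut.conj g) hM.comp
  have hc := CfsgLib.Coprime.commutator_eq_bot_iff_forall.1
    (CfsgLib.Coprime.components_commute hK' hM.comp hne)
  have hB1 : B = ⊥ := (eq_bot_iff_forall _).2 fun b hb => by
    have hb' : b ∈ CfsgLib.Coprime.conjBy g K := CfsgLib.Coprime.mem_conjBy.2 (by
      rw [show g⁻¹ * b * g = b by rw [mul_assoc, mem_centralizer_iff.1 hg b hb, inv_mul_cancel_left]]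
      exact hM.le hb)
    exact congrArg Subtype.val (hM.inj ⟨b, hM.le hb⟩ hb
      (mem_center_iff.2 fun k => Subtype.ext (hc b hb' k k.2).symm))
  rw [hB1, Subgroup.card_bot] at hB4
  norm_num at hB4

/-- A harmless component is centralized by the core of the centralizer of each element of `B`. -/
theorem core_centralizes (hok : ∀ T : Sylow 2 (K ⧸ center K),
      Nat.card {x : K ⧸ center K // x ∈ (T : Subgroup (K ⧸ center K)) ∧ x * x = 1} = 4 →
        ModelOK (T : Subgroup (K ⧸ center K)))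
    {x : X} (hx : x ∈ B) (hx1 : x ≠ 1) :
    CfsgLib.Coprime.coreIn 2 (centralizer ({x} : Set X)) ≤ centralizer (K : Set X) := by
  haveI := Fact.mk Nat.prime_two
  obtain ⟨T, hT, -, h4, hTB⟩ := hM.sylow
  set q := QuotientGroup.mk' (center K) with hq
  have hqs : Function.Surjective q := QuotientGroup.mk'_surjective _
  have hxp : IsPGroup 2 (zpowers x) := CfsgLib.Coprime.isPGroup_zpowers (p := 2) (k := 1)
    (by rw [pow_one, pow_two]; exact hM.loc.sq x hx)
  obtain ⟨hcop, hBC, -, -, -⟩ := CfsgLib.Coprime.coreCentralizer_data hxp _ rfl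
  rw [CfsgLib.Coprime.centralizer_zpowers_eq] at hcop hBC
  set D := CfsgLib.Coprime.coreIn 2 (centralizer ({x} : Set X)) with hD
  have hnK : D ≤ normalizer (K : Set X) := by
    have := CfsgLib.Coprime.coreCentralizer_le_normalizer_component hM.loc.core hxp hM.comp
    rwa [CfsgLib.Coprime.centralizer_zpowers_eq] at this
  have hCD : centralizer ({x} : Set X) ≤ normalizer (D : Set X) :=
    Subgroup.le_normalizer.trans (CfsgLib.Coprime.normalizer_le_normalizer_coreIn _ _)
  set v : K := ⟨x, hM.le hx⟩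
  have hv2 : orderOf (q v) = 2 := CfsgLib.Invol.invol_iff.2 ⟨by
    rw [← map_mul, show v * v = 1 from Subtype.ext (hM.loc.sq x hx), map_one],
    fun e => hx1 (congrArg Subtype.val (hM.inj v hx ((QuotientGroup.eq_one_iff v).1 e)))⟩
  have hvT : q v ∈ (T : Subgroup K).map q := mem_map_of_mem q ((hT v).2 (hM.loc.closed.1 hx))
  obtain ⟨hcore, haut⟩ := hok (T.mapSurjective hqs) (by rw [Sylow.coe_mapSurjective]; exact h4) (q v)
    (by rw [Sylow.coe_mapSurjective]; exact hvT) hv2
  -- the centralizer in the quotient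
  have hlift : ∀ c ∈ centralizer ({q v} : Set (K ⧸ center K)),
      ∃ k : K, q k = c ∧ (k : X) ∈ centralizer ({x} : Set X) := by
    intro c hc
    obtain ⟨k, rfl⟩ := hqs c
    refine ⟨k, rfl, mem_centralizer_singleton_iff.2 ?_⟩
    have h1 : q (k * v * k⁻¹) = q v := by
      rw [map_mul, map_mul, map_inv, mem_centralizer_singleton_iff.1 hc, mul_inv_cancel_right]
    have h2 := hM.eq_of_eq (hM.conj_mem (k := k) (b := v) hx (h1 ▸ ⟨v, hx, rfl⟩)) hx h1
    have h3 : (k : X) * x * (k : X)⁻¹ = x := congrArg Subtype.val h2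
    exact mul_inv_eq_iff_eq_mul.1 h3
  set D₀ : Subgroup (K ⧸ center K) := (D.subgroupOf K).map q with hD₀
  have hD₀C : D₀ ≤ centralizer ({q v} : Set (K ⧸ center K)) := by
    rintro _ ⟨k, hk, rfl⟩
    refine mem_centralizer_singleton_iff.2 ?_
    rw [← map_mul, ← map_mul]
    exact congrArg q (Subtype.ext (mem_centralizer_singleton_iff.1 (hBC hk)))
  have hD₀ : D₀ = ⊥ := by
    have h1 : D₀ ≤ CfsgLib.Coprime.coreIn 2 (centralizer ({q v} : Set (K ⧸ center K))) := by
      refine CfsgLib.Coprime.le_coreIn hD₀C (fun c hc => mem_normalizer_fintype ?_) ?_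
      · obtain ⟨k, rfl, hk⟩ := hlift c hc
        rintro _ ⟨d, hd, rfl⟩
        refine ⟨k * d * k⁻¹, ?_, by rw [map_mul, map_mul, map_inv]⟩
        exact (mem_normalizer_iff.1 (hCD hk) (d : X)).1 hd
      · refine Nat.Coprime.coprime_dvd_left (card_map_dvd _ q) ?_
        refine hcop.coprime_dvd_left ?_
        rw [← card_map_of_injective K.subtype_injective]
        exact card_dvd_of_le (map_comap_le _ _)
    refine le_bot_iff.1 (h1.trans ?_)
    show (Cfsg.pPrimeCore 2 _).map _ ≤ ⊥
    rw [hcore, Subgroup.map_bot]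
  intro y hy
  refine mem_centralizer_of_quotAct hM.comp (y := ⟨y, hnK hy⟩) (haut _ ?_ fun c hc => ?_)
  · refine Odd.of_dvd_nat ?_ (orderOf_map_dvd _ _)
    rw [← Subgroup.orderOf_coe]
    exact Nat.Coprime.odd_of_right (hcop.coprime_dvd_left (Subgroup.orderOf_dvd_natCard _ hy))
  · obtain ⟨k, rfl, hk⟩ := hlift c hc
    rw [quotAct_apply]
    rw [← mul_inv_eq_one, ← map_inv, ← map_mul]
    have h2 : q (⟨y * k * y⁻¹, (mem_normalizer_iff.1 (hnK hy) k).1 k.2⟩ * k⁻¹) ∈ D₀ := by
      refine mem_map_of_mem q (mem_subgroupOf.2 ?_)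
      show y * (k : X) * y⁻¹ * (k : X)⁻¹ ∈ D
      have := mul_mem hy ((mem_normalizer_iff.1 (hCD hk) _).1 (inv_mem hy))
      simpa [mul_assoc] using this
    rw [hD₀, Subgroup.mem_bot] at h2
    exact h2

/-- With an elementary Sylow subgroup of the quotient, the `2`-elements centralizing `B` act on the component
as elements of `B`. -/
theorem split_two (hB4 : Nat.card B = 4)
    (helem : ∀ T : Sylow 2 (K ⧸ center K),
      Nat.card {x : K ⧸ center K // x ∈ (T : Subgroup (K ⧸ center K)) ∧ x * x = 1} = 4 →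
        ∀ x ∈ (T : Subgroup (K ⧸ center K)), x * x = 1)
    {g : X} {j : ℕ} (hg2 : g ^ 2 ^ j = 1) (hg : g ∈ centralizer (B : Set X)) :
    ∃ b ∈ B, g * b⁻¹ ∈ centralizer (K : Set X) := by
  haveI := Fact.mk Nat.prime_two
  obtain ⟨T, hT, -, h4, hTB⟩ := hM.sylow
  set q := QuotientGroup.mk' (center K) with hq
  have hqs : Function.Surjective q := QuotientGroup.mk'_surjective _
  haveI := hM.comp.2.2
  set Y := K ⧸ center K
  have hns : ¬ Group.IsSolvable Y := fun hsol => by
    haveI : Group.IsSolvable (center K) := CfsgLib.Coprime.isSolvable_of_isMulCommutative inferInstance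
    haveI : Group.IsSolvable K := Group.isSolvable_of_ker_le_range (center K).subtype q (by simp [hq])
    exact CfsgLib.Coprime.not_isSolvable_of_isComponent hM.comp inferInstance
  have hZ : center Y = ⊥ := (inferInstance : (center Y).Normal).eq_bot_or_eq_top.resolve_right fun e =>
    hns (Group.isSolvable_of_comm fun a b => (mem_center_iff.1 (e.ge (mem_top a)) b).symm)
  have hcore : Cfsg.pPrimeCore 2 Y = ⊥ := by
    refine (inferInstance : (Cfsg.pPrimeCore 2 Y).Normal).eq_bot_or_eq_top.resolve_right fun e => hns ?_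
    have hodd := CfsgLib.Coprime.pPrimeCore_coprime (G := Y) Nat.prime_two
    rw [e, card_top] at hodd
    exact CfsgLib.FT.isSolvable_of_odd Y (Nat.coprime_two_right.1 hodd)
  set T' := T.mapSurjective hqs with hT'
  have hsq : ∀ x ∈ (T' : Subgroup Y), x * x = 1 :=
    helem T' (by rw [hT', Sylow.coe_mapSurjective]; exact h4)
  have hcomm : IsMulCommutative (T' : Subgroup Y) := isMulCommutative_iff.2 fun a b => Subtype.ext (by
    show (a : Y) * b = b * a
    have h1 := hsq _ (mul_mem a.2 b.2)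
    rw [mul_eq_one_iff_eq_inv, mul_inv_rev, inv_eq_of_mul_eq_one_right (hsq _ a.2),
      inv_eq_of_mul_eq_one_right (hsq _ b.2)] at h1
    exact h1)
  have hTmem : ∀ {y : Y}, y ∈ (T' : Subgroup Y) → y ∈ (B.subgroupOf K).map q := fun {y} hy => by
    refine (hTB y).1 ⟨?_, hsq y hy⟩
    rwa [hT', Sylow.coe_mapSurjective] at hy
  set gN : normalizer (K : Set X) := ⟨g, hM.le_normalizer hB4 hg⟩
  set β := quotAct K gN with hβ
  have hfix : ∀ x ∈ (T' : Subgroup Y), β x = x := fun x hx => by
    obtain ⟨b, hb, rfl⟩ := hTmem hx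
    rw [hβ, quotAct_apply]
    refine congrArg q (Subtype.ext ?_)
    show g * (b : X) * g⁻¹ = b
    rw [← mem_centralizer_iff.1 hg (b : X) hb, mul_inv_cancel_right]
  have hβ2 : β ^ 2 ^ j = 1 := by
    rw [hβ, ← map_pow, show gN ^ 2 ^ j = 1 from Subtype.ext (by simpa using hg2), map_one]
  obtain ⟨i, -, hi⟩ := (Nat.dvd_prime_pow Nat.prime_two).1 (orderOf_dvd_of_pow_eq_one hβ2)
  obtain ⟨t, ht⟩ := CfsgLib.Fusion.isInner_of_fixes_abelian_sylow hZ hcore T' hcomm β hi hfix
  have hβt : β = MulAut.conj t := MulEquiv.ext ht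
  have ht2 : t ^ 2 ^ j = 1 := by
    rw [← Subgroup.mem_bot, ← hZ]
    refine mem_center_iff.2 fun x => ?_
    have h1 : MulAut.conj (t ^ 2 ^ j) x = x := by rw [map_pow, ← hβt, hβ2, MulAut.one_apply]
    rw [MulAut.conj_apply, mul_inv_eq_iff_eq_mul] at h1
    exact h1.symm
  have htT : t ∈ (T' : Subgroup Y) := by
    have hn : t ∈ normalizer ((T' : Subgroup Y) : Set Y) := mem_normalizer_fintype fun r hr => by
      rw [← ht, hfix r hr]; exact hr
    have hle : (T' : Subgroup Y) ⊔ zpowers t = T' := T'.3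
      (T'.2.to_sup_of_normal_left' (CfsgLib.Coprime.isPGroup_zpowers ht2) (zpowers_le.2 hn)) le_sup_left
    exact hle ▸ mem_sup_right (mem_zpowers t)
  obtain ⟨b, hb, rfl⟩ := hTmem htT
  refine ⟨b, hb, ?_⟩
  set bN : normalizer (K : Set X) := ⟨b, Subgroup.le_normalizer b.2⟩
  refine mem_centralizer_of_quotAct hM.comp (y := gN * bN⁻¹) ?_
  rw [map_mul, map_inv, ← hβ, mul_inv_eq_one, hβt]
  refine MulEquiv.ext fun x => ?_
  obtain ⟨k, rfl⟩ := hqs x
  rw [quotAct_apply, MulAut.conj_apply, ← map_inv, ← map_mul, ← map_mul]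
  rfl

/-- A torus of the component. -/
theorem exists_rot : ∃ k : K, (∀ b ∈ B, (k : X) * b * (k : X)⁻¹ ∈ B) ∧
    ∀ b ∈ B, b ≠ 1 → (k : X) * b * (k : X)⁻¹ ≠ b := by
  obtain ⟨T, hT, hmod, h4, hTB⟩ := hM.sylow
  set q := QuotientGroup.mk' (center K) with hq
  have hqs : Function.Surjective q := QuotientGroup.mk'_surjective _
  obtain ⟨τ, hτ, htr⟩ := hmod.torus
  obtain ⟨k, rfl⟩ := hqs τ
  have hmem : ∀ b : K, (b : X) ∈ B → q b ∈ (T : Subgroup K).map q ∧ q b * q b = 1 := fun b hb =>
    (hTB (q b)).2 (mem_map_of_mem q (mem_subgroupOf.2 hb))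
  refine ⟨k, fun b hb => ?_, fun b hb hb1 he => ?_⟩
  · obtain ⟨h1, h2⟩ := hmem ⟨b, hM.le hb⟩ hb
    refine hM.conj_mem (k := k) (b := ⟨b, hM.le hb⟩) hb ((hTB _).1 ?_)
    rw [map_mul, map_mul, map_inv]
    refine ⟨(mem_normalizer_iff.1 hτ _).1 h1, ?_⟩
    rw [show ∀ s t : K ⧸ center K, s * t * s⁻¹ * (s * t * s⁻¹) = s * (t * t) * s⁻¹ from fun s t => by group,
      h2, mul_one, mul_inv_cancel]
  · obtain ⟨h1, h2⟩ := hmem ⟨b, hM.le hb⟩ hb
    have hq1 : q ⟨b, hM.le hb⟩ ≠ 1 := fun e =>
      hb1 (congrArg Subtype.val (hM.inj _ hb ((QuotientGroup.eq_one_iff _).1 e)))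
    have hfix : ∀ i : ℕ, q k ^ i * q ⟨b, hM.le hb⟩ * (q k ^ i)⁻¹ = q ⟨b, hM.le hb⟩ := fun i => by
      rw [← map_pow, ← map_inv, ← map_mul, ← map_mul]
      refine congrArg q (Subtype.ext ?_)
      have hc : Commute (k : X) b := mul_inv_eq_iff_eq_mul.1 he
      push_cast
      rw [(hc.pow_left i).eq, mul_inv_cancel_right]
    haveI : Fintype {x : K ⧸ center K // x ∈ (T : Subgroup K).map q ∧ x * x = 1} := Fintype.ofFinite _
    have hsub : ∀ x : {x : K ⧸ center K // x ∈ (T : Subgroup K).map q ∧ x * x = 1},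
        x.1 = 1 ∨ x.1 = q ⟨b, hM.le hb⟩ := by
      rintro ⟨x, hx, hxx⟩
      by_cases hx1 : x = 1
      · exact Or.inl hx1
      obtain ⟨i, hi⟩ := htr _ h1 h2 hq1 x hx hxx hx1
      exact Or.inr (hi.symm.trans (hfix i))
    have h5 : Nat.card {x : K ⧸ center K // x ∈ (T : Subgroup K).map q ∧ x * x = 1} ≤ Nat.card Bool := by
      classical
      refine Nat.card_le_card_of_injective (fun x => decide (x.1 = 1)) fun x y e => Subtype.ext ?_
      have e' := decide_eq_decide.1 e
      rcases hsub x with hx | hx <;> rcases hsub y with hy | hy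
      · rw [hx, hy]
      · rw [hx, e'.1 hx]
      · rw [hy, e'.2 hy]
      · rw [hx, hy]
    rw [h4, Nat.card_eq_fintype_card (α := Bool), Fintype.card_bool] at h5
    omega

theorem card_quot_dvd : Nat.card (K ⧸ center K) ∣ Nat.card X :=
  (card_quotient_dvd_card _).trans (card_subgroup_dvd_card K)

end Met

/-- If every component not centralized by the four group is harmless then no element of it has a core in its
centralizer. -/
theorem coreIn_eq_bot (h : Loc P B) (hB4 : Nat.card B = 4)
    (hok : ∀ K : Subgroup X, Met P B K → ∀ T : Sylow 2 (K ⧸ center K),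
      Nat.card {x : K ⧸ center K // x ∈ (T : Subgroup (K ⧸ center K)) ∧ x * x = 1} = 4 →
        ModelOK (T : Subgroup (K ⧸ center K)))
    {x : X} (hx : x ∈ B) (hx1 : x ≠ 1) : CfsgLib.Coprime.coreIn 2 (centralizer ({x} : Set X)) = ⊥ := by
  haveI := Fact.mk Nat.prime_two
  have hxp : IsPGroup 2 (zpowers x) := CfsgLib.Coprime.isPGroup_zpowers (p := 2) (k := 1)
    (by rw [pow_one, pow_two]; exact h.sq x hx)
  obtain ⟨hcop, -, hBO, -, -⟩ := CfsgLib.Coprime.coreCentralizer_data hxp _ rfl
  rw [CfsgLib.Coprime.centralizer_zpowers_eq] at hcop hBO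
  set D := CfsgLib.Coprime.coreIn 2 (centralizer ({x} : Set X)) with hD
  have hcomp : ∀ K : Subgroup X, Cfsg.IsComponent K → D ≤ centralizer (K : Set X) := by
    intro K hK
    by_cases hm : B ≤ centralizer (K : Set X)
    · have := CfsgLib.Coprime.coreCentralizer_le_centralizer_of_centralized (p := 2) h.core hK (hm hx)
      rwa [CfsgLib.Coprime.centralizerPPrimeCore_eq, CfsgLib.Coprime.centralizer_zpowers_eq] at this
    · have hM := met_of_not_centralized h hB4 hK hm
      exact hM.core_centralizes (hok K hM) hx hx1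
  have hE : D ≤ centralizer (Cfsg.layer X : Set X) := by
    rw [le_centralizer_iff]
    exact sSup_le fun K hK => le_centralizer_iff.1 (hcomp K hK)
  have hfit := CfsgLib.Coprime.fitting_eq_pCore_of_pPrimeCore_eq_bot h.core
  have hFit : D ≤ centralizer (Cfsg.generalizedFittingSubgroup X : Set X) := by
    rw [le_centralizer_iff, Cfsg.generalizedFittingSubgroup, hfit]
    exact sup_le (le_centralizer_iff.1 hE) (le_centralizer_iff.1 hBO)
  have h1 : D ≤ Cfsg.pCore 2 X := by
    rw [← hfit, ← CfsgLib.Coprime.generalizedFitting_inf_centralizer_layer]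
    exact le_inf (hFit.trans CfsgLib.Coprime.centralizer_generalizedFitting_le) hE
  rw [eq_bot_iff, ← CfsgLib.Coprime.pPrime_inf_pGroup_eq_bot hcop (CfsgLib.Coprime.pCore_isPGroup 2)]
  exact le_inf le_rfl h1

end CfsgLib.Gold.Rank2
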