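import Cfsg.Agent.Lib.Goldschmidt.Rank2.Rot

/-!
# Rank two, centralizers of order sixteen: the coordinates of type `L₃(4)`
-/

set_option autoImplicit false
set_option linter.unusedSectionVars false
set_option linter.style.haveILetI false

namespace CfsgLib.Gold.Rank2

open Subgroup
open CfsgLib.Invol.HeisFour (V fm H4 fm_add_left fm_add_right)
open CfsgLib.Invol.L34Type (subA subB subZ)

universe u

variable {G : Type u} [Group G]

theorem subB_comm : ∀ p q : H4, p.a = 0 → q.a = 0 → p * q = q * p ∧ p * p = 1 := by decide +kernel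

theorem subB_normal : ∀ p q : H4, q.a = 0 → (p * q * p⁻¹).a = 0 := by decide +kernel

theorem card_subA : Nat.card subA = 16 := by
  rw [Nat.card_congr (β := V × V)
    { toFun := fun p => (p.1.a, p.1.c)
      invFun := fun x => ⟨⟨x.1, 0, x.2⟩, rfl⟩
      left_inv := fun p => Subtype.ext (CfsgLib.Invol.HeisFour.H4.ext' rfl p.2.symm rfl)
      right_inv := fun _ => rfl }]
  simp

theorem card_subB : Nat.card subB = 16 := by
  rw [Nat.card_congr (β := V × V)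
    { toFun := fun p => (p.1.b, p.1.c)
      invFun := fun x => ⟨⟨0, x.1, x.2⟩, rfl⟩
      left_inv := fun p => Subtype.ext (CfsgLib.Invol.HeisFour.H4.ext' p.2.symm rfl rfl)
      right_inv := fun _ => rfl }]
  simp

/-- A map on `V` given on the basis. -/
def vm (x y : G) (u : V) : G := (if u.1 = 0 then 1 else x) * (if u.2 = 0 then 1 else y)

theorem vm_add {x y : G} (hx : x * x = 1) (hy : y * y = 1) (hxy : Commute x y) (u v : V) :
    vm x y (u + v) = vm x y u * vm x y v := by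
  have key : ∀ a : ZMod 2, a = 0 ∨ a = 1 := by decide
  have h11 : (1 : ZMod 2) + 1 = 0 := by decide
  obtain ⟨u1, u2⟩ := u
  obtain ⟨v1, v2⟩ := v
  have hyx : y * x = x * y := hxy.eq.symm
  have hxx : ∀ z, x * (x * z) = z := fun z => by rw [← mul_assoc, hx, one_mul]
  have hyy : ∀ z, y * (y * z) = z := fun z => by rw [← mul_assoc, hy, one_mul]
  have hyxz : ∀ z, y * (x * z) = x * (y * z) := fun z => by rw [← mul_assoc, hyx, mul_assoc]
  rcases key u1 with rfl | rfl <;> rcases key u2 with rfl | rfl <;> rcases key v1 with rfl | rfl <;>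
    rcases key v2 with rfl | rfl <;>
    simp [vm, mul_assoc, hx, hy, hxx, hyy, hyx, hyxz, h11]

theorem vm_mem {K : Subgroup G} {x y : G} (hx : x ∈ K) (hy : y ∈ K) (u : V) : vm x y u ∈ K := by
  unfold vm
  split_ifs <;> first | exact mul_mem (one_mem _) (one_mem _) | exact mul_mem hx (one_mem _) |
    exact mul_mem (one_mem _) hy | exact mul_mem hx hy

theorem vm_fst (x y : G) : vm x y (1, 0) = x := by simp [vm]

theorem vm_snd (x y : G) : vm x y (0, 1) = y := by simp [vm]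

theorem vm_zero (x y : G) : vm x y 0 = 1 := by simp [vm]

/-- Additive maps agree if they agree on the basis. -/
theorem vext {f g : V → G} (hf : ∀ u v, f (u + v) = f u * f v) (hg : ∀ u v, g (u + v) = g u * g v)
    (h1 : f (1, 0) = g (1, 0)) (h2 : f (0, 1) = g (0, 1)) (u : V) : f u = g u := by
  have hf0 : f 0 = 1 := mul_eq_left.1 ((hf 0 0).symm.trans (by rw [add_zero]))
  have hg0 : g 0 = 1 := mul_eq_left.1 ((hg 0 0).symm.trans (by rw [add_zero]))
  rcases CfsgLib.Invol.HeisFour.v_cases u with rfl | rfl | rfl | rfl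
  · rw [hf0, hg0]
  · exact h1
  · exact h2
  · rw [hf, hg, h1, h2]

variable [Finite G] {S : Sylow 2 G} {A : Subgroup G}

/-- The coordinates. -/
theorem exists_coord (hG : Ground S A) {w r : G} {Q : Subgroup G} (hw : IsMax S A w) (hr : RotData S A w r Q)
    (htop : Top S A w) (h16 : Nat.card (cw S w) = 16) : Nonempty (Coord S A) := by
  classical
  obtain ⟨a₁, ha₁, ha₁1⟩ := A.bot_or_exists_ne_one.resolve_left hG.setting.ne_bot
  set a₂ := r * a₁ * r⁻¹ with ha₂def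
  have ha₂ : a₂ ∈ A := hr.rot_A hG hw a₁ ha₁
  have ha₂1 : a₂ ≠ 1 := fun e => ha₁1 (conj_eq_one_iff.1 e)
  have hne : a₁ ≠ a₂ := fun e => hr.fpf a₁ ha₁ ha₁1 e.symm
  have hcyc := hG.rot_cycle (hr.rot_A hG hw) hr.fpf ha₁ ha₁1
  obtain ⟨s₁, hs₁, hs₁w⟩ := hr.surj hG hw htop ha₁
  have hs₁c : s₁ ∉ cw S w := fun h => ha₁1 (by rw [← hs₁w, val_eq_one (IsMax.comm hG hw h hw.1.mem_cw_self)])
  -- the values on `Q`
  have hQ : Nat.card Q = 4 := by
    have := hr.card_cw hG hw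
    omega
  have hvQ : ∀ t ∈ nt S w, t ∉ cw S w → ∀ a ∈ A, ∃ q ∈ Q, val t q = a := by
    intro t ht htc a ha
    let f : Q → A := fun q => ⟨val t q, val_mem_A hG hw ht q (hr.le q.2)⟩
    have hf : Function.Injective f := fun q q' e => by
      have h : val t q = val t q' := congrArg Subtype.val e
      by_contra hne'
      have h1 : val t ((q : G) * q') = 1 := by
        rw [val_hom_right hG hw (nt_le_hgrp hG hw ht) (hr.le q.2) (hr.le q'.2), h]
        exact hG.setting.sq _ (val_mem_A hG hw ht q' (hr.le q'.2))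
      refine htc (fix_mem hG hw ht (hr.le (mul_mem q.2 q'.2)) (fun hA => hne' (Subtype.ext ?_))
        (commute_of_val h1))
      have h2 : (q : G) * q' = 1 := mem_bot.1 (hr.disj.le (mem_inf.2 ⟨hA, mul_mem q.2 q'.2⟩))
      rw [mul_eq_one_iff_eq_inv.1 h2, inv_eq_of_mul_eq_one_right (IsMax.sq hG hw _ (hr.le q'.2))]
    obtain ⟨q, hq⟩ := ((Nat.bijective_iff_injective_and_card f).2 ⟨hf, by rw [hQ, hG.card_A]⟩).2 ⟨a, ha⟩
    exact ⟨q, q.2, congrArg Subtype.val hq⟩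
  have hsqmul : ∀ t ∈ nt S w, ∀ y ∈ cw S w, t * y * (t * y) = val t y * (t * t) := by
    intro t ht y hy
    have hy2 := IsMax.sq hG hw y hy
    calc t * y * (t * y) = val t y * y * (t * t) * y := by rw [val]; group
      _ = val t y * (y * (t * t)) * y := by group
      _ = val t y * (t * t * y) * y := by rw [(hG.central y (cw_le w hy) _ (sq_mem_A hG hw ht)).eq]
      _ = val t y * (t * t) := by rw [mul_assoc, mul_assoc, hy2, mul_one]
  obtain ⟨q₀, hq₀, hq₀v⟩ := hvQ s₁ hs₁ hs₁c _ (sq_mem_A hG hw hs₁)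
  set t₁ := s₁ * q₀
  have ht₁ : t₁ ∈ nt S w := mul_mem hs₁ (cw_le_nt w (hr.le hq₀))
  have ht₁2 : t₁ * t₁ = 1 := by rw [hsqmul s₁ hs₁ q₀ (hr.le hq₀), hq₀v]; exact hG.setting.sq _ (sq_mem_A hG hw hs₁)
  have ht₁v : ∀ y ∈ cw S w, val t₁ y = val s₁ y := fun y hy => by
    rw [val_hom_left hG hw (nt_le_hgrp hG hw hs₁) (nt_le_hgrp hG hw (cw_le_nt w (hr.le hq₀))) hy,
      val_eq_one (IsMax.comm hG hw (hr.le hq₀) hy), mul_one]
  have ht₁w : val t₁ w = a₁ := by rw [ht₁v w hw.1.mem_cw_self, hs₁w]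
  have ht₁c : t₁ ∉ cw S w := fun h => ha₁1 (by rw [← ht₁w, val_eq_one (IsMax.comm hG hw h hw.1.mem_cw_self)])
  obtain ⟨q₂, hq₂, hq₂v⟩ := hvQ t₁ ht₁ ht₁c a₂ ha₂
  obtain ⟨t₂, ht₂, ht₂v, ht₂sq⟩ := hr.equiv hG hw htop ht₁
  have ht₂2 : t₂ * t₂ = 1 := by rw [ht₂sq, ht₁2]; group
  have ht₂w : val t₂ w = a₂ := by rw [ht₂v w hr.w_mem, ht₁w]
  have ht₂q : val t₂ q₂ = a₁ * a₂ := by rw [ht₂v q₂ hq₂, hq₂v]; exact hcyc.1
  have ht₂c : t₂ ∉ cw S w := fun h => ha₂1 (by rw [← ht₂w, val_eq_one (IsMax.comm hG hw h hw.1.mem_cw_self)])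
  have ho₁ : Outer S A t₁ := ⟨(mem_inf.1 ht₁).1, ht₁2, fun h => ht₁c (A_le_cw hG hw.1.1 h)⟩
  have htt : Commute t₁ t₂ := by
    have hcA : val t₁ t₂ ∈ A := by rw [val]; exact comm_mem_A hG hw ht₁ ht₂
    obtain ⟨q, hq, hqv⟩ := hvQ t₁ ht₁ ht₁c _ hcA
    have hqS := cw_le w (hr.le hq)
    have h1 : val t₁ (t₂ * q) = 1 := by
      rw [val_mul_right, hqv, (hG.central t₂ (mem_inf.1 ht₂).1 _ hcA).eq, mul_inv_cancel_right]
      exact hG.setting.sq _ hcA
    have h2 : val t₂ q = 1 := by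
      have h3 := hG.sq_cent t₁ ho₁ (t₂ * q) (mul_mem (mem_inf.1 ht₂).1 hqS) (commute_of_val h1).symm
      rw [hsqmul t₂ ht₂ q (hr.le hq), ht₂2, mul_one] at h3
      exact h3 (val_mem_A hG hw ht₂ q (hr.le hq))
    have hqA : q ∈ A := by
      by_contra hqA
      exact ht₂c (fix_mem hG hw ht₂ (hr.le hq) hqA (commute_of_val h2))
    have hq1 : q = 1 := mem_bot.1 (hr.disj.le (mem_inf.2 ⟨hqA, hq⟩))
    rw [hq1, mul_one] at h1
    exact commute_of_val h1
  -- the three maps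
  have hwq : Commute w q₂ := IsMax.comm hG hw hw.1.mem_cw_self (hr.le hq₂)
  have hq₂2 := IsMax.sq hG hw q₂ (hr.le hq₂)
  let fA : V → nt S w := fun u => ⟨vm w q₂ u, vm_mem (cw_le_nt w hw.1.mem_cw_self) (cw_le_nt w (hr.le hq₂)) u⟩
  let fB : V → nt S w := fun u => ⟨vm t₁ t₂ u, vm_mem ht₁ ht₂ u⟩
  let fC : V → nt S w := fun u => ⟨vm a₁ a₂ u,
    vm_mem (cw_le_nt w (A_le_cw hG hw.1.1 ha₁)) (cw_le_nt w (A_le_cw hG hw.1.1 ha₂)) u⟩
  have hAq : ∀ u, vm w q₂ u ∈ cw S w := vm_mem hw.1.mem_cw_self (hr.le hq₂)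
  have hBn : ∀ u, vm t₁ t₂ u ∈ nt S w := vm_mem ht₁ ht₂
  have hCA : ∀ u, vm a₁ a₂ u ∈ A := vm_mem ha₁ ha₂
  have hAadd := vm_add hw.1.2.1 hq₂2 hwq
  have hBadd := vm_add ht₁2 ht₂2 htt
  have hCadd := vm_add (hG.setting.sq _ ha₁) (hG.setting.sq _ ha₂) (commA hG ha₁ ha₂)
  have hval : ∀ u v, val (vm t₁ t₂ v) (vm w q₂ u) = vm a₁ a₂ (fm u v) := by
    intro u
    refine vext (fun v v' => ?_) (fun v v' => by rw [fm_add_right, hCadd]) ?_ ?_
    · rw [hBadd]
      exact val_hom_left hG hw (nt_le_hgrp hG hw (hBn v)) (nt_le_hgrp hG hw (hBn v')) (hAq u)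
    · revert u
      refine vext (fun u u' => ?_) (fun u u' => by rw [fm_add_left, hCadd]) ?_ ?_
      · rw [hAadd]
        exact val_hom_right hG hw (nt_le_hgrp hG hw (hBn _)) (hAq u) (hAq u')
      · rw [vm_fst, vm_fst, show fm (1, 0) (1, 0) = (1, 0) by decide, vm_fst, ht₁w]
      · rw [vm_fst, vm_snd, show fm (0, 1) (1, 0) = (0, 1) by decide, vm_snd, hq₂v]
    · revert u
      refine vext (fun u u' => ?_) (fun u u' => by rw [fm_add_left, hCadd]) ?_ ?_
      · rw [hAadd]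
        exact val_hom_right hG hw (nt_le_hgrp hG hw (hBn _)) (hAq u) (hAq u')
      · rw [vm_snd, vm_fst, show fm (1, 0) (0, 1) = (0, 1) by decide, vm_snd, ht₂w]
      · rw [vm_snd, vm_snd, show fm (0, 1) (0, 1) = (1, 0) + (0, 1) by decide, hCadd, vm_fst, vm_snd, ht₂q]
  have hcardT : Nat.card (nt S w) = 64 := by rw [hr.card_nt hG hw htop, h16]
  obtain ⟨e, he⟩ := CfsgLib.Invol.HeisFour.exists_equiv hcardT fA fB fC
    (fun u v => Subtype.ext (hAadd u v)) (fun u v => Subtype.ext (hBadd u v))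
    (fun u v => Subtype.ext (hCadd u v))
    (fun u t => Subtype.ext (hG.central t (mem_inf.1 t.2).1 _ (hCA u)).eq)
    (fun u h => by
      have h' : vm a₁ a₂ u = 1 := congrArg Subtype.val h
      rcases CfsgLib.Invol.HeisFour.v_cases u with rfl | rfl | rfl | rfl
      · rfl
      · rw [vm_fst] at h'; exact absurd h' ha₁1
      · rw [vm_snd] at h'; exact absurd h' ha₂1
      · rw [hCadd, vm_fst, vm_snd] at h'
        exact absurd (by rw [mul_eq_one_iff_eq_inv.1 h', invA hG ha₂]) hne)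
    (fun u v => Subtype.ext (by
      show vm w q₂ u * vm t₁ t₂ v = vm t₁ t₂ v * vm w q₂ u * vm a₁ a₂ (fm u v)
      have hc := hCA (fm u v)
      have hSx := mul_mem (mem_inf.1 (hBn v)).1 (cw_le w (hAq u))
      rw [(hG.central _ hSx _ hc).eq, ← hval u v]
      have h2 : val (vm t₁ t₂ v) (vm w q₂ u) * val (vm t₁ t₂ v) (vm w q₂ u) = 1 :=
        hG.setting.sq _ (val_mem_A hG hw (hBn v) _ (hAq u))
      calc vm w q₂ u * vm t₁ t₂ v
          = (val (vm t₁ t₂ v) (vm w q₂ u))⁻¹ * (vm t₁ t₂ v * vm w q₂ u) := by rw [val]; group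
        _ = _ := by rw [inv_eq_of_mul_eq_one_right h2]))
  set θ : H4 →* G := (nt S w).subtype.comp e.toMonoidHom with hθ
  have hθp : ∀ p, θ p = vm t₁ t₂ p.b * vm w q₂ p.a * vm a₁ a₂ p.c := fun p => congrArg Subtype.val (he p)
  have hinj : Function.Injective θ := fun p q h => e.injective (Subtype.ext h)
  have hrange : θ.range = nt S w := by
    refine le_antisymm (by rintro _ ⟨p, rfl⟩; exact (e p).2) fun x hx => ⟨e.symm ⟨x, hx⟩, ?_⟩
    exact congrArg Subtype.val (e.apply_symm_apply ⟨x, hx⟩)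
  have hZ : subZ.map θ = A := by
    apply le_antisymm
    · rintro _ ⟨p, hp, rfl⟩
      obtain ⟨hb, ha⟩ := CfsgLib.Invol.L34Type.mem_subZ.1 hp
      rw [hθp, hb, ha, vm_zero, vm_zero, one_mul, one_mul]
      exact hCA _
    · intro a ha
      have hmk : ∀ u, vm a₁ a₂ u ∈ subZ.map θ := fun u =>
        ⟨⟨0, 0, u⟩, CfsgLib.Invol.L34Type.mem_subZ.2 ⟨rfl, rfl⟩, by rw [hθp, vm_zero, vm_zero, one_mul, one_mul]⟩
      rcases hG.cases ha₁ ha₂ ha₁1 ha₂1 hne ha with rfl | rfl | rfl | rfl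
      · exact one_mem _
      · simpa [vm_fst] using hmk (1, 0)
      · simpa [vm_snd] using hmk (0, 1)
      · have := hmk ((1, 0) + (0, 1))
        rwa [hCadd, vm_fst, vm_snd] at this
  have hA16 : subA.map θ = cw S w := by
    refine eq_of_le_of_card_ge ?_ (by rw [card_map_of_injective hinj, card_subA, h16])
    rintro _ ⟨p, hp, rfl⟩
    rw [hθp, CfsgLib.Invol.L34Type.mem_subA.1 hp, vm_zero, one_mul]
    exact mul_mem (hAq _) (A_le_cw hG hw.1.1 (hCA _))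
  have hB16c : Nat.card (subB.map θ) = 16 := by rw [card_map_of_injective hinj, card_subB]
  have hBle : subB.map θ ≤ cw S t₁ := by
    rintro _ ⟨p, hp, rfl⟩
    have h1 : θ ⟨0, (1, 0), 0⟩ = t₁ := by rw [hθp, vm_fst, vm_zero, vm_zero, mul_one, mul_one]
    refine mem_cw.2 ⟨(mem_inf.1 (hrange ▸ ⟨p, rfl⟩ : θ p ∈ nt S w)).1, ?_⟩
    rw [← h1]
    show θ p * θ ⟨0, (1, 0), 0⟩ = θ ⟨0, (1, 0), 0⟩ * θ p
    rw [← map_mul, ← map_mul, (subB_comm p ⟨0, (1, 0), 0⟩ (CfsgLib.Invol.L34Type.mem_subB.1 hp) rfl).1]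
  have hmax₁ : IsMax S A t₁ := ⟨ho₁, fun x hx => (hw.2 x hx).trans (by
    rw [h16, ← hB16c]; exact Subgroup.card_le_of_le hBle)⟩
  have hBeq : subB.map θ = cw S t₁ :=
    eq_of_le_of_card_ge hBle (by rw [hB16c, ← h16]; exact hw.2 _ ho₁)
  have hnB : θ.range ≤ nt S t₁ := by
    rintro _ ⟨p, rfl⟩
    refine mem_inf.2 ⟨(mem_inf.1 (hrange ▸ ⟨p, rfl⟩ : θ p ∈ nt S w)).1, mem_normalizer_fintype fun x hx => ?_⟩
    rw [SetLike.mem_coe, ← hBeq] at hx ⊢
    obtain ⟨q, hq, rfl⟩ := hx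
    exact ⟨p * q * p⁻¹, CfsgLib.Invol.L34Type.mem_subB.2 (subB_normal p q (CfsgLib.Invol.L34Type.mem_subB.1 hq)),
      by rw [map_mul, map_mul, map_inv]⟩
  have hnBeq : θ.range = nt S t₁ := eq_of_le_of_card_ge hnB (by
    rw [hrange, hcardT]
    refine (card_nt_le hG hmax₁).trans ?_
    rw [← hBeq, hB16c])
  refine ⟨{ θ := θ, inj := hinj, le := hrange ▸ inf_le_left, map_Z := hZ
            max_le := fun x hx => h16 ▸ hw.2 x hx
            cent_A := ?_, cent_B := ?_, norm_A := ?_, norm_B := ?_ }⟩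
  · intro p hp hpZ x hx hc
    have hy : θ p ∈ cw S w := hA16 ▸ mem_map_of_mem θ hp
    rw [hA16, ← IsMax.cw_eq hG hw hy fun hA => hpZ ((mem_map_iff_mem hinj).1 (hZ.symm ▸ hA))]
    exact mem_cw.2 ⟨hx, hc⟩
  · intro p hp hpZ x hx hc
    have hy : θ p ∈ cw S t₁ := hBeq ▸ mem_map_of_mem θ hp
    rw [hBeq, ← IsMax.cw_eq hG hmax₁ hy fun hA => hpZ ((mem_map_iff_mem hinj).1 (hZ.symm ▸ hA))]
    exact mem_cw.2 ⟨hx, hc⟩
  · intro x hx hn
    rw [hrange]
    exact mem_inf.2 ⟨hx, mem_normalizer_fintype fun y hy => hA16 ▸ hn y (hA16.symm ▸ hy)⟩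
  · intro x hx hn
    rw [hnBeq]
    exact mem_inf.2 ⟨hx, mem_normalizer_fintype fun y hy => hBeq ▸ hn y (hBeq.symm ▸ hy)⟩

end CfsgLib.Gold.Rank2
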