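import Cfsg.Agent.Lib.Goldschmidt.Rank2.Rot
import Cfsg.Agent.Lib.Fusion.Tate

/-!
# Rank two, centralizers of order eight: generalities
-/

set_option autoImplicit false
set_option linter.unusedSectionVars false
set_option linter.style.haveILetI false

namespace CfsgLib.Gold.Rank2

open Subgroup

universe u

variable {G : Type u} [Group G] [Finite G] {S : Sylow 2 G} {A : Subgroup G}

/-- No centralizer of an outside involution has order above eight. -/
def AtMostEight (S : Sylow 2 G) (A : Subgroup G) : Prop := ∀ x, Outer S A x → Nat.card (cw S x) ≤ 8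

/-- At every largest centralizer with largest normalizer some element of the coset has a rotation. -/
def HasRot (S : Sylow 2 G) (A : Subgroup G) : Prop :=
  ∀ x, IsMax S A x → Top S A x → ∃ a ∈ A, ∃ (r : G) (Q : Subgroup G), RotData S A (a * x) r Q

variable (hG : Ground S A)
include hG

theorem nt_mul_A {w a : G} (ha : a ∈ A) : nt S (a * w) = nt S w := by rw [nt, nt, cw_mul_A hG ha]

theorem Top.mul_A {w a : G} (h : Top S A w) (ha : a ∈ A) : Top S A (a * w) := fun x hx => by
  rw [nt_mul_A hG ha]; exact h x hx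

theorem card_cw_eight (h8 : AtMostEight S A) {w : G} (hw : Outer S A w) : Nat.card (cw S w) = 8 := by
  refine le_antisymm (h8 w hw) ?_
  have h2 := ((A.subgroupOf (cw S w))).card_mul_index
  rw [Nat.card_congr (subgroupOfEquivOfLe (A_le_cw hG hw.1)).toEquiv, hG.card_A] at h2
  have hne : (A.subgroupOf (cw S w)).index ≠ 1 := fun e => hw.2.2
    (mem_subgroupOf.1 ((index_eq_one.1 e).ge (mem_top (⟨w, hw.mem_cw_self⟩ : cw S w))))
  have h0 : (A.subgroupOf (cw S w)).index ≠ 0 := index_ne_zero_of_finite
  omega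

theorem isMax_of_eight (h8 : AtMostEight S A) {w : G} (hw : Outer S A w) : IsMax S A w :=
  ⟨hw, fun x hx => (h8 x hx).trans (card_cw_eight hG h8 hw).ge⟩

theorem cw_cases (h8 : AtMostEight S A) {w y : G} (hw : Outer S A w) (hy : y ∈ cw S w) :
    y ∈ A ∨ y * w ∈ A := by
  by_cases hyA : y ∈ A
  · exact Or.inl hyA
  have hidx : (A.subgroupOf (cw S w)).index = 2 := by
    have h2 := ((A.subgroupOf (cw S w))).card_mul_index
    rw [Nat.card_congr (subgroupOfEquivOfLe (A_le_cw hG hw.1)).toEquiv, hG.card_A,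
      card_cw_eight hG h8 hw] at h2
    omega
  have h := Subgroup.mul_mem_iff_of_index_two hidx (a := ⟨y, hy⟩) (b := ⟨w, hw.mem_cw_self⟩)
  simp only [mem_subgroupOf, Subgroup.coe_mul] at h
  exact Or.inr (h.2 (iff_of_false hyA hw.2.2))

/-- The square of a product with an element of the centralizer. -/
theorem sq_mul_cw {w t y : G} (hw : IsMax S A w) (ht : t ∈ nt S w) (hy : y ∈ cw S w) :
    t * y * (t * y) = val t y * (t * t) := by
  have hy2 := IsMax.sq hG hw y hy
  calc t * y * (t * y) = val t y * y * (t * t) * y := by rw [val]; group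
    _ = val t y * (y * (t * t)) * y := by group
    _ = val t y * (t * t * y) * y := by rw [(hG.central y (cw_le w hy) _ (sq_mem_A hG hw ht)).eq]
    _ = val t y * (t * t) := by rw [mul_assoc, mul_assoc, hy2, mul_one]

/-- Two elements moving `w` alike have squares differing at most by the value. -/
theorem sq_of_same_val (h8 : AtMostEight S A) {w t t' : G} (hw : IsMax S A w) (ht : t ∈ nt S w)
    (ht' : t' ∈ nt S w) (h : val t w = val t' w) : t' * t' = t * t ∨ t' * t' = val t w * (t * t) := by
  have he : t⁻¹ * t' ∈ cw S w := by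
    refine fix_mem hG hw (mul_mem (inv_mem ht) ht') hw.1.mem_cw_self hw.1.2.2 (commute_of_val ?_)
    have h1 := val_hom_left hG hw (inv_mem (nt_le_hgrp hG hw ht)) (nt_le_hgrp hG hw ht) hw.1.mem_cw_self
    rw [inv_mul_cancel, val_eq_one (Commute.one_left w)] at h1
    rw [val_hom_left hG hw (inv_mem (nt_le_hgrp hG hw ht)) (nt_le_hgrp hG hw ht') hw.1.mem_cw_self, ← h, ← h1]
  have hsq := sq_mul_cw hG hw ht he
  rw [mul_inv_cancel_left] at hsq
  rcases cw_cases hG h8 hw.1 he with hA | hA
  · exact Or.inl (by rw [hsq, val_eq_one (hG.central t (mem_inf.1 ht).1 _ hA), one_mul])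
  · refine Or.inr ?_
    have h2 : val t (t⁻¹ * t' * w) = 1 := val_eq_one (hG.central t (mem_inf.1 ht).1 _ hA)
    rw [val_hom_right hG hw (nt_le_hgrp hG hw ht) he hw.1.mem_cw_self] at h2
    rw [hsq, mul_eq_one_iff_eq_inv.1 h2, invA hG (val_mem_A hG hw ht w hw.1.mem_cw_self)]

/-- Transfer. -/
theorem false_of_transfer {M : Subgroup G} (hM : M ≤ (S : Subgroup G))
    (hidx : M.relIndex (S : Subgroup G) = 2) {u : G} (hu : Outer S A u) (hno : ∀ x, Outer S A x → x ∉ M) :
    False := by
  haveI := hG.setting.simple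
  obtain ⟨N, hN, hN2, -⟩ := CfsgLib.Fusion.thompson_transfer S hM hidx (u := u) (by rw [pow_two]; exact hu.2.1)
    (fun g hg => by
      by_cases hA : g * u * g⁻¹ ∈ A
      · have := hG.setting.closed.2 _ hA g⁻¹ (by
          rw [show g⁻¹ * (g * u * g⁻¹) * g⁻¹⁻¹ = u by group]; exact hu.1)
        rw [show g⁻¹ * (g * u * g⁻¹) * g⁻¹⁻¹ = u by group] at this
        exact hu.2.2 this
      · exact hno _ ⟨hM hg, by rw [show g * u * g⁻¹ * (g * u * g⁻¹) = g * (u * u) * g⁻¹ by group, hu.2.1]; group,
          hA⟩ hg)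
  rcases hN.eq_bot_or_eq_top with h | h
  · rw [h, index_bot] at hN2
    haveI : Fact (Nat.Prime 2) := ⟨Nat.prime_two⟩
    haveI := isCyclic_of_prime_card hN2
    exact hG.setting.noncomm (isMulCommutative_iff.2 fun a b => by
      letI := IsCyclic.commGroup (α := G); exact mul_comm a b)
  · rw [h, index_top] at hN2
    omega

end CfsgLib.Gold.Rank2
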