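import Cfsg.Agent.Lib.Goldschmidt.Rank2.EightBase

/-!
# Rank two, centralizers of order eight: the normalizer is the whole Sylow subgroup
-/

set_option autoImplicit false
set_option linter.unusedSectionVars false
set_option linter.style.haveILetI false

namespace CfsgLib.Gold.Rank2

open Subgroup

universe u

variable {G : Type u} [Group G] [Finite G] {S : Sylow 2 G} {A : Subgroup G}

/-- A subgroup of order sixteen without outside involutions kills `G`. -/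
theorem false_of_quad (hG : Ground S A) {y₁ y₂ u : G} (h1S : y₁ ∈ (S : Subgroup G)) (h2S : y₂ ∈ (S : Subgroup G))
    (h1 : y₁ * y₁ ∈ A) (h2 : y₂ * y₂ ∈ A) (hc : y₁ * y₂ * y₁⁻¹ * y₂⁻¹ ∈ A) (n1 : y₁ ∉ A) (n2 : y₂ ∉ A)
    (n12 : y₁ * y₂ ∉ A) (s1 : y₁ * y₁ ≠ 1) (s2 : y₂ * y₂ ≠ 1) (s12 : y₁ * y₂ * (y₁ * y₂) ≠ 1)
    (hS : Nat.card (S : Subgroup G) = 32) (hu : Outer S A u) : False := by
  haveI : (A.subgroupOf (S : Subgroup G)).Normal :=
    ⟨fun a ha g => by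
      rw [mem_subgroupOf] at ha ⊢
      show (g : G) * a * (g : G)⁻¹ ∈ A
      rw [(hG.central g g.2 _ ha).eq, mul_inv_cancel_right]
      exact ha⟩
  set f := QuotientGroup.mk' (A.subgroupOf (S : Subgroup G))
  set b₁ := f ⟨y₁, h1S⟩
  set b₂ := f ⟨y₂, h2S⟩
  have hf : ∀ z : (S : Subgroup G), f z = 1 ↔ (z : G) ∈ A := fun z => by
    rw [QuotientGroup.mk'_apply, QuotientGroup.eq_one_iff, mem_subgroupOf]
  have q1 : b₁ * b₁ = 1 := by rw [← map_mul]; exact (hf _).2 h1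
  have q2 : b₂ * b₂ = 1 := by rw [← map_mul]; exact (hf _).2 h2
  have qc : b₁ * b₂ = b₂ * b₁ := by
    have h : f (⟨y₁, h1S⟩ * ⟨y₂, h2S⟩ * ⟨y₁, h1S⟩⁻¹ * ⟨y₂, h2S⟩⁻¹) = 1 := (hf _).2 hc
    rw [map_mul, map_mul, map_mul, map_inv, map_inv, mul_inv_eq_one, mul_inv_eq_iff_eq_mul] at h
    exact h
  let K : Subgroup ((S : Subgroup G) ⧸ A.subgroupOf (S : Subgroup G)) :=
    { carrier := {z | z = 1 ∨ z = b₁ ∨ z = b₂ ∨ z = b₁ * b₂}
      one_mem' := Or.inl rfl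
      inv_mem' := by
        rintro z (rfl | rfl | rfl | rfl)
        · exact Or.inl inv_one
        · exact Or.inr (Or.inl (inv_eq_of_mul_eq_one_right q1))
        · exact Or.inr (Or.inr (Or.inl (inv_eq_of_mul_eq_one_right q2)))
        · refine Or.inr (Or.inr (Or.inr ?_))
          rw [mul_inv_rev, inv_eq_of_mul_eq_one_right q1, inv_eq_of_mul_eq_one_right q2, qc]
      mul_mem' := by
        have e1 : ∀ z, b₁ * (b₁ * z) = z := fun z => by rw [← mul_assoc, q1, one_mul]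
        have e2 : ∀ z, b₂ * (b₂ * z) = z := fun z => by rw [← mul_assoc, q2, one_mul]
        have e3 : ∀ z, b₂ * (b₁ * z) = b₁ * (b₂ * z) := fun z => by rw [← mul_assoc, ← qc, mul_assoc]
        rintro z z' (rfl | rfl | rfl | rfl) (rfl | rfl | rfl | rfl) <;>
          simp only [Set.mem_setOf_eq, one_mul, mul_one, mul_assoc, q1, q2, ← qc, e1, e2, e3, true_or, or_true] }
  have hb1 : b₁ ≠ 1 := fun e => n1 ((hf _).1 e)
  have hb2 : b₂ ≠ 1 := fun e => n2 ((hf _).1 e)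
  have hb12 : b₁ * b₂ ≠ 1 := fun e => n12 ((hf (⟨y₁, h1S⟩ * ⟨y₂, h2S⟩)).1 (by rw [map_mul]; exact e))
  have hb : b₁ ≠ b₂ := fun e => hb12 (by rw [← e]; exact q1)
  have hK : Nat.card K = 4 := by
    show Nat.card ({z | z = 1 ∨ z = b₁ ∨ z = b₂ ∨ z = b₁ * b₂} : Set _) = 4
    rw [show ({z | z = 1 ∨ z = b₁ ∨ z = b₂ ∨ z = b₁ * b₂} : Set _) = {1, b₁, b₂, b₁ * b₂} from rfl,
      Nat.card_coe_set_eq]
    rw [Set.ncard_insert_of_notMem (by simp [hb1.symm, hb2.symm, hb12.symm]) (Set.toFinite _),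
      Set.ncard_insert_of_notMem (by simp [hb, hb2]) (Set.toFinite _), Set.ncard_pair]
    intro e
    exact hb1 (mul_eq_right.1 e.symm)
  have hQ : Nat.card ((S : Subgroup G) ⧸ A.subgroupOf (S : Subgroup G)) = 8 := by
    have h := card_eq_card_quotient_mul_card_subgroup (A.subgroupOf (S : Subgroup G))
    rw [hS, Nat.card_congr (subgroupOfEquivOfLe (A_le hG)).toEquiv, hG.card_A] at h
    omega
  have hKi : K.index = 2 := by
    have := K.card_mul_index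
    rw [hK, hQ] at this
    omega
  refine false_of_transfer hG (M := (K.comap f).map (S : Subgroup G).subtype) (map_subtype_le _) ?_ hu ?_
  · rw [relIndex, subgroupOf, comap_map_eq_self_of_injective (S : Subgroup G).subtype_injective,
      index_comap_of_surjective _ (QuotientGroup.mk'_surjective _), hKi]
  · rintro x hx ⟨z, hz, rfl⟩
    have hsq : ∀ (y : (S : Subgroup G)), f z = f y → (y : G) * y = 1 := fun y hy => by
      have hd : (y : G)⁻¹ * z ∈ A := (hf (y⁻¹ * z)).1 (by rw [map_mul, map_inv, hy, inv_mul_cancel])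
      have hyi : ((y : G)⁻¹ * z)⁻¹ = (y : G)⁻¹ * z := invA hG hd
      have hc := (hG.central y y.2 _ hd).eq
      have h2 : (z : G) * z = 1 := hx.2.1
      rw [← mul_inv_cancel_left (y : G) z, mul_assoc, ← mul_assoc ((y : G)⁻¹ * z), ← hc, mul_assoc (y : G),
        hG.setting.sq _ hd, mul_one] at h2
      exact h2
    rcases (hz : f z = 1 ∨ f z = b₁ ∨ f z = b₂ ∨ f z = b₁ * b₂) with h | h | h | h
    · exact hx.2.2 ((hf z).1 h)
    · exact s1 (hsq ⟨y₁, h1S⟩ h)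
    · exact s2 (hsq ⟨y₂, h2S⟩ h)
    · exact s12 (hsq (⟨y₁, h1S⟩ * ⟨y₂, h2S⟩) (by rw [h, map_mul]))

/-- The normalizer of a centralizer is a proper subgroup of `S`. -/
theorem false_of_nt_eq_S (hG : Ground S A) (h8 : AtMostEight S A) (hrot : HasRot S A) {w : G}
    (hw : Outer S A w) (hnt : nt S w = (S : Subgroup G)) : False := by
  have htop₀ : Top S A w := fun x _ => by rw [hnt]; exact Subgroup.card_le_of_le inf_le_left
  obtain ⟨a, ha, r, Q, hr⟩ := hrot w (isMax_of_eight hG h8 hw) htop₀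
  set v := a * w
  have hv : IsMax S A v := isMax_of_eight hG h8 (hw.mul_A hG ha)
  have htop : Top S A v := htop₀.mul_A hG ha
  have hntv : nt S v = (S : Subgroup G) := (nt_mul_A hG ha).trans hnt
  have hS : Nat.card (S : Subgroup G) = 32 := by
    rw [← hntv, hr.card_nt hG hv htop, card_cw_eight hG h8 hv.1]
  obtain ⟨a₁, ha₁, ha₁1⟩ := A.bot_or_exists_ne_one.resolve_left hG.setting.ne_bot
  set a₂ := r * a₁ * r⁻¹ with ha₂def
  have ha₂ : a₂ ∈ A := hr.rot_A hG hv a₁ ha₁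
  have ha₂1 : a₂ ≠ 1 := fun e => ha₁1 (conj_eq_one_iff.1 e)
  have hne : a₁ ≠ a₂ := fun e => hr.fpf a₁ ha₁ ha₁1 e.symm
  have hcyc := hG.rot_cycle (hr.rot_A hG hv) hr.fpf ha₁ ha₁1
  have ha3 : a₁ * a₂ ∈ A := mul_mem ha₁ ha₂
  have h31 : a₁ * a₂ ≠ 1 := fun e => hne (by rw [mul_eq_one_iff_eq_inv.1 e, invA hG ha₂])
  obtain ⟨t₁, ht₁, hv₁⟩ := hr.surj hG hv htop ha₁
  obtain ⟨t₂, ht₂, hv₂, hq₂⟩ := hr.equiv hG hv htop ht₁
  obtain ⟨t₃, ht₃, hv₃, hq₃⟩ := hr.equiv hG hv htop ht₂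
  have hv₂' : val t₂ v = a₂ := by rw [hv₂ v hr.w_mem, hv₁]
  have hv₃' : val t₃ v = a₁ * a₂ := by rw [hv₃ v hr.w_mem, hv₂']; exact hcyc.1
  have hval : ∀ {y : G}, y ∈ nt S v → val y v ≠ 1 → y ∉ A := fun {y} _ h hy =>
    h (val_eq_one (hG.central v hv.1.1 y hy).symm)
  have hm := hv.1.mem_cw_self
  have hmul : ∀ {s s' : G}, s ∈ nt S v → s' ∈ nt S v → val (s * s') v = val s v * val s' v :=
    fun hs hs' => val_hom_left hG hv (nt_le_hgrp hG hv hs) (nt_le_hgrp hG hv hs') hm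
  have hsqv : ∀ {s b : G}, s ∈ nt S v → val s v = b → (s * v) * (s * v) = b * (s * s) ∧ val (s * v) v = b :=
    fun {s b} hs hb => ⟨by rw [sq_mul_cw hG hv hs hm, hb],
      by rw [hmul hs (cw_le_nt v hm), hb, val_eq_one (Commute.refl v), mul_one]⟩
  -- the elements over the three values
  obtain ⟨y₁, y₂, hy₁, hy₂, hw₁, hw₂, hs₁, hs₂⟩ : ∃ y₁ y₂, y₁ ∈ nt S v ∧ y₂ ∈ nt S v ∧ val y₁ v = a₁ ∧
      val y₂ v = a₂ ∧ y₁ * y₁ ≠ 1 ∧ y₂ * y₂ = r * (y₁ * y₁) * r⁻¹ := by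
    by_cases h1 : t₁ * t₁ = 1
    · have htv := mul_mem ht₁ (cw_le_nt v hm)
      have htv' := mul_mem ht₂ (cw_le_nt v hm)
      refine ⟨t₁ * v, t₂ * v, htv, htv', (hsqv ht₁ hv₁).2, (hsqv ht₂ hv₂').2, ?_, ?_⟩
      · rw [(hsqv ht₁ hv₁).1, h1, mul_one]; exact ha₁1
      · rw [(hsqv ht₁ hv₁).1, (hsqv ht₂ hv₂').1, hq₂, h1, ha₂def]; group
    · exact ⟨t₁, t₂, ht₁, ht₂, hv₁, hv₂', h1, hq₂⟩
  have hqA := sq_mem_A hG hv hy₁
  have hs₂' : y₂ * y₂ ≠ 1 := by rw [hs₂]; exact fun e => hs₁ (conj_eq_one_iff.1 e)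
  have hval12 : val (y₁ * y₂) v = a₁ * a₂ := by rw [hmul hy₁ hy₂, hw₁, hw₂]
  -- the product over the third value has square different from one
  have hs₁₂ : y₁ * y₂ * (y₁ * y₂) ≠ 1 := by
    obtain ⟨y₃, hy₃, hv3, hq3⟩ := hr.equiv hG hv htop hy₂
    have hw₃ : val y₃ v = a₁ * a₂ := by rw [hv3 v hr.w_mem, hw₂]; exact hcyc.1
    rw [hs₂] at hq3
    intro h0
    -- the squares over the third value
    rcases sq_of_same_val hG h8 hv hy₃ (mul_mem hy₁ hy₂) (by rw [hw₃, hval12]) with h | h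
    · rw [h0, hq3] at h
      exact hs₁ (conj_eq_one_iff.1 (conj_eq_one_iff.1 h.symm))
    · rw [h0, hw₃, hq3] at h
      have hq : y₁ * y₁ = a₁ := by
        have h3 : r * (r * (y₁ * y₁) * r⁻¹) * r⁻¹ = r * (r * a₁ * r⁻¹) * r⁻¹ := by
          rw [← ha₂def, hcyc.1]
          rw [eq_comm, mul_eq_one_iff_inv_eq, invA hG ha3] at h
          exact h.symm
        exact mul_left_cancel (mul_right_cancel (mul_left_cancel (mul_right_cancel h3)))
      -- then two involutions commute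
      set s₁ := y₁ * v
      set s₂ := y₂ * v
      have hq' : y₂ * y₂ = a₂ := by rw [hs₂, hq]
      have ho : ∀ {y b : G}, y ∈ nt S v → val y v = b → b ∈ A → b ≠ 1 → y * y = b →
          Outer S A (y * v) ∧ val (y * v) v = b := fun {y b} hy hb hbA hb1 hyq => by
        refine ⟨⟨mul_mem (mem_inf.1 hy).1 hv.1.1, by rw [(hsqv hy hb).1, hyq, hG.setting.sq b hbA], fun hA => ?_⟩,
          (hsqv hy hb).2⟩
        exact hb1 (((hsqv hy hb).2).symm.trans (val_eq_one (hG.central v hv.1.1 _ hA).symm))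
      obtain ⟨ho₁, hvs₁⟩ := ho hy₁ hw₁ ha₁ ha₁1 hq
      obtain ⟨ho₂, hvs₂⟩ := ho hy₂ hw₂ ha₂ ha₂1 hq'
      have hsn₁ : s₁ ∈ nt S v := mul_mem hy₁ (cw_le_nt v hm)
      have hsn₂ : s₂ ∈ nt S v := mul_mem hy₂ (cw_le_nt v hm)
      have hcm : Commute s₁ s₂ := by
        have hvy : v * y₂ = val y₂ v * (y₂ * v) :=
          calc v * y₂ = (val y₂ v)⁻¹ * (y₂ * v) := by rw [val]; group
            _ = val y₂ v * (y₂ * v) := by rw [invA hG (hw₂ ▸ ha₂)]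
        have h12 : s₁ * s₂ * (s₁ * s₂) = 1 := by
          have e : s₁ * s₂ = a₂ * (y₁ * y₂) := by
            show y₁ * v * (y₂ * v) = a₂ * (y₁ * y₂)
            rw [show y₁ * v * (y₂ * v) = y₁ * (v * y₂) * v by group, hvy, hw₂,
              show y₁ * (a₂ * (y₂ * v)) * v = y₁ * a₂ * y₂ * (v * v) by group, hv.1.2.1, mul_one,
              (hG.central y₁ (mem_inf.1 hy₁).1 _ ha₂).eq, mul_assoc]
          rw [e, show a₂ * (y₁ * y₂) * (a₂ * (y₁ * y₂)) = a₂ * ((y₁ * y₂) * a₂) * (y₁ * y₂) by group,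
            (hG.central _ (mem_inf.1 (mul_mem hy₁ hy₂)).1 _ ha₂).eq, ← mul_assoc a₂, hG.setting.sq a₂ ha₂,
            one_mul, h0]
        show s₁ * s₂ = s₂ * s₁
        rw [← inv_eq_of_mul_eq_one_right h12, mul_inv_rev, ho₁.inv, ho₂.inv]
      rcases cw_cases hG h8 ho₁ (mem_cw.2 ⟨ho₂.1, hcm.symm⟩) with hA | hA
      · exact ho₂.2.2 hA
      · have h3 : val (s₂ * s₁) v = 1 := val_eq_one (hG.central v hv.1.1 _ hA).symm
        rw [hmul hsn₂ hsn₁, hvs₂, hvs₁] at h3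
        exact hne (by rw [mul_eq_one_iff_eq_inv.1 h3, invA hG ha₁])
  exact false_of_quad hG (mem_inf.1 hy₁).1 (mem_inf.1 hy₂).1 hqA (sq_mem_A hG hv hy₂)
    (comm_mem_A hG hv hy₁ hy₂) (hval hy₁ (hw₁ ▸ ha₁1)) (hval hy₂ (hw₂ ▸ ha₂1))
    (hval (mul_mem hy₁ hy₂) (hval12 ▸ h31)) hs₁ hs₂' hs₁₂ hS hv.1

end CfsgLib.Gold.Rank2
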