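import Cfsg.Agent.Lib.SolvSignalizer.Main
import Cfsg.Agent.Lib.FT.NoMinSimple
import Cfsg.Agent.Lib.Invol.Basic
import Cfsg.Agent.Lib.Invol.InvertedOdd
import Cfsg.Agent.Lib.Invol.AbelianCent.Basic
import Cfsg.Agent.Lib.Goldschmidt.Rank2.NoOutside

/-!
# A four group acting on a group of odd order: the parts at the three involutions

If every part `P b` contains the commutators of `C(b)` with the four group, then the group generated by the
parts has no further fixed point than the common fixed points of the parts.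
-/

set_option autoImplicit false
set_option linter.style.haveILetI false

namespace CfsgLib.Gold.Rank2

open Subgroup
open scoped commutatorElement

universe u

variable {G : Type u} [Group G]

/-- The parts of an odd subgroup `H` at the involutions of a four group `A`. -/
structure Parts (A H : Subgroup G) (P : G → Subgroup G) : Prop where
  card : Nat.card A = 4
  sq : ∀ a ∈ A, a * a = 1
  odd : ¬ 2 ∣ Nat.card H
  inv : A ≤ normalizer (H : Set G)
  le : ∀ b ∈ A, b ≠ 1 → P b ≤ H ⊓ centralizer ({b} : Set G)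
  conj : ∀ b ∈ A, b ≠ 1 → ∀ h ∈ H ⊓ centralizer ({b} : Set G), ∀ x ∈ P b, h * x * h⁻¹ ∈ P b
  comm : ∀ b ∈ A, b ≠ 1 → ∀ h ∈ H ⊓ centralizer ({b} : Set G), ∀ a ∈ A, a * h * a⁻¹ * h⁻¹ ∈ P b
  bal : ∀ b ∈ A, b ≠ 1 → ∀ c ∈ A, c ≠ 1 → P b ⊓ centralizer ({c} : Set G) ≤ P c

/-- The group generated by the parts. -/
def gen (A : Subgroup G) (P : G → Subgroup G) : Subgroup G := ⨆ b : {b : G // b ∈ A ∧ b ≠ 1}, P b

theorem le_gen {A : Subgroup G} {P : G → Subgroup G} {b : G} (hb : b ∈ A) (hb1 : b ≠ 1) : P b ≤ gen A P :=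
  le_iSup (fun b : {b : G // b ∈ A ∧ b ≠ 1} => P b) ⟨b, hb, hb1⟩

namespace Parts

variable {A H : Subgroup G} {P : G → Subgroup G} (h : Parts A H P)
include h

theorem comm_mem {a b : G} (ha : a ∈ A) (hb : b ∈ A) : Commute a b := by
  have h1 := h.sq _ (mul_mem ha hb)
  rw [mul_eq_one_iff_eq_inv, mul_inv_rev, inv_eq_of_mul_eq_one_right (h.sq a ha),
    inv_eq_of_mul_eq_one_right (h.sq b hb)] at h1
  exact h1

theorem inv_eq {a : G} (ha : a ∈ A) : a⁻¹ = a := inv_eq_of_mul_eq_one_right (h.sq a ha)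

theorem gen_le : gen A P ≤ H := iSup_le fun b => (h.le b b.2.1 b.2.2).trans inf_le_left

theorem conj_mem {a x : G} (ha : a ∈ A) (hx : x ∈ H) : a * x * a⁻¹ ∈ H :=
  (mem_normalizer_iff.1 (h.inv ha) x).1 hx

/-- A point fixed by the four group and in one part is in every part. -/
theorem fixed {b c x : G} (hb : b ∈ A) (hb1 : b ≠ 1) (hc : c ∈ A) (hc1 : c ≠ 1) (hx : x ∈ P b)
    (hxA : x ∈ centralizer (A : Set G)) : x ∈ P c :=
  h.bal b hb hb1 c hc hc1 ⟨hx, mem_centralizer_singleton_iff.2 (mem_centralizer_iff.1 hxA c hc).symm⟩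

theorem exists_ne {b : G} (_hb : b ∈ A) : ∃ c ∈ A, c ≠ 1 ∧ c ≠ b := by
  classical
  by_contra hh
  push Not at hh
  have : Nat.card A ≤ 2 := by
    refine (Nat.card_le_card_of_injective (fun y : A => decide ((y : G) = 1)) fun y y' e => ?_).trans
      (by simp)
    by_cases h1 : (y : G) = 1
    · exact Subtype.ext (h1.trans ((decide_eq_decide.1 e).1 h1).symm)
    · exact Subtype.ext ((hh y y.2 h1).trans (hh y' y'.2 fun e' => h1 ((decide_eq_decide.1 e).2 e')).symm)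
  have := h.card
  omega

theorem inf_cent {b x : G} (hb : b ∈ A) (hb1 : b ≠ 1) (hx : x ∈ P b) :
    x ∈ H ⊓ centralizer ({b} : Set G) :=
  h.le b hb hb1 hx

variable [Finite G]

theorem odd_orderOf {x : G} (hx : x ∈ H) : Odd (orderOf x) :=
  Nat.not_even_iff_odd.1 fun e => h.odd ((even_iff_two_dvd.1 e).trans (Subgroup.orderOf_dvd_natCard H hx))

/-- An element of `C_H(b)` is a fixed point times an element of the part inverted outside `⟨b⟩`. -/
theorem split {b x : G} (hb : b ∈ A) (hb1 : b ≠ 1) (hx : x ∈ H ⊓ centralizer ({b} : Set G)) :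
    ∃ d i, x = d * i ∧ d ∈ H ∧ d ∈ centralizer (A : Set G) ∧ i ∈ P b ∧
      ∀ f ∈ A, f ≠ 1 → f ≠ b → f * i * f⁻¹ = i⁻¹ := by
  obtain ⟨c, hc, hc1, hcb⟩ := h.exists_ne hb
  set u := x⁻¹ * (c * x * c⁻¹) with hu
  have huP : u ∈ P b := by
    have h1 := h.comm b hb hb1 x hx c hc
    have h2 := h.conj b hb hb1 x⁻¹ (inv_mem hx) _ h1
    rwa [show x⁻¹ * (c * x * c⁻¹ * x⁻¹) * x⁻¹⁻¹ = u by rw [hu]; group] at h2
  have hcu : c * u * c⁻¹ = u⁻¹ := by
    calc c * u * c⁻¹ = (c * x * c⁻¹)⁻¹ * (c * c * x * (c * c)⁻¹) := by rw [hu]; group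
      _ = u⁻¹ := by rw [h.sq c hc, hu]; group
  have huo : Odd (orderOf u⁻¹) := by
    rw [orderOf_inv]
    exact h.odd_orderOf (h.inf_cent hb hb1 huP).1
  obtain ⟨i, hi, hii⟩ := CfsgLib.Invol.exists_sqrt_of_odd huo
  have hiP : i ∈ P b := zpowers_le.2 (inv_mem huP) hi
  have hci : c * i * c⁻¹ = i⁻¹ := by
    obtain ⟨k, rfl⟩ := mem_zpowers_iff.1 hi
    rw [show c * u⁻¹ ^ k * c⁻¹ = (c * u⁻¹ * c⁻¹) ^ k from conj_zpow.symm,
      show c * u⁻¹ * c⁻¹ = (c * u * c⁻¹)⁻¹ by group, hcu, inv_inv, inv_zpow, inv_inv]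
  refine ⟨x * i⁻¹, i, (inv_mul_cancel_right x i).symm,
    mul_mem hx.1 (inv_mem (h.inf_cent hb hb1 hiP).1), ?_, hiP, ?_⟩
  · have hcb' : Commute b x := (mem_centralizer_singleton_iff.1 hx.2).symm
    have hib : Commute b i := ((mem_centralizer_singleton_iff.1 (h.inf_cent hb hb1 hiP).2).symm :)
    have hd : Commute b (x * i⁻¹) := hcb'.mul_right (Commute.inv_right hib)
    have hdc : Commute c (x * i⁻¹) := by
      show c * (x * i⁻¹) = x * i⁻¹ * c
      have h1 : c * x * c⁻¹ = x * u := by rw [hu, mul_inv_cancel_left]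
      have h2 : c * i⁻¹ * c⁻¹ = i := by
        rw [show c * i⁻¹ * c⁻¹ = (c * i * c⁻¹)⁻¹ by group, hci, inv_inv]
      have h3 : u * i = i⁻¹ := by
        rw [eq_inv_iff_mul_eq_one, mul_assoc, hii, mul_inv_cancel]
      calc c * (x * i⁻¹) = (c * x * c⁻¹) * (c * i⁻¹ * c⁻¹) * c := by group
        _ = x * i⁻¹ * c := by rw [h1, h2, mul_assoc x u i, h3]
    refine mem_centralizer_iff.2 fun a ha => ?_
    by_cases ha1 : a = 1
    · rw [ha1, one_mul, mul_one]
    rcases mem_triple h.card h.sq hb hc hb1 hc1 hcb.symm ha ha1 with e | e | e <;> rw [e]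
    · exact hd
    · exact hdc
    · exact hd.mul_left hdc
  · intro f hf hf1 hfb
    rcases mem_triple h.card h.sq hb hc hb1 hc1 hcb.symm hf hf1 with e | e | e
    · exact absurd e hfb
    · rw [e, hci]
    · have hib : Commute b i⁻¹ := Commute.inv_right
        ((mem_centralizer_singleton_iff.1 (h.inf_cent hb hb1 hiP).2).symm :)
      rw [e, show b * c * i * (b * c)⁻¹ = b * (c * i * c⁻¹) * b⁻¹ by group, hci, hib.eq,
        mul_inv_cancel_right]

/-- The generated group has no further fixed point. -/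
theorem gen_inf : ∀ b ∈ A, b ≠ 1 → gen A P ⊓ centralizer (A : Set G) ≤ P b := by
  suffices key : ∀ n : ℕ, ∀ (H : Subgroup G) (P : G → Subgroup G), Nat.card H < n → Parts A H P →
      ∀ b ∈ A, b ≠ 1 → gen A P ⊓ centralizer (A : Set G) ≤ P b from
    key _ H P (Nat.lt_succ_self _) h
  intro n
  induction n with
  | zero => exact fun H P hn => absurd hn (Nat.not_lt_zero _)
  | succ n ih =>
  intro H P hn h b₀ hb₀ hb₀1
  -- reduce to `H = gen A P`
  by_cases hne : gen A P = H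
  swap
  · have hlt : Nat.card (gen A P) < Nat.card H :=
      lt_of_le_of_ne (Subgroup.card_le_of_le h.gen_le)
        fun e => hne (Subgroup.eq_of_le_of_card_ge h.gen_le e.ge)
    refine ih (gen A P) P (by omega) ⟨h.card, h.sq, fun e => h.odd (e.trans (card_dvd_of_le h.gen_le)), ?_,
      fun b hb hb1 => le_inf (le_gen hb hb1) ((h.le b hb hb1).trans inf_le_right),
      fun b hb hb1 x hx => h.conj b hb hb1 x ⟨h.gen_le hx.1, hx.2⟩,
      fun b hb hb1 x hx => h.comm b hb hb1 x ⟨h.gen_le hx.1, hx.2⟩, h.bal⟩ b₀ hb₀ hb₀1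
    refine fun a ha => mem_normalizer_fintype fun x hx => ?_
    have hle : gen A P ≤ (gen A P).comap (MulAut.conj a).toMonoidHom := iSup_le fun b y hy => by
      have h1 := h.comm b b.2.1 b.2.2 y (h.inf_cent b.2.1 b.2.2 hy) a ha
      have h2 := mul_mem h1 hy
      rw [inv_mul_cancel_right] at h2
      exact le_gen b.2.1 b.2.2 h2
    exact hle hx
  rw [hne]
  by_cases hH1 : H = ⊥
  · rw [hH1]; exact fun x hx => by rw [mem_bot.1 hx.1]; exact one_mem _
  -- the derived group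
  haveI hsolv : Group.IsSolvable H :=
    CfsgLib.FT.isSolvable_of_odd H (Nat.not_even_iff_odd.1 fun e => h.odd (even_iff_two_dvd.1 e))
  haveI : Nontrivial H := (Subgroup.nontrivial_iff_ne_bot H).2 hH1
  set R : Subgroup G := (commutator H).map H.subtype with hRdef
  have hRH : R ≤ H := map_subtype_le _
  have hRlt : Nat.card R < Nat.card H :=
    lt_of_le_of_ne (Subgroup.card_le_of_le hRH) fun e => by
      refine (Group.IsSolvable.commutator_lt_top_of_nontrivial H).ne ((Subgroup.card_eq_iff_eq_top _).1 ?_)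
      rw [← card_map_of_injective H.subtype_injective]
      exact e
  have hHR : ∀ g ∈ H, ∀ r ∈ R, g * r * g⁻¹ ∈ R := by
    rintro g hg _ ⟨r, hr, rfl⟩
    exact ⟨⟨g, hg⟩ * r * ⟨g, hg⟩⁻¹, Subgroup.Normal.conj_mem inferInstance r hr _, rfl⟩
  have hcommR : ∀ g ∈ H, ∀ g' ∈ H, g * g' * g⁻¹ * g'⁻¹ ∈ R := fun g hg g' hg' =>
    ⟨⁅(⟨g, hg⟩ : H), ⟨g', hg'⟩⁆, commutator_mem_commutator (mem_top _) (mem_top _), rfl⟩
  have hAR : A ≤ normalizer (R : Set G) := fun a ha => mem_normalizer_fintype fun r hr => by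
    have hle : R ≤ R.comap (MulAut.conj a).toMonoidHom := by
      rw [hRdef, commutator_def, map_commutator, commutator_le, ← MonoidHom.range_eq_map, range_subtype]
      intro p hp q hq
      rw [mem_comap, map_commutatorElement]
      exact commutator_mem_commutator (h.conj_mem ha hp) (h.conj_mem ha hq)
    exact hle hr
  set P' : G → Subgroup G := fun b => R ⊓ P b with hP'
  have h' : Parts A R P' := ⟨h.card, h.sq, fun e => h.odd (e.trans (card_dvd_of_le hRH)), hAR,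
    fun b hb hb1 => le_inf inf_le_left (inf_le_right.trans ((h.le b hb hb1).trans inf_le_right)),
    fun b hb hb1 g hg x hx => mem_inf.2 ⟨mul_mem (mul_mem hg.1 hx.1) (inv_mem hg.1),
      h.conj b hb hb1 g ⟨hRH hg.1, hg.2⟩ x hx.2⟩,
    fun b hb hb1 g hg a ha => mem_inf.2 ⟨mul_mem ((mem_normalizer_iff.1 (hAR ha) g).1 hg.1) (inv_mem hg.1),
      h.comm b hb hb1 g ⟨hRH hg.1, hg.2⟩ a ha⟩,
    fun b hb hb1 c hc hc1 x hx => ⟨hx.1.1, h.bal b hb hb1 c hc hc1 ⟨hx.1.2, hx.2⟩⟩⟩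
  set R₀ := gen A P' with hR₀
  have ihR : ∀ b ∈ A, b ≠ 1 → R₀ ⊓ centralizer (A : Set G) ≤ P b := fun b hb hb1 =>
    (ih R P' (by omega) h' b hb hb1).trans inf_le_right
  have hle₀ : ∀ {b x : G}, b ∈ A → b ≠ 1 → x ∈ R → x ∈ P b → x ∈ R₀ := fun hb hb1 hx hxP =>
    le_gen hb hb1 ⟨hx, hxP⟩
  set RA := R ⊓ centralizer (A : Set G) with hRA
  have hRAn : RA ≤ normalizer (R₀ : Set G) := fun m hm => mem_normalizer_fintype fun x hx => by
    have hle : R₀ ≤ R₀.comap (MulAut.conj m).toMonoidHom := iSup_le fun b y hy =>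
      le_gen b.2.1 b.2.2 (mem_inf.2 ⟨mul_mem (mul_mem hm.1 hy.1) (inv_mem hm.1), h.conj b b.2.1 b.2.2 m
        ⟨hRH hm.1, mem_centralizer_singleton_iff.2 (mem_centralizer_iff.1 hm.2 b b.2.1).symm⟩ y hy.2⟩)
    exact hle hx
  -- `R = R₀ C_R(A)`
  have hdec : ∀ s ∈ R, ∃ n ∈ R₀, ∃ m ∈ RA, s = n * m := by
    haveI := Fact.mk Nat.prime_two
    have hA : Cfsg.IsElementaryAbelian 2 A := ⟨isMulCommutative_iff.2 fun a b =>
      Subtype.ext (h.comm_mem a.2 b.2).eq, fun a ha => by rw [pow_two]; exact h.sq a ha⟩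
    have hle : R ≤ R₀ ⊔ RA := by
      refine CfsgLib.SolvSignalizer.le_of_fixed_points hA (by rw [h.card]; norm_num) hAR h'.odd
        fun b hb hb1 x hx => ?_
      obtain ⟨d, i, rfl, -, hdA, hiP, -⟩ := h'.split hb hb1 hx
      have hd : d ∈ R := by
        have := mul_mem (mem_inf.1 hx).1 (inv_mem (mem_inf.1 hiP).1)
        rwa [mul_inv_cancel_right] at this
      exact mul_mem (mem_sup_right ⟨hd, hdA⟩) (mem_sup_left (le_gen hb hb1 hiP))
    intro s hs
    have h1 : s ∈ ((R₀ ⊔ RA : Subgroup G) : Set G) := hle hs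
    rw [coe_mul_of_right_le_normalizer_left R₀ RA hRAn] at h1
    obtain ⟨n, hn, m, hm, e⟩ := Set.mem_mul.1 h1
    exact ⟨n, hn, m, hm, e.symm⟩
  have hDfix : ∀ {m : G}, m ∈ RA → m * m ∈ R₀ → m ∈ R₀ := fun {m} hm hmm =>
    CfsgLib.AbCent.mem_of_sq_mem (h.odd_orderOf (hRH hm.1)) (by rw [pow_two]; exact hmm)
  -- the elements inverted by an element outside `⟨b⟩`
  have hgenle : ∀ (N : Subgroup G), (∀ b ∈ A, b ≠ 1 → ∀ d ∈ P b, d ∈ centralizer (A : Set G) → d ∈ N) →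
      (∀ b ∈ A, b ≠ 1 → ∀ i ∈ P b, (∀ f ∈ A, f ≠ 1 → f ≠ b → f * i * f⁻¹ = i⁻¹) → i ∈ N) → H ≤ N := by
    intro N hd hi
    rw [← hne]
    refine iSup_le fun b x hx => ?_
    obtain ⟨d, i, rfl, -, hdA, hiP, hif⟩ := h.split b.2.1 b.2.2 (h.inf_cent b.2.1 b.2.2 hx)
    have hdP : d ∈ P b := by
      have := mul_mem hx (inv_mem hiP)
      rwa [mul_inv_cancel_right] at this
    exact mul_mem (hd b b.2.1 b.2.2 d hdP hdA) (hi b b.2.1 b.2.2 i hiP hif)
  -- `R₀` is normal in `H`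
  have hnorm : H ≤ normalizer (R₀ : Set G) := by
    refine hgenle _ (fun b hb hb1 d hd hdA => ?_) (fun b hb hb1 x hx hxf => ?_)
    · refine mem_normalizer_fintype fun r hr => ?_
      have hle : R₀ ≤ R₀.comap (MulAut.conj d).toMonoidHom := iSup_le fun c y hy =>
        le_gen c.2.1 c.2.2 ⟨hHR d ((h.inf_cent hb hb1 hd).1) y hy.1, h.conj c c.2.1 c.2.2 d
          ⟨(h.inf_cent hb hb1 hd).1,
            mem_centralizer_singleton_iff.2 (mem_centralizer_iff.1 hdA c c.2.1).symm⟩ y hy.2⟩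
      exact hle hr
    · have hxH := (h.inf_cent hb hb1 hx).1
      have hsame : ∀ y ∈ R, y ∈ P b → x * y * x⁻¹ ∈ R₀ := fun y hy hyP =>
        hle₀ hb hb1 (hHR x hxH y hy) (mul_mem (mul_mem hx hyP) (inv_mem hx))
      refine mem_normalizer_fintype fun r hr => ?_
      have hle : R₀ ≤ R₀.comap (MulAut.conj x).toMonoidHom := iSup_le fun c y hy => by
        show x * y * x⁻¹ ∈ R₀
        by_cases hcb : (c : G) = b
        · exact hsame y hy.1 (hcb ▸ hy.2)
        obtain ⟨d, i, rfl, -, hdA, hiP, hif⟩ := h'.split c.2.1 c.2.2 (h'.inf_cent c.2.1 c.2.2 hy)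
        have hdP : d ∈ R ⊓ P c := by
          have := mul_mem hy (inv_mem hiP)
          rwa [mul_inv_cancel_right] at this
        rw [show x * (d * i) * x⁻¹ = x * d * x⁻¹ * (x * i * x⁻¹) by group]
        refine mul_mem (hsame d hdP.1 (h.fixed c.2.1 c.2.2 hb hb1 hdP.2 hdA)) ?_
        have hbx : b * x * b⁻¹ = x := by
          rw [← mem_centralizer_singleton_iff.1 (h.inf_cent hb hb1 hx).2, mul_inv_cancel_right]
        have hbi : b * i * b⁻¹ = i⁻¹ := hif b hb hb1 (fun e => hcb e.symm)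
        obtain ⟨n, hn, m, hm, e⟩ := hdec _ (hHR x hxH i hiP.1)
        have hbm : b * m * b⁻¹ = m := by
          rw [mem_centralizer_iff.1 hm.2 b hb, mul_inv_cancel_right]
        have h1 : b * n * b⁻¹ * m = m⁻¹ * n⁻¹ := by
          calc b * n * b⁻¹ * m = b * n * b⁻¹ * (b * m * b⁻¹) := by rw [hbm]
            _ = b * (x * i * x⁻¹) * b⁻¹ := by rw [e]; group
            _ = (b * x * b⁻¹) * (b * i * b⁻¹) * (b * x * b⁻¹)⁻¹ := by group
            _ = x * i⁻¹ * x⁻¹ := by rw [hbx, hbi]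
            _ = m⁻¹ * n⁻¹ := by rw [← mul_inv_rev, ← e]; group
        have hbn : b * n * b⁻¹ ∈ R₀ := by
          have hle' : R₀ ≤ R₀.comap (MulAut.conj b).toMonoidHom := iSup_le fun e y hy => by
            have h2 := mul_mem (h'.comm e e.2.1 e.2.2 y (h'.inf_cent e.2.1 e.2.2 hy) b hb) hy
            rw [inv_mul_cancel_right] at h2
            exact le_gen e.2.1 e.2.2 h2
          exact hle' hn
        have h2 : m * m = (m * (b * n * b⁻¹) * m⁻¹)⁻¹ * n⁻¹ := by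
          calc m * m = (m * (b * n * b⁻¹) * m⁻¹)⁻¹ * (m * (b * n * b⁻¹ * m)) := by group
            _ = _ := by rw [h1, mul_inv_cancel_left]
        have hmn := (mem_normalizer_iff.1 (hRAn hm) _).1 hbn
        have hm₀ := hDfix hm (h2 ▸ mul_mem (inv_mem hmn) (inv_mem hn))
        rw [e]
        exact mul_mem hn hm₀
      exact hle hr
  haveI hN₀ : (R₀.subgroupOf H).Normal :=
    (normal_subgroupOf_iff_le_normalizer (h'.gen_le.trans hRH)).2 hnorm
  set q := QuotientGroup.mk' (R₀.subgroupOf H) with hq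
  have hqc : ∀ {g g' : H}, ((g * g' * g⁻¹ * g'⁻¹ : H) : G) ∈ R₀ → q g * q g' = q g' * q g := by
    intro g g' hgg
    have h1 : q (g * g' * g⁻¹ * g'⁻¹) = 1 := (QuotientGroup.eq_one_iff _).2 (mem_subgroupOf.2 hgg)
    rw [map_mul, map_mul, map_mul, map_inv, map_inv, mul_inv_eq_one, mul_inv_eq_iff_eq_mul] at h1
    exact h1
  -- the quotient is abelian
  have hC : ∀ g ∈ H, ∀ g' ∈ H, g * g' * g⁻¹ * g'⁻¹ ∈ R₀ := by
    -- the image of `R` is central
    have hRc : ∀ r : H, (r : G) ∈ R → ∀ g : H, q g * q r = q r * q g := by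
      intro r hr g
      suffices hmem : (g : G) ∈ ((centralizer ({q r} : Set _)).comap q).map H.subtype by
        obtain ⟨y, hy, e⟩ := hmem
        rw [← Subtype.ext (e : (y : G) = g)]
        exact mem_centralizer_singleton_iff.1 hy
      obtain ⟨n, hn, m, hm, e⟩ := hdec _ hr
      have hqr : q r = q ⟨m, hRH hm.1⟩ := by
        rw [show r = ⟨n, hRH (h'.gen_le hn)⟩ * ⟨m, hRH hm.1⟩ from Subtype.ext e, map_mul,
          show q ⟨n, _⟩ = 1 from (QuotientGroup.eq_one_iff _).2 (mem_subgroupOf.2 hn), one_mul]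
      have key : ∀ b ∈ A, b ≠ 1 → ∀ x : G, ∀ hx : x ∈ P b,
          x ∈ ((centralizer ({q r} : Set _)).comap q).map H.subtype := by
        intro b hb hb1 x hx
        refine ⟨⟨x, (h.inf_cent hb hb1 hx).1⟩, mem_centralizer_singleton_iff.2 ?_, rfl⟩
        rw [hqr]
        refine hqc ?_
        show x * m * x⁻¹ * m⁻¹ ∈ R₀
        refine hle₀ hb hb1 (mul_mem (hHR x (h.inf_cent hb hb1 hx).1 m hm.1) (inv_mem hm.1)) ?_
        rw [show x * m * x⁻¹ * m⁻¹ = x * (m * x⁻¹ * m⁻¹) by group]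
        exact mul_mem hx (h.conj b hb hb1 m
          ⟨hRH hm.1, mem_centralizer_singleton_iff.2 (mem_centralizer_iff.1 hm.2 b hb).symm⟩ _ (inv_mem hx))
      exact hgenle _ (fun b hb hb1 d hd _ => key b hb hb1 d hd) (fun b hb hb1 i hi _ => key b hb hb1 i hi) g.2
    intro g hg g' hg'
    suffices hcm : q ⟨g, hg⟩ * q ⟨g', hg'⟩ = q ⟨g', hg'⟩ * q ⟨g, hg⟩ by
      have h1 : q (⟨g, hg⟩ * ⟨g', hg'⟩ * ⟨g, hg⟩⁻¹ * ⟨g', hg'⟩⁻¹) = 1 := by
        rw [map_mul, map_mul, map_mul, map_inv, map_inv, hcm, mul_inv_cancel_right, mul_inv_cancel]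
      exact mem_subgroupOf.1 ((QuotientGroup.eq_one_iff _).1 h1)
    -- two generators commute modulo `R₀`
    have hpair : ∀ b, ∀ hb : b ∈ A, ∀ hb1 : b ≠ 1, ∀ x (hx : x ∈ P b), ∀ c, ∀ hc : c ∈ A, ∀ hc1 : c ≠ 1,
        ∀ y (hy : y ∈ P c),
        q ⟨x, (h.inf_cent hb hb1 hx).1⟩ * q ⟨y, (h.inf_cent hc hc1 hy).1⟩ =
          q ⟨y, (h.inf_cent hc hc1 hy).1⟩ * q ⟨x, (h.inf_cent hb hb1 hx).1⟩ := by
      intro b hb hb1 x hx c hc hc1 y hy
      have hsame : ∀ {b x y : G}, b ∈ A → b ≠ 1 → ∀ (hxH : x ∈ H) (hyH : y ∈ H), x ∈ P b → y ∈ P b →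
          q ⟨x, hxH⟩ * q ⟨y, hyH⟩ = q ⟨y, hyH⟩ * q ⟨x, hxH⟩ := fun {b x y} hb hb1 hxH hyH hx hy =>
        hqc (hle₀ hb hb1 (hcommR x hxH y hyH) (mul_mem (mul_mem (mul_mem hx hy) (inv_mem hx)) (inv_mem hy)))
      by_cases hbc : b = c
      · exact hsame hb hb1 _ _ hx (hbc ▸ hy)
      obtain ⟨d, i, e1, -, hdA, hiP, hif⟩ := h.split hb hb1 (h.inf_cent hb hb1 hx)
      have hdP : d ∈ P b := by
        have := mul_mem hx (inv_mem hiP)
        rwa [e1, mul_inv_cancel_right] at this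
      have hiH := (h.inf_cent hb hb1 hiP).1
      have hdH := (h.inf_cent hb hb1 hdP).1
      have hyH := (h.inf_cent hc hc1 hy).1
      rw [show (⟨x, (h.inf_cent hb hb1 hx).1⟩ : H) = ⟨d, hdH⟩ * ⟨i, hiH⟩ from Subtype.ext e1, map_mul]
      refine Commute.mul_left (hsame hc hc1 hdH hyH (h.fixed hb hb1 hc hc1 hdP hdA) hy) ?_
      have hci : c * i * c⁻¹ = i⁻¹ := hif c hc hc1 (fun e => hbc e.symm)
      have hcy : c * y * c⁻¹ = y := by
        rw [← mem_centralizer_singleton_iff.1 (h.inf_cent hc hc1 hy).2, mul_inv_cancel_right]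
      obtain ⟨n, hn, m, hm, e⟩ := hdec _ (hcommR i hiH y hyH)
      set z : H := ⟨i, hiH⟩ * ⟨y, hyH⟩ * ⟨i, hiH⟩⁻¹ * ⟨y, hyH⟩⁻¹ with hz
      have hzR : (z : G) ∈ R := hcommR i hiH y hyH
      have hcn : c * n * c⁻¹ ∈ R₀ := by
        have hle' : R₀ ≤ R₀.comap (MulAut.conj c).toMonoidHom := iSup_le fun e y hy => by
          have h2 := mul_mem (h'.comm e e.2.1 e.2.2 y (h'.inf_cent e.2.1 e.2.2 hy) c hc) hy
          rw [inv_mul_cancel_right] at h2
          exact le_gen e.2.1 e.2.2 h2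
        exact hle' hn
      have hmH := hRH hm.1
      have h1 : q z = q ⟨m, hmH⟩ := by
        rw [show z = ⟨n, hRH (h'.gen_le hn)⟩ * ⟨m, hmH⟩ from Subtype.ext e, map_mul,
          show q ⟨n, _⟩ = 1 from (QuotientGroup.eq_one_iff _).2 (mem_subgroupOf.2 hn), one_mul]
      have h2 : q (⟨i, hiH⟩⁻¹ * z⁻¹ * ⟨i, hiH⟩) = q ⟨m, hmH⟩ := by
        have e2 : ⟨i, hiH⟩⁻¹ * z⁻¹ * ⟨i, hiH⟩ =
            (⟨c * n * c⁻¹, hRH (h'.gen_le hcn)⟩ : H) * ⟨m, hmH⟩ := Subtype.ext <| by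
          show i⁻¹ * (i * y * i⁻¹ * y⁻¹)⁻¹ * i = c * n * c⁻¹ * m
          have hcm : c * m * c⁻¹ = m := by
            rw [mem_centralizer_iff.1 hm.2 c hc, mul_inv_cancel_right]
          calc i⁻¹ * (i * y * i⁻¹ * y⁻¹)⁻¹ * i = i⁻¹ * y * i * y⁻¹ := by group
            _ = (c * i * c⁻¹) * (c * y * c⁻¹) * (c * i * c⁻¹)⁻¹ * (c * y * c⁻¹)⁻¹ := by
              rw [hci, hcy, inv_inv]
            _ = c * (i * y * i⁻¹ * y⁻¹) * c⁻¹ := by group
            _ = c * n * c⁻¹ * (c * m * c⁻¹) := by rw [e]; group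
            _ = c * n * c⁻¹ * m := by rw [hcm]
        rw [e2, map_mul, show q ⟨c * n * c⁻¹, _⟩ = 1 from (QuotientGroup.eq_one_iff _).2 (mem_subgroupOf.2 hcn),
          one_mul]
      have hzc := hRc z hzR ⟨i, hiH⟩
      have hzi : Commute (q ⟨i, hiH⟩) (q z)⁻¹ := Commute.inv_right hzc
      rw [map_mul, map_mul, map_inv, map_inv, mul_assoc, ← hzi.eq, inv_mul_cancel_left, ← h1] at h2
      have h3 : q (z * z) = 1 := by rw [map_mul]; nth_rw 1 [← h2]; rw [inv_mul_cancel]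
      have h4 : ((z : G)) ^ 2 ∈ R₀ := by
        rw [pow_two]; exact mem_subgroupOf.1 ((QuotientGroup.eq_one_iff _).1 h3)
      exact hqc (CfsgLib.AbCent.mem_of_sq_mem (h.odd_orderOf z.2) h4)
    have hall : ∀ (a : H) (b : G) (hb : b ∈ A) (hb1 : b ≠ 1) (x : G) (hx : x ∈ P b),
        q a * q ⟨x, (h.inf_cent hb hb1 hx).1⟩ = q ⟨x, (h.inf_cent hb hb1 hx).1⟩ * q a := by
      intro a b hb hb1 x hx
      suffices hmem : (a : G) ∈
          ((centralizer ({q ⟨x, (h.inf_cent hb hb1 hx).1⟩} : Set _)).comap q).map H.subtype by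
        obtain ⟨y, hy, e⟩ := hmem
        rw [← Subtype.ext (e : (y : G) = a)]
        exact mem_centralizer_singleton_iff.1 hy
      refine hgenle _ (fun c hc hc1 d hd _ => ?_) (fun c hc hc1 i hi _ => ?_) a.2
      · exact ⟨_, mem_centralizer_singleton_iff.2 (hpair c hc hc1 d hd b hb hb1 x hx), rfl⟩
      · exact ⟨_, mem_centralizer_singleton_iff.2 (hpair c hc hc1 i hi b hb hb1 x hx), rfl⟩
    suffices hmem : g' ∈ ((centralizer ({q ⟨g, hg⟩} : Set _)).comap q).map H.subtype by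
      obtain ⟨y, hy, e⟩ := hmem
      rw [← show y = ⟨g', hg'⟩ from Subtype.ext e]
      exact (mem_centralizer_singleton_iff.1 hy).symm
    refine hgenle _ (fun c hc hc1 d hd _ => ?_) (fun c hc hc1 i hi _ => ?_) hg'
    · exact ⟨_, mem_centralizer_singleton_iff.2 (hall ⟨g, hg⟩ c hc hc1 d hd).symm, rfl⟩
    · exact ⟨_, mem_centralizer_singleton_iff.2 (hall ⟨g, hg⟩ c hc hc1 i hi).symm, rfl⟩
  letI : CommGroup (H ⧸ R₀.subgroupOf H) :=
    { (inferInstance : Group (H ⧸ R₀.subgroupOf H)) with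
      mul_comm := fun x y => by
        obtain ⟨x, rfl⟩ := QuotientGroup.mk'_surjective _ x
        obtain ⟨y, rfl⟩ := QuotientGroup.mk'_surjective _ y
        exact hqc (hC x x.2 y y.2) }
  -- the norm over the four group
  haveI := Fintype.ofFinite A
  let ψ : H →* H ⧸ R₀.subgroupOf H :=
    { toFun := fun x => ∏ a : A, q ⟨(a : G) * x * (a : G)⁻¹, h.conj_mem a.2 x.2⟩
      map_one' := Finset.prod_eq_one fun a _ => by
        rw [show (⟨(a : G) * ((1 : H) : G) * (a : G)⁻¹, h.conj_mem a.2 (1 : H).2⟩ : H) = 1 from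
          Subtype.ext (by simp), map_one]
      map_mul' := fun x y => by
        rw [← Finset.prod_mul_distrib]
        refine Finset.prod_congr rfl fun a _ => ?_
        rw [← map_mul]
        exact congrArg q (Subtype.ext (by simp [mul_assoc])) }
  set N : Subgroup G := (Subgroup.comap ψ ((((H ⊓ centralizer (A : Set G)) ⊓ P b₀).subgroupOf H).map q)).map
    H.subtype
  have hN : H ≤ N := by
    refine hgenle _ (fun b hb hb1 d hd hdA => ?_) (fun b hb hb1 i hi hif => ?_)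
    · have hdH := (h.inf_cent hb hb1 hd).1
      refine ⟨⟨d, hdH⟩, ?_, rfl⟩
      rw [SetLike.mem_coe, mem_comap]
      refine prod_mem fun a _ => mem_map_of_mem _ (mem_subgroupOf.2 ?_)
      show (a : G) * d * (a : G)⁻¹ ∈ _
      rw [mem_centralizer_iff.1 hdA a a.2, mul_inv_cancel_right]
      exact ⟨⟨hdH, hdA⟩, h.fixed hb hb1 hb₀ hb₀1 hd hdA⟩
    · have hiH := (h.inf_cent hb hb1 hi).1
      refine ⟨⟨i, hiH⟩, ?_, rfl⟩
      rw [SetLike.mem_coe, mem_comap]
      obtain ⟨f, hf, hf1, hfb⟩ := h.exists_ne hb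
      have hinv : ψ ⟨i, hiH⟩⁻¹ = ψ ⟨i, hiH⟩ := by
        rw [show (⟨i, hiH⟩⁻¹ : H) = ⟨f * i * f⁻¹, h.conj_mem hf hiH⟩ from
          Subtype.ext (by simp [hif f hf hf1 hfb])]
        refine Fintype.prod_equiv (Equiv.mulRight (⟨f, hf⟩ : A)) _ _ fun a => congrArg q (Subtype.ext ?_)
        show (a : G) * (f * i * f⁻¹) * (a : G)⁻¹ = (a : G) * f * i * ((a : G) * f)⁻¹
        group
      rw [map_inv] at hinv
      have h2 : ψ ⟨i, hiH⟩ * ψ ⟨i, hiH⟩ = 1 := by nth_rw 1 [← hinv]; rw [inv_mul_cancel]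
      obtain ⟨y, hy⟩ := QuotientGroup.mk'_surjective (R₀.subgroupOf H) (ψ ⟨i, hiH⟩)
      rw [← hy, ← map_mul] at h2
      have h3 : ((y : G)) ^ 2 ∈ R₀ := by
        rw [pow_two]; exact mem_subgroupOf.1 ((QuotientGroup.eq_one_iff _).1 h2)
      rw [← hy, show QuotientGroup.mk' (R₀.subgroupOf H) y = 1 from (QuotientGroup.eq_one_iff y).2
        (mem_subgroupOf.2 (CfsgLib.AbCent.mem_of_sq_mem (h.odd_orderOf y.2) h3))]
      exact one_mem _
  intro k hk
  obtain ⟨k', hk', e⟩ := hN hk.1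
  obtain rfl : k' = ⟨k, hk.1⟩ := Subtype.ext e
  obtain ⟨d, hd, hd'⟩ := hk'
  have hψk : ψ ⟨k, hk.1⟩ = q ⟨k, hk.1⟩ ^ 4 := by
    show (∏ a : A, _) = _
    have hc : ∀ a : A, q (⟨(a : G) * k * (a : G)⁻¹, h.conj_mem a.2 hk.1⟩ : H) = q ⟨k, hk.1⟩ := fun a =>
      congrArg q (Subtype.ext (by
        show (a : G) * k * (a : G)⁻¹ = k
        rw [mem_centralizer_iff.1 hk.2 a a.2, mul_inv_cancel_right]))
    refine (Finset.prod_congr rfl fun a _ => hc a).trans ?_
    rw [Finset.prod_const, Finset.card_univ, ← Nat.card_eq_fintype_card, h.card]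
  rw [hψk, ← map_pow] at hd'
  have h4 : k ^ 4 * (d : G)⁻¹ ∈ R₀ := by
    have h5 : q (⟨k, hk.1⟩ ^ 4 * d⁻¹) = 1 := by rw [map_mul, map_inv, hd', mul_inv_cancel]
    have := mem_subgroupOf.1 ((QuotientGroup.eq_one_iff _).1 h5)
    simpa using this
  obtain ⟨⟨-, hdA⟩, hdP⟩ := mem_subgroupOf.1 hd
  have hkA : k ∈ centralizer (A : Set G) := (mem_inf.1 hk).2
  have h6 := ihR b₀ hb₀ hb₀1 (mem_inf.2 ⟨h4, mul_mem (pow_mem hkA 4) (inv_mem (hdA : (d : G) ∈ centralizer (A : Set G)))⟩)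
  have h7 : k ^ 4 ∈ P b₀ := by
    have := mul_mem h6 hdP
    rwa [inv_mul_cancel_right] at this
  refine CfsgLib.AbCent.mem_of_sq_mem (h.odd_orderOf hk.1) (CfsgLib.AbCent.mem_of_sq_mem ?_ ?_)
  · exact h.odd_orderOf (pow_mem hk.1 2)
  · rwa [← pow_mul]

end Parts

end CfsgLib.Gold.Rank2
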