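import Cfsg.Agent.Lib.Invol.L34Type.Main
import Cfsg.Agent.Lib.Char.Burnside

/-!
# A simple group with a Sylow `2`-subgroup of type `L₃(4)` has soluble involution centralisers

It embeds in `PGL(3, 4)`, where an element commuting with an involution has order dividing `12`: it fixes
the centre and the axis of the transvection and acts on the three factors by scalars.
-/

set_option autoImplicit false
set_option linter.style.haveILetI false

namespace CfsgLib.Gold.RankTwo

open Subgroup

universe u

variable {K : Type*} [Field K] [Fintype K]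

theorem pow_twelve (hK : Fintype.card K = 4) {V : Type*} [AddCommGroup V] [Module K V] [FiniteDimensional K V]
    (hV : Module.finrank K V = 3) {N R : Module.End K V} (hN : N * N = 0) (hN0 : N ≠ 0)
    (hcomm : R * N = N * R) (hR : Function.Injective R) : R ^ 12 = 1 := by
  haveI : CharP K 2 := charP_of_card_eq_prime_pow (f := 2) (by rw [hK]; norm_num)
  have hunit : ∀ a : K, a ≠ 0 → a ^ 3 = 1 := fun a ha => by
    have := FiniteField.pow_card_sub_one_eq_one a ha
    rwa [hK] at this
  set L := LinearMap.range N with hL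
  set W := LinearMap.ker N with hW
  have hLW : L ≤ W := by
    rintro _ ⟨x, rfl⟩
    exact LinearMap.congr_fun hN x
  have hdim : Module.finrank K L + Module.finrank K W = 3 := hV ▸ N.finrank_range_add_finrank_ker
  have hL0 : Module.finrank K L ≠ 0 := fun h => hN0 (LinearMap.range_eq_bot.1 (Submodule.finrank_eq_zero.1 h))
  have hmono := Submodule.finrank_mono hLW
  obtain ⟨v, hv0, hv⟩ := (finrank_eq_one_iff' (K := K) (V := L)).1 (by omega)
  have hRN : ∀ x, R (N x) = N (R x) := fun x => LinearMap.congr_fun hcomm x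
  have hRL : ∀ x ∈ L, R x ∈ L := by
    rintro _ ⟨x, rfl⟩
    exact ⟨R x, (hRN x).symm⟩
  obtain ⟨lam, hlam⟩ := hv ⟨R v, hRL _ v.2⟩
  have hlam' : R (v : V) = lam • (v : V) := (congrArg Subtype.val hlam).symm
  have hvV : (v : V) ≠ 0 := fun h => hv0 (Subtype.ext h)
  have hl0 : lam ≠ 0 := fun h => hvV (hR (by rw [hlam', h, zero_smul, map_zero]))
  have hL1 : ∀ x ∈ L, R x = lam • x := by
    intro x hx
    obtain ⟨c, hc⟩ := hv ⟨x, hx⟩
    have hc' : x = c • (v : V) := (congrArg Subtype.val hc).symm
    rw [hc', map_smul, hlam', smul_comm]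
  -- the step from the module to the axis
  have hstep : ∀ y, R y - lam • y ∈ W := fun y => by
    rw [hW, LinearMap.mem_ker, map_sub, map_smul, ← hRN, hL1 _ ⟨y, rfl⟩, sub_self]
  -- the step from the axis to the centre
  obtain ⟨x, hxW, hxL⟩ : ∃ x ∈ W, x ∉ L := SetLike.not_le_iff_exists.1 fun h => by
    have := Submodule.finrank_mono h
    omega
  set L' := L ⊔ Submodule.span K {x} with hL'
  have hWL : W ≤ L' := by
    have hle : L' ≤ W := sup_le hLW ((Submodule.span_singleton_le_iff_mem _ _).2 hxW)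
    have hlt : L < L' := lt_of_le_of_ne le_sup_left fun e =>
      hxL (e ▸ Submodule.mem_sup_right (Submodule.mem_span_singleton_self x))
    have h1 := Submodule.finrank_lt_finrank_of_lt hlt
    exact (Submodule.eq_of_le_of_finrank_le hle (by omega)).ge
  have hRxW : R x ∈ W := by
    rw [hW, LinearMap.mem_ker, ← hRN, show N x = 0 from hxW, map_zero]
  obtain ⟨a, ha, b, hb, hab⟩ := Submodule.mem_sup.1 (hWL hRxW)
  obtain ⟨mu, rfl⟩ := Submodule.mem_span_singleton.1 hb
  have hm0 : mu ≠ 0 := fun h => by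
    rw [h, zero_smul, add_zero] at hab
    -- otherwise `R` sends `x` into the centre
    refine hxL ?_
    obtain ⟨c, hc⟩ := hv ⟨a, ha⟩
    have hc' : a = c • (v : V) := (congrArg Subtype.val hc).symm
    have : x = (c / lam) • (v : V) := hR (by
      rw [← hab, hc', map_smul, hlam', smul_smul, div_mul_cancel₀ _ hl0])
    rw [this]
    exact L.smul_mem _ v.2
  have hstep2 : ∀ y ∈ W, R y - mu • y ∈ L := by
    intro y hy
    obtain ⟨p, hp, q, hq, rfl⟩ := Submodule.mem_sup.1 (hWL hy)
    obtain ⟨s, rfl⟩ := Submodule.mem_span_singleton.1 hq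
    have e : R (p + s • x) - mu • (p + s • x) = (lam - mu) • p + s • a := by
      rw [map_add, map_smul, hL1 p hp, ← hab, smul_add, smul_add, sub_smul, smul_comm s mu x]
      abel
    rw [e]
    exact L.add_mem (L.smul_mem _ hp) (L.smul_mem _ ha)
  open Polynomial in
  have hker : aeval R ((X - C lam) * (X - C mu) * (X - C lam)) = 0 := by
    refine LinearMap.ext fun y => ?_
    rw [map_mul, map_mul, map_sub, map_sub, aeval_X, aeval_C, aeval_C]
    show R (R (R y - lam • y) - mu • (R y - lam • y)) - lam • (R (R y - lam • y) - mu • (R y - lam • y)) = 0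
    rw [hL1 _ (hstep2 _ (hstep y)), sub_self]
  open Polynomial in
  have hdvd : ((X - C lam) * (X - C mu) * (X - C lam)) ∣ (X ^ 12 - 1 : K[X]) := by
    have h : ∀ c : K, c ≠ 0 → (X - C c) ∣ (X ^ 3 - 1 : K[X]) := fun c hc =>
      dvd_iff_isRoot.2 (by simp [hunit c hc])
    have e : (X ^ 3 - 1 : K[X]) * (X ^ 3 - 1) * (X ^ 3 - 1) * (X ^ 3 - 1) = X ^ 12 - 1 := by
      have h2 : (2 : K[X]) = 0 := by
        rw [← map_ofNat C 2, show (2 : K) = 0 from CharTwo.two_eq_zero, map_zero]
      linear_combination (-2 * X ^ 9 + 3 * X ^ 6 - 2 * X ^ 3 + 1) * h2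
    rw [← e]
    exact Dvd.dvd.mul_right (mul_dvd_mul (mul_dvd_mul (h _ hl0) (h _ hm0)) (h _ hl0)) _
  obtain ⟨P, hP⟩ := hdvd
  have := congrArg (Polynomial.aeval R) hP
  rw [map_mul, hker, zero_mul, map_sub, map_pow, Polynomial.aeval_X, map_one, sub_eq_zero] at this
  exact this

open Matrix in
theorem pow_twelve_pgl (hK : Fintype.card K = 4) {u g : GL (Fin 3) K ⧸ Subgroup.center (GL (Fin 3) K)}
    (hu : orderOf u = 2) (hgu : g * u = u * g) : g ^ 12 = 1 := by
  classical
  haveI : CharP K 2 := charP_of_card_eq_prime_pow (f := 2) (by rw [hK]; norm_num)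
  obtain ⟨U₀, rfl⟩ := QuotientGroup.mk_surjective u
  obtain ⟨R, rfl⟩ := QuotientGroup.mk_surjective g
  have hu2 : ((U₀ * U₀ : GL (Fin 3) K) : GL (Fin 3) K ⧸ Subgroup.center (GL (Fin 3) K)) = 1 := by
    rw [QuotientGroup.mk_mul, ← sq, ← hu]; exact pow_orderOf_eq_one _
  have hc := (QuotientGroup.eq_one_iff _).1 hu2
  rw [Matrix.GeneralLinearGroup.center_eq_range_scalar] at hc
  obtain ⟨c, hcU⟩ := hc
  have hc3 : c ^ 3 = 1 := Units.ext (by
    have h := FiniteField.pow_card_sub_one_eq_one (c : K) c.ne_zero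
    rw [hK] at h
    simpa using h)
  -- an involution representing `u`
  set Z : GL (Fin 3) K := GeneralLinearGroup.scalar (Fin 3) c with hZ
  have hZc : Z ∈ Subgroup.center (GL (Fin 3) K) := by
    rw [Matrix.GeneralLinearGroup.center_eq_range_scalar]; exact ⟨c, rfl⟩
  set U := U₀ * Z with hU
  have hUmk : (U : GL (Fin 3) K ⧸ Subgroup.center (GL (Fin 3) K)) = U₀ := QuotientGroup.mk_mul_of_mem U₀ hZc
  have hUU : U * U = 1 := by
    rw [hU, show U₀ * Z * (U₀ * Z) = U₀ * (Z * U₀) * Z by group, ← (Subgroup.mem_center_iff.1 hZc U₀),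
      show U₀ * (U₀ * Z) * Z = U₀ * U₀ * (Z * Z) by group, ← hcU, hZ, ← map_mul, ← map_mul,
      show c * (c * c) = 1 by rw [← hc3]; rw [pow_succ, sq]; exact (mul_assoc c c c).symm, map_one]
  have hcm := (QuotientGroup.eq_one_iff (N := Subgroup.center (GL (Fin 3) K)) (R * U * R⁻¹ * U⁻¹)).1 (by
    rw [QuotientGroup.mk_mul, QuotientGroup.mk_mul, QuotientGroup.mk_mul, QuotientGroup.mk_inv,
      QuotientGroup.mk_inv, hUmk, hgu]; group)
  rw [Matrix.GeneralLinearGroup.center_eq_range_scalar] at hcm
  obtain ⟨d, hd⟩ := hcm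
  have hdc : GeneralLinearGroup.scalar (Fin 3) d ∈ Subgroup.center (GL (Fin 3) K) := by
    rw [Matrix.GeneralLinearGroup.center_eq_range_scalar]; exact ⟨d, rfl⟩
  have hconj : R * U * R⁻¹ = GeneralLinearGroup.scalar (Fin 3) d * U := by rw [hd]; group
  have hd2 : GeneralLinearGroup.scalar (Fin 3) (d * d) = (1 : GL (Fin 3) K) := by
    have h1 : R * U * R⁻¹ * (R * U * R⁻¹) = 1 := by
      rw [show R * U * R⁻¹ * (R * U * R⁻¹) = R * (U * U) * R⁻¹ by group, hUU]; group
    rw [hconj] at h1
    set D := GeneralLinearGroup.scalar (n := Fin 3) d with hD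
    rw [show D * U * (D * U) = D * (U * D) * U by group, Subgroup.mem_center_iff.1 hdc U,
      show D * (D * U) * U = D * D * (U * U) by group, hUU, mul_one] at h1
    rw [map_mul]; exact h1
  have hd1 : d = 1 := by
    have h1 := congrArg (fun M : GL (Fin 3) K => (M : Matrix (Fin 3) (Fin 3) K) 0 0) hd2
    simp [Matrix.scalar] at h1
    refine Units.ext ?_
    rcases mul_self_eq_one_iff.1 h1 with h | h
    · exact h
    · simpa [CharTwo.neg_eq] using h
  have hRU : R * U = U * R := by
    rw [hd1, map_one, one_mul] at hconj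
    conv_rhs => rw [← hconj]
    group
  set M := Matrix.toLinAlgEquiv' (U : Matrix (Fin 3) (Fin 3) K) with hM
  set Q := Matrix.toLinAlgEquiv' (R : Matrix (Fin 3) (Fin 3) K) with hQ
  have hMM : M * M = 1 := by rw [hM, ← map_mul, ← Units.val_mul, hUU, Units.val_one, map_one]
  have hQM : Q * M = M * Q := by rw [hM, hQ, ← map_mul, ← map_mul, ← Units.val_mul, ← Units.val_mul, hRU]
  have h2 : ∀ a : Module.End K (Fin 3 → K), a + a = 0 := fun a => by
    rw [← two_smul K a, show (2 : K) = 0 from CharTwo.two_eq_zero, zero_smul]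
  have hN0 : M + 1 ≠ 0 := fun h => by
    have h1 : M = 1 := by
      have := h2 1
      rw [← this] at h
      exact add_right_cancel h
    have : U = 1 := Units.ext (Matrix.toLinAlgEquiv'.injective (by rw [← hM, h1, Units.val_one, map_one]))
    rw [this, QuotientGroup.mk_one] at hUmk
    rw [← hUmk, orderOf_one] at hu
    norm_num at hu
  have h12 := pow_twelve hK (Module.finrank_fin_fun K) (N := M + 1) (R := Q)
    (by rw [add_mul, mul_add, hMM, one_mul, mul_one, add_comm (1 : Module.End K (Fin 3 → K)) M]; exact h2 _) hN0 (by rw [mul_add, add_mul, hQM, one_mul, mul_one])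
    (by
      intro x y hxy
      have h := congrArg (Matrix.toLinAlgEquiv' ((R⁻¹ : GL (Fin 3) K) : Matrix (Fin 3) (Fin 3) K)) hxy
      rwa [hQ, ← Module.End.mul_apply, ← Module.End.mul_apply, ← map_mul, ← Units.val_mul, inv_mul_cancel,
        Units.val_one, map_one] at h)
  rw [hQ, ← map_pow, ← Units.val_pow_eq_pow_val] at h12
  have : R ^ 12 = 1 := Units.ext (Matrix.toLinAlgEquiv'.injective (by rw [h12, Units.val_one, map_one]))
  rw [← QuotientGroup.mk_pow, this, QuotientGroup.mk_one]

open CfsgLib.Invol.L34Type in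
/-- Simple groups with a Sylow subgroup of type `L₃(4)` have soluble involution centralisers. -/
theorem isSolvable_centralizer_of_frame {G : Type u} [Group G] [Finite G] [IsSimpleGroup G] (F : Frame G)
    {u : G} (hu : orderOf u = 2) : Group.IsSolvable (centralizer ({u} : Set G)) := by
  classical
  haveI : Fact (Nat.Prime 2) := ⟨Nat.prime_two⟩
  letI : Fintype (GaloisField 2 2) := Fintype.ofFinite _
  have hK : Fintype.card (GaloisField 2 2) = 4 := by
    rw [← Nat.card_eq_fintype_card, GaloisField.card 2 2 (by norm_num)]; norm_num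
  have hO : Cfsg.oddCore G = ⊥ := by
    refine (inferInstance : (Cfsg.oddCore G).Normal).eq_bot_or_eq_top.resolve_right fun h => ?_
    have h1 := GW.odd_oddCore G
    rw [h, card_top] at h1
    exact h1.not_two_dvd_nat (hu ▸ orderOf_dvd_natCard u)
  obtain ⟨f, hf⟩ := F.embedding hO hK
  have h12 : ∀ g : centralizer ({u} : Set G), g ^ 12 = 1 := by
    intro g
    refine Subtype.ext (hf ?_)
    rw [Subgroup.coe_pow, Subgroup.coe_one, map_pow, map_one]
    refine pow_twelve_pgl hK (u := f u) (by rw [orderOf_injective f hf, hu]) ?_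
    rw [← map_mul, ← map_mul, mem_centralizer_singleton_iff.1 g.2]
  have hsupp : (Nat.card (centralizer ({u} : Set G))).factorization.support ⊆ {2, 3} := by
    intro p hp
    rw [Nat.support_factorization] at hp
    haveI : Fact p.Prime := ⟨Nat.prime_of_mem_primeFactors hp⟩
    obtain ⟨g, hg⟩ := exists_prime_orderOf_dvd_card' (G := centralizer ({u} : Set G)) p
      (Nat.dvd_of_mem_primeFactors hp)
    have h := hg ▸ orderOf_dvd_of_pow_eq_one (h12 g)
    have h' : p ∣ 2 ^ 2 * 3 := h
    rcases (Fact.out : p.Prime).dvd_mul.1 h' with h' | h'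
    · exact Finset.mem_insert.2 (Or.inl ((Nat.prime_dvd_prime_iff_eq Fact.out Nat.prime_two).1
        ((Fact.out : p.Prime).dvd_of_dvd_pow h')))
    · exact Finset.mem_insert_of_mem (Finset.mem_singleton.2
        ((Nat.prime_dvd_prime_iff_eq Fact.out Nat.prime_three).1 h'))
  have hcard := Nat.prod_factorization_pow_eq_self (n := Nat.card (centralizer ({u} : Set G)))
    Nat.card_pos.ne'
  rw [Finsupp.prod_of_support_subset _ hsupp _ (fun i _ => pow_zero i), Finset.prod_pair (by norm_num)] at hcard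
  exact CfsgLib.Char.isSolvable_of_card_two_primes Nat.prime_two Nat.prime_three _ _ _ hcard.symm

end CfsgLib.Gold.RankTwo
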