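import Cfsg.Agent.Lib.Goldschmidt.Rank2.Bad
import Cfsg.Agent.Lib.Goldschmidt.Rank2.Assemble

/-!
# Strongly closed abelian `2`-subgroups: the case of rank two
-/

set_option autoImplicit false
set_option linter.style.haveILetI false

namespace CfsgLib.Gold.Rank2

open Subgroup

universe u

variable {G : Type u} [Group G] [Finite G] {S : Sylow 2 G} {A : Subgroup G}

variable (hF : FormModelStmt.{u}) (hS : SmallModelStmt.{u}) (h : Setting S A) (hA4 : Nat.card A = 4)
  (hcen : ∀ s ∈ (S : Subgroup G), ∀ a ∈ A, Commute s a)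
include hF hS h hA4 hcen

/-- Every coset of an involution outside `A` has a bad involution. -/
theorem exists_bad {w : G} (hw : Outer S A w) :
    ∃ a ∈ A, a * w ∈ (S : Subgroup G) ∧ BadAt A (a * w) := by
  obtain ⟨a, ha, hng⟩ := exists_not_good h hA4 hcen hw
  have haw : a * w ∈ (S : Subgroup G) := mul_mem (h.le_sylow ha) hw.1
  have ho : orderOf (a * w) = 2 := CfsgLib.Invol.invol_iff.2 ⟨by
    rw [show a * w * (a * w) = a * (w * a) * w by group, (hcen w hw.1 a ha).eq, ← mul_assoc a, h.sq a ha, one_mul,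
      hw.2.1], fun e => hw.2.2 ((mul_eq_one_iff_inv_eq.1 e) ▸ inv_mem ha)⟩
  exact ⟨a, ha, haw, badAt_of_not_good h hA4
    (fun b hb => mem_centralizer_singleton_iff.2 (hcen _ haw b hb).symm.eq) hF hS ho hng⟩

omit hF hS h hA4 in
theorem commute_coset {a w x : G} (ha : a ∈ A) (hx : x ∈ (S : Subgroup G)) :
    Commute x (a * w) ↔ Commute x w :=
  ⟨fun hc => by
    have := (hcen x hx a ha).inv_right.mul_right hc
    rwa [inv_mul_cancel_left] at this, fun hc => (hcen x hx a ha).mul_right hc⟩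

omit hF hS in
/-- A rotation of `A` of odd order normalizing `S`. -/
theorem exists_rot_odd : ∃ r ∈ normalizer ((S : Subgroup G) : Set G), Odd (orderOf r) ∧
    (∀ a ∈ A, r * a * r⁻¹ ∈ A) ∧ ∀ a ∈ A, a ≠ 1 → r * a * r⁻¹ ≠ a := by
  haveI := Fact.mk Nat.prime_two
  obtain ⟨r, hr, htr⟩ := exists_cycle h hA4 hcen
  obtain ⟨k, m, hm, hkm⟩ := Nat.exists_eq_two_pow_mul_odd (orderOf_pos r).ne'
  have hNS : ∀ n ∈ normalizer ((S : Subgroup G) : Set G), ∀ a ∈ A, n * a * n⁻¹ ∈ A := fun n hn a ha =>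
    h.closed.2 a ha n ((mem_normalizer_iff.1 hn a).1 (h.le_sylow ha))
  refine ⟨r ^ 2 ^ k, pow_mem hr _, ?_, hNS _ (pow_mem hr _), fun a ha ha1 he => ?_⟩
  · rw [orderOf_pow' r (pow_ne_zero k two_ne_zero), hkm, Nat.gcd_mul_right_left,
      Nat.mul_div_cancel_left m (by positivity)]
    exact hm
  -- the two parts fix `a`, so `r` does
  have hmS : r ^ m ∈ (S : Subgroup G) := by
    have hle : (S : Subgroup G) ⊔ zpowers (r ^ m) = S := S.3
      (S.2.to_sup_of_normal_left' (CfsgLib.Coprime.isPGroup_zpowers (k := k)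
        (by rw [← pow_mul, mul_comm, ← hkm, pow_orderOf_eq_one])) (zpowers_le.2 (pow_mem hr m))) le_sup_left
    exact hle ▸ mem_sup_right (mem_zpowers (r ^ m))
  have h1 : Commute (r ^ 2 ^ k) a := mul_inv_eq_iff_eq_mul.1 he
  have h2 : Commute (r ^ m) a := hcen _ hmS a ha
  have hcop : Nat.Coprime (2 ^ k) m := Nat.Coprime.pow_left k ((Nat.coprime_two_left).2 hm)
  have hbez := Nat.gcd_eq_gcd_ab (2 ^ k) m
  rw [hcop.gcd_eq_one] at hbez
  have h3 : Commute r a := by
    have e : r = (r ^ 2 ^ k) ^ (Nat.gcdA (2 ^ k) m) * (r ^ m) ^ (Nat.gcdB (2 ^ k) m) := by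
      rw [← zpow_natCast r (2 ^ k), ← zpow_natCast r m, ← zpow_mul, ← zpow_mul, ← zpow_add, ← hbez,
        Nat.cast_one, zpow_one]
    rw [e]
    exact (h1.zpow_left _).mul_left (h2.zpow_left _)
  obtain ⟨b, hb, hb1, hba⟩ : ∃ b ∈ A, b ≠ 1 ∧ b ≠ a := by
    classical
    by_contra hh
    push Not at hh
    have : Nat.card A ≤ 2 := by
      refine (Nat.card_le_card_of_injective (fun y : A => decide ((y : G) = 1)) fun y y' e => ?_).trans (by simp)
      by_cases h1 : (y : G) = 1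
      · exact Subtype.ext (h1.trans ((decide_eq_decide.1 e).1 h1).symm)
      · exact Subtype.ext ((hh y y.2 h1).trans (hh y' y'.2 fun e' => h1 ((decide_eq_decide.1 e).2 e')).symm)
    omega
  obtain ⟨i, hi⟩ := htr a ha ha1 b hb hb1
  rw [(h3.pow_left i).eq, mul_inv_cancel_right] at hi
  exact hba hi.symm

/-- The situation without balance. -/
theorem ground (hphi : A ≤ sqGen (S : Subgroup G)) : Ground S A := by
  have hsplit : ∀ w, Outer S A w → ∃ Q : Subgroup G, Q ≤ (S : Subgroup G) ⊓ centralizer ({w} : Set G) ∧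
      A ⊓ Q = ⊥ ∧ ∀ x ∈ (S : Subgroup G), Commute x w → ∃ a ∈ A, ∃ q ∈ Q, x = a * q := by
    intro w hw
    obtain ⟨a, ha, haw, hbad⟩ := exists_bad hF hS h hA4 hcen hw
    obtain ⟨r, Q, hQ, -, hdisj, hdec, -⟩ :=
      at_bad h hA4 (fun b hb => mem_centralizer_singleton_iff.2 (hcen _ haw b hb).symm.eq) hcen haw hbad
    refine ⟨Q, fun q hq => ?_, hdisj, fun x hx hxw => hdec x (mem_inf.2 ⟨hx, mem_centralizer_singleton_iff.2
      ((commute_coset hcen ha hx).2 hxw).eq⟩)⟩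
    obtain ⟨hqS, hqC⟩ := mem_inf.1 (hQ hq)
    exact mem_inf.2 ⟨hqS, mem_centralizer_singleton_iff.2
      ((commute_coset hcen ha hqS).1 (mem_centralizer_singleton_iff.1 hqC :)).eq⟩
  obtain ⟨w₀, hw₀S, hw₀2, hw₀A⟩ := exists_outer h hA4 hcen
  obtain ⟨a, ha, haw, hbad⟩ := exists_bad hF hS h hA4 hcen ⟨hw₀S, hw₀2, hw₀A⟩
  refine ⟨h, hA4, hcen, hphi, exists_rot_odd h hA4 hcen, hsplit, fun w hw x hx hxw hxx => ?_,
    not_dvd_of_bad h hA4 (fun b hb => mem_centralizer_singleton_iff.2 (hcen _ haw b hb).symm.eq) hbad⟩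
  obtain ⟨Q, hQ, hdisj, hdec⟩ := hsplit w hw
  obtain ⟨b, hb, q, hq, rfl⟩ := hdec x hx hxw
  have hqS : q ∈ (S : Subgroup G) := (mem_inf.1 (hQ hq)).1
  have h1 : b * q * (b * q) = q * q := by
    rw [show b * q * (b * q) = b * (q * b) * q by group, (hcen q hqS b hb).eq, ← mul_assoc b, h.sq b hb, one_mul]
  rw [h1] at hxx ⊢
  exact Subgroup.mem_bot.1 (hdisj.le (mem_inf.2 ⟨hxx, mul_mem hq hq⟩))

/-- At every coset a rotation of `A` centralizes a complement. -/
theorem hasRot : HasRot S A := by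
  intro x hx _
  obtain ⟨a, ha, hax, hbad⟩ := exists_bad hF hS h hA4 hcen hx.1
  obtain ⟨r, Q, hQ, heQ, hdisj, hdec, hnorm, hfpf, hcomm⟩ :=
    at_bad h hA4 (fun b hb => mem_centralizer_singleton_iff.2 (hcen _ hax b hb).symm.eq) hcen hax hbad
  exact ⟨a, ha, r, Q, hnorm, hfpf, heQ, hQ, hdisj, hdec, hcomm⟩

/-- The case of rank two. -/
theorem false_of_setting (hphi : A ≤ sqGen (S : Subgroup G)) : False :=
  false_of_ground (ground hF hS h hA4 hcen hphi) (hasRot hF hS h hA4 hcen)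

omit hF hS h hA4 hcen in
/-- The case of rank two, given the facts on the groups of the list. -/
theorem caseTwoStmt_of (hF : FormModelStmt.{u}) (hS : SmallModelStmt.{u}) : CaseTwoStmt.{u} :=
  fun _ _ _ _ _ h hA4 hcen hphi => false_of_setting hF hS h hA4 hcen hphi

end CfsgLib.Gold.Rank2
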