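import Cfsg.Agent.Lib.Goldschmidt.Rank2.Defs
import Cfsg.Agent.Lib.JComp.Straddle
import Cfsg.Agent.Lib.Coprime.Primitive
import Cfsg.Agent.Lib.Invol.Basic

/-!
# Rank two: the largest centralizers of outside involutions are elementary
-/

set_option autoImplicit false
set_option linter.unusedSectionVars false
set_option linter.style.haveILetI false

namespace CfsgLib.Gold.Rank2

open Subgroup

universe u

variable {G : Type u} [Group G] [Finite G]

/-- The centralizer in `S`. -/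
def cw (S : Sylow 2 G) (w : G) : Subgroup G := (S : Subgroup G) ⊓ centralizer ({w} : Set G)

/-- An outside involution with largest centralizer. -/
def IsMax (S : Sylow 2 G) (A : Subgroup G) (w : G) : Prop :=
  Outer S A w ∧ ∀ x, Outer S A x → Nat.card (cw S x) ≤ Nat.card (cw S w)

variable {S : Sylow 2 G} {A : Subgroup G}

theorem mem_cw {w x : G} : x ∈ cw S w ↔ x ∈ (S : Subgroup G) ∧ Commute x w := by
  rw [cw, mem_inf, mem_centralizer_singleton_iff]
  exact Iff.rfl

theorem cw_le (w : G) : cw S w ≤ (S : Subgroup G) := inf_le_left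

theorem Outer.mem_cw_self {w : G} (hw : Outer S A w) : w ∈ cw S w := mem_cw.2 ⟨hw.1, Commute.refl w⟩

theorem Outer.ne_one {w : G} (hw : Outer S A w) : w ≠ 1 := fun e => hw.2.2 (e ▸ one_mem A)

theorem Outer.inv {w : G} (hw : Outer S A w) : w⁻¹ = w := inv_eq_of_mul_eq_one_right hw.2.1

variable (hG : Ground S A)
include hG

theorem A_le : A ≤ (S : Subgroup G) := hG.setting.closed.1

theorem commA {a b : G} (ha : a ∈ A) (hb : b ∈ A) : Commute a b := hG.central a (A_le hG ha) b hb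

theorem invA {a : G} (ha : a ∈ A) : a⁻¹ = a := inv_eq_of_mul_eq_one_right (hG.setting.sq a ha)

theorem A_le_cw {w : G} (hw : w ∈ (S : Subgroup G)) : A ≤ cw S w := fun a ha =>
  mem_cw.2 ⟨A_le hG ha, (hG.central w hw a ha).symm⟩

/-- Conjugation carrying a subgroup containing `A` into `S` maps `A` onto itself. -/
theorem conj_A {g : G} (hg : ∀ a ∈ A, g * a * g⁻¹ ∈ (S : Subgroup G)) :
    (∀ a ∈ A, g * a * g⁻¹ ∈ A) ∧ ∀ a ∈ A, g⁻¹ * a * g ∈ A := by
  have h1 : ∀ a ∈ A, g * a * g⁻¹ ∈ A := fun a ha => hG.setting.closed.2 a ha g (hg a ha)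
  refine ⟨h1, fun a ha => ?_⟩
  let f : A → A := fun a => ⟨g * a * g⁻¹, h1 a a.2⟩
  have hf : Function.Injective f := fun x y e =>
    Subtype.ext (mul_left_cancel (mul_right_cancel (congrArg Subtype.val e :)))
  obtain ⟨b, hb⟩ := Finite.surjective_of_injective hf ⟨a, ha⟩
  have h2 : g * (b : G) * g⁻¹ = a := congrArg Subtype.val hb
  rw [← h2, show g⁻¹ * (g * (b : G) * g⁻¹) * g = b by group]
  exact b.2

theorem Outer.mul_A {w a : G} (hw : Outer S A w) (ha : a ∈ A) : Outer S A (a * w) := by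
  refine ⟨mul_mem (A_le hG ha) hw.1, ?_, fun h => hw.2.2 ?_⟩
  · rw [((hG.central w hw.1 a ha).symm).eq]
    calc w * a * (w * a) = w * (a * w) * a := by group
      _ = w * (w * a) * a := by rw [((hG.central w hw.1 a ha).symm).eq]
      _ = 1 := by rw [← mul_assoc, hw.2.1, one_mul, hG.setting.sq a ha]
  · have := mul_mem (inv_mem ha) h
    rwa [inv_mul_cancel_left] at this

theorem cw_mul_A {w a : G} (ha : a ∈ A) : cw S (a * w) = cw S w := by
  ext x
  rw [mem_cw, mem_cw]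
  refine and_congr_right fun hx => ⟨fun h => ?_, fun h => (hG.central x hx a ha).mul_right h⟩
  have := (hG.central x hx a ha).inv_right.mul_right h
  rwa [inv_mul_cancel_left] at this

/-- The squares in `C_S(w)` avoid `A`. -/
theorem sqGen_inf {w : G} (hw : Outer S A w) : A ⊓ sqGen (cw S w) = ⊥ := by
  obtain ⟨Q, -, hdisj, hdec⟩ := hG.split w hw
  refine eq_bot_iff.2 ((inf_le_inf_left A ((closure_le Q).2 ?_)).trans hdisj.le)
  rintro _ ⟨x, hx, rfl⟩
  obtain ⟨a, ha, q, hq, rfl⟩ := hdec x (mem_cw.1 hx).1 (mem_cw.1 hx).2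
  have hqS : q ∈ (S : Subgroup G) := by
    have := mul_mem (inv_mem (A_le hG ha)) (mem_cw.1 hx).1
    rwa [inv_mul_cancel_left] at this
  show a * q * (a * q) ∈ Q
  rw [show a * q * (a * q) = a * (q * a) * q by group, (hG.central q hqS a ha).eq,
    ← mul_assoc, hG.setting.sq a ha, one_mul]
  exact mul_mem hq hq

theorem cw_ne_S {w : G} (hw : Outer S A w) : cw S w ≠ (S : Subgroup G) := fun e => by
  have h1 := sqGen_inf hG hw
  rw [e, inf_eq_left.2 hG.phi] at h1
  exact hG.setting.ne_bot h1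

theorem exists_isMax {w₀ : G} (hw₀ : Outer S A w₀) : ∃ w, IsMax S A w := by
  classical
  haveI := Fintype.ofFinite G
  obtain ⟨w, hw, hmax⟩ := Finset.exists_max_image (Finset.univ.filter fun x => Outer S A x)
    (fun x => Nat.card (cw S x)) ⟨w₀, by simpa using hw₀⟩
  exact ⟨w, (Finset.mem_filter.1 hw).2, fun x hx => hmax x (by simpa using hx)⟩

/-- A largest centralizer has exponent two. -/
theorem IsMax.sq {w : G} (hw : IsMax S A w) : ∀ x ∈ cw S w, x * x = 1 := by
  haveI : Fact (Nat.Prime 2) := ⟨Nat.prime_two⟩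
  set C := cw S w with hC
  by_contra hx
  push Not at hx
  obtain ⟨x, hx, hx1⟩ := hx
  obtain ⟨s, hs, hsn, hsC⟩ :=
    CfsgLib.JComp.exists_mem_normalizer_not_mem S.2 (cw_le w) (cw_ne_S hG hw.1)
  set N := (S : Subgroup G) ⊓ normalizer (C : Set G) with hN
  have hCN : C ≤ N := le_inf (cw_le w) le_normalizer
  set D := sqGen C with hD
  have hDC : D ≤ C := (closure_le C).2 (by rintro _ ⟨y, hy, rfl⟩; exact mul_mem hy hy)
  haveI hnil : Group.IsNilpotent N := (S.2.to_le inf_le_left).isNilpotent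
  haveI : (D.subgroupOf N).Normal := by
    refine ⟨fun d hd g => ?_⟩
    rw [mem_subgroupOf] at hd ⊢
    have hle : D ≤ D.comap (MulAut.conj (g : G)).toMonoidHom := (closure_le _).2 (by
      rintro _ ⟨y, hy, rfl⟩
      refine subset_closure ⟨(g : G) * y * (g : G)⁻¹, (mem_normalizer_iff.1 (mem_inf.1 g.2).2 y).1 hy, ?_⟩
      show (g : G) * y * (g : G)⁻¹ * ((g : G) * y * (g : G)⁻¹) = (g : G) * (y * y) * (g : G)⁻¹
      group)
    exact hle hd
  have hDne : D.subgroupOf N ≠ ⊥ := fun e => hx1 (by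
    have hxx : x * x ∈ D := subset_closure ⟨x, hx, rfl⟩
    have h1 : (⟨x * x, hCN (hDC hxx)⟩ : N) ∈ D.subgroupOf N := mem_subgroupOf.2 hxx
    rw [e, mem_bot] at h1
    exact congrArg Subtype.val h1)
  have hne := CfsgLib.Coprime.nilpotent_inf_center_ne_bot (D.subgroupOf N) hDne
  have h2 : 2 ∣ Nat.card (D.subgroupOf N ⊓ center N : Subgroup N) := by
    obtain ⟨j, hj⟩ := ((S.2.to_le (inf_le_left : N ≤ (S : Subgroup G))).to_subgroup
      (D.subgroupOf N ⊓ center N)).exists_card_eq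
    rcases j with _ | j
    · rw [pow_zero] at hj; exact absurd (eq_bot_of_card_eq _ hj) hne
    · rw [hj]; exact dvd_pow_self 2 j.succ_ne_zero
  obtain ⟨z, hz⟩ := exists_prime_orderOf_dvd_card' (G := (D.subgroupOf N ⊓ center N : Subgroup N)) 2 h2
  have hz2 : orderOf (((z : N) : G)) = 2 := by rw [Subgroup.orderOf_coe, Subgroup.orderOf_coe, hz]
  have hzD : ((z : N) : G) ∈ D := mem_subgroupOf.1 (mem_inf.1 z.2).1
  have hzo : Outer S A ((z : N) : G) := ⟨(mem_inf.1 (z : N).2).1, CfsgLib.Invol.invol_mul_self hz2, fun hzA =>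
    CfsgLib.Invol.invol_ne_one hz2 (mem_bot.1 ((sqGen_inf hG hw.1).le (mem_inf.2 ⟨hzA, hzD⟩)))⟩
  have hle : N ≤ cw S ((z : N) : G) := fun y hy => mem_cw.2 ⟨(mem_inf.1 hy).1,
    congrArg Subtype.val (mem_center_iff.1 (mem_inf.1 z.2).2 ⟨y, hy⟩)⟩
  have heq : C = N := eq_of_le_of_card_ge hCN ((Subgroup.card_le_of_le hle).trans (hw.2 _ hzo))
  exact hsC (heq.ge (mem_inf.2 ⟨hs, hsn⟩))

theorem IsMax.comm {w : G} (hw : IsMax S A w) {x y : G} (hx : x ∈ cw S w) (hy : y ∈ cw S w) :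
    Commute x y := by
  have h1 := IsMax.sq hG hw _ hx
  have h2 := IsMax.sq hG hw _ hy
  have h3 := IsMax.sq hG hw _ (mul_mem hx hy)
  show x * y = y * x
  rw [← inv_eq_of_mul_eq_one_right h3, mul_inv_rev, inv_eq_of_mul_eq_one_right h2,
    inv_eq_of_mul_eq_one_right h1]

theorem IsMax.cw_eq {w y : G} (hw : IsMax S A w) (hy : y ∈ cw S w) (hyA : y ∉ A) : cw S y = cw S w :=
  (eq_of_le_of_card_ge (fun x hx => mem_cw.2 ⟨(mem_cw.1 hx).1, IsMax.comm hG hw hx hy⟩)
    (hw.2 y ⟨(mem_cw.1 hy).1, IsMax.sq hG hw y hy, hyA⟩)).symm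

theorem IsMax.of_mem {w y : G} (hw : IsMax S A w) (hy : y ∈ cw S w) (hyA : y ∉ A) : IsMax S A y := by
  refine ⟨⟨(mem_cw.1 hy).1, IsMax.sq hG hw y hy, hyA⟩, fun x hx => ?_⟩
  rw [IsMax.cw_eq hG hw hy hyA]
  exact hw.2 x hx

theorem IsMax.mul_A {w a : G} (hw : IsMax S A w) (ha : a ∈ A) : IsMax S A (a * w) :=
  ⟨hw.1.mul_A hG ha, fun x hx => by rw [cw_mul_A hG ha]; exact hw.2 x hx⟩

/-- A conjugate into `S` of an outside involution, by an element carrying `A` into `S`. -/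
theorem Outer.conj {w g : G} (hw : Outer S A w) (hg : ∀ a ∈ A, g * a * g⁻¹ ∈ (S : Subgroup G))
    (hgw : g * w * g⁻¹ ∈ (S : Subgroup G)) : Outer S A (g * w * g⁻¹) := by
  refine ⟨hgw, by rw [show g * w * g⁻¹ * (g * w * g⁻¹) = g * (w * w) * g⁻¹ by group, hw.2.1]; group,
    fun h => hw.2.2 ?_⟩
  have := (conj_A hG hg).2 _ h
  rwa [show g⁻¹ * (g * w * g⁻¹) * g = w by group] at this

/-- A largest centralizer is a Sylow subgroup of the whole centralizer. -/
theorem IsMax.sylow {w : G} (hw : IsMax S A w) {R : Subgroup G} (hR : IsPGroup 2 R) (hle : cw S w ≤ R)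
    (hRC : R ≤ centralizer ({w} : Set G)) : R = cw S w := by
  haveI : Fact (Nat.Prime 2) := ⟨Nat.prime_two⟩
  obtain ⟨g, hg⟩ := CfsgLib.Invol.exists_conj_le_sylow hR S
  have hgA : ∀ a ∈ A, g * a * g⁻¹ ∈ (S : Subgroup G) := fun a ha => hg a (hle (A_le_cw hG hw.1.1 ha))
  have ho := hw.1.conj hG hgA (hg w (hle hw.1.mem_cw_self))
  have hmap : R.map (MulAut.conj g).toMonoidHom ≤ cw S (g * w * g⁻¹) := by
    rintro _ ⟨y, hy, rfl⟩
    exact mem_cw.2 ⟨hg y hy,
      (show Commute y w from mem_centralizer_singleton_iff.1 (hRC hy)).map (MulAut.conj g).toMonoidHom⟩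
  refine (eq_of_le_of_card_ge hle ?_).symm
  calc Nat.card R = Nat.card (R.map (MulAut.conj g).toMonoidHom) :=
        (card_map_of_injective (MulAut.conj g).injective).symm
    _ ≤ Nat.card (cw S (g * w * g⁻¹)) := Subgroup.card_le_of_le hmap
    _ ≤ Nat.card (cw S w) := hw.2 _ ho

end CfsgLib.Gold.Rank2
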