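import Cfsg.Agent.Lib.Goldschmidt.Rank2.Max

/-!
# Rank two: the normalizer of a largest centralizer

It moves the centralizer only modulo `A`, and is four times as large when a rotation of `A` centralizes a
complement.
-/

set_option autoImplicit false
set_option linter.unusedSectionVars false
set_option linter.style.haveILetI false

namespace CfsgLib.Gold.Rank2

open Subgroup

universe u

variable {G : Type u} [Group G] [Finite G]

/-- The normalizer in `S` of the centralizer. -/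
def nt (S : Sylow 2 G) (w : G) : Subgroup G := (S : Subgroup G) ⊓ normalizer (cw S w : Set G)

/-- The commutator. -/
def val (t y : G) : G := t * y * t⁻¹ * y⁻¹

theorem val_eq_one {t y : G} (h : Commute t y) : val t y = 1 := by
  rw [val, h.eq, mul_inv_cancel_right, mul_inv_cancel]

theorem commute_of_val {t y : G} (h : val t y = 1) : Commute t y := by
  rw [val, mul_inv_eq_one] at h
  exact mul_inv_eq_iff_eq_mul.1 h

theorem val_mul_left (g g' y : G) : val (g * g') y = g * val g' y * g⁻¹ * val g y := by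
  rw [val, val, val]; group

theorem val_mul_right (g y y' : G) : val g (y * y') = val g y * (y * val g y' * y⁻¹) := by
  rw [val, val, val]; group

/-- The elements centralizing `A` and moving the centralizer inside its cosets modulo `A`. -/
def hgrp (S : Sylow 2 G) (A : Subgroup G) (w : G) : Subgroup G where
  carrier := {g | g ∈ centralizer (A : Set G) ∧ g ∈ normalizer (cw S w : Set G) ∧ ∀ y ∈ cw S w, val g y ∈ A}
  one_mem' := ⟨one_mem _, one_mem _, fun y _ => by rw [val_eq_one (Commute.one_left y)]; exact one_mem _⟩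
  mul_mem' := by
    rintro g g' ⟨h1, h2, h3⟩ ⟨h1', h2', h3'⟩
    refine ⟨mul_mem h1 h1', mul_mem h2 h2', fun y hy => ?_⟩
    rw [val_mul_left, ← mem_centralizer_iff.1 h1 _ (h3' y hy), mul_inv_cancel_right]
    exact mul_mem (h3' y hy) (h3 y hy)
  inv_mem' := by
    rintro g ⟨h1, h2, h3⟩
    refine ⟨inv_mem h1, inv_mem h2, fun y hy => ?_⟩
    have hb := inv_mem (h3 y hy)
    have hc : g⁻¹ * (val g y)⁻¹ * g = (val g y)⁻¹ := by
      rw [mul_assoc, mem_centralizer_iff.1 h1 _ hb, inv_mul_cancel_left]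
    rw [show val g⁻¹ y = g⁻¹ * (val g y)⁻¹ * g by rw [val, val]; group, hc]
    exact hb

variable {S : Sylow 2 G} {A : Subgroup G}

theorem mem_hgrp {w g : G} : g ∈ hgrp S A w ↔
    g ∈ centralizer (A : Set G) ∧ g ∈ normalizer (cw S w : Set G) ∧ ∀ y ∈ cw S w, val g y ∈ A := Iff.rfl

theorem cw_le_nt (w : G) : cw S w ≤ nt S w := le_inf (cw_le w) le_normalizer

variable (hG : Ground S A) {w : G} (hw : IsMax S A w)
include hG hw

theorem val_mem_cw {t y : G} (ht : t ∈ nt S w) (hy : y ∈ cw S w) : val t y ∈ cw S w :=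
  mul_mem ((mem_normalizer_iff.1 (mem_inf.1 ht).2 y).1 hy) (inv_mem hy)

/-- Only the centralizer itself fixes one of its outside elements. -/
theorem fix_mem {t y : G} (ht : t ∈ nt S w) (hy : y ∈ cw S w) (hyA : y ∉ A) (hc : Commute t y) :
    t ∈ cw S w := by
  rw [← IsMax.cw_eq hG hw hy hyA]
  exact mem_cw.2 ⟨(mem_inf.1 ht).1, hc⟩

theorem val_sq {t y : G} (ht : t ∈ nt S w) (hy : y ∈ cw S w) : val (t * t) y = val t (val t y) := by
  have h1 : t * y * t⁻¹ ∈ cw S w := (mem_normalizer_iff.1 (mem_inf.1 ht).2 y).1 hy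
  have hyi := inv_eq_of_mul_eq_one_right (IsMax.sq hG hw y hy)
  have h2 := IsMax.sq hG hw _ h1
  calc val (t * t) y = t * (t * y * t⁻¹) * t⁻¹ * y⁻¹ := by rw [val]; group
    _ = t * (t * y * t⁻¹) * t⁻¹ * ((t * y * t⁻¹) * (t * y * t⁻¹)) * y⁻¹ := by rw [h2, mul_one]
    _ = t * (t * y * t⁻¹) * (y * (t⁻¹ * (t * y * t⁻¹) * y⁻¹)) := by group
    _ = t * (t * y * t⁻¹) * (y * t⁻¹ * (t * y * t⁻¹ * y⁻¹)) := by group
    _ = t * (t * y * t⁻¹) * (y * t⁻¹ * (t * y * t⁻¹ * y⁻¹)⁻¹) := by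
        rw [inv_eq_of_mul_eq_one_right (IsMax.sq hG hw _ (mul_mem h1 (inv_mem hy)))]
    _ = t * (t * y * t⁻¹ * y) * t⁻¹ * (t * y * t⁻¹ * y⁻¹)⁻¹ := by group
    _ = val t (val t y) := by rw [val, val, hyi]

/-- The normalizer moves the centralizer only modulo `A`. -/
theorem val_mem_A {t : G} (ht : t ∈ nt S w) : ∀ y ∈ cw S w, val t y ∈ A := by
  obtain ⟨m, hm⟩ : ∃ m : ℕ, t ^ 2 ^ m = 1 := by
    obtain ⟨m, hm⟩ := S.2 ⟨t, (mem_inf.1 ht).1⟩
    exact ⟨m, by simpa [Subtype.ext_iff] using hm⟩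
  induction m generalizing t with
  | zero =>
    rw [pow_zero, pow_one] at hm
    subst hm
    intro y _
    rw [val_eq_one (Commute.one_left y)]
    exact one_mem _
  | succ m ih =>
    have htt : t * t ∈ nt S w := mul_mem ht ht
    have h2 := ih htt (by rw [← pow_two, ← pow_mul, ← pow_succ', hm])
    intro y hy
    by_contra hz
    have hzc := val_mem_cw hG hw ht hy
    have h3 : val t (val t y) ∈ A := val_sq hG hw ht hy ▸ h2 y hy
    have h4 : Commute (t * t) (val t y) := commute_of_val (by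
      rw [val_sq hG hw ht hzc, val_eq_one ((hG.central t (mem_inf.1 ht).1 _ h3))])
    have h5 := fix_mem hG hw htt hzc hz h4
    have h6 : val (t * t) y = 1 := val_eq_one (IsMax.comm hG hw h5 hy)
    rw [val_sq hG hw ht hy] at h6
    have h7 := fix_mem hG hw ht hzc hz (commute_of_val h6)
    exact hz (by rw [val_eq_one (IsMax.comm hG hw h7 hy)]; exact one_mem _)

theorem sq_mem_A {t : G} (ht : t ∈ nt S w) : t * t ∈ A := by
  by_cases htc : t ∈ cw S w
  · rw [IsMax.sq hG hw t htc]; exact one_mem _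
  have h1 : Commute (t * t) w := commute_of_val (by
    rw [val_sq hG hw ht hw.1.mem_cw_self,
      val_eq_one (hG.central t (mem_inf.1 ht).1 _ (val_mem_A hG hw ht w hw.1.mem_cw_self))])
  have h2 := fix_mem hG hw (mul_mem ht ht) hw.1.mem_cw_self hw.1.2.2 h1
  by_contra hA
  exact htc (fix_mem hG hw ht h2 hA ((Commute.refl t).mul_right (Commute.refl t)))

theorem comm_mem_A {t t' : G} (ht : t ∈ nt S w) (ht' : t' ∈ nt S w) : t * t' * t⁻¹ * t'⁻¹ ∈ A := by
  have h1 := sq_mem_A hG hw (mul_mem ht ht')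
  have h2 := sq_mem_A hG hw ht
  have h3 := sq_mem_A hG hw ht'
  rw [show t * t' * t⁻¹ * t'⁻¹ = t * t' * (t * t') * (t'⁻¹ * ((t * t)⁻¹ * t')) * (t' * t')⁻¹ by group,
    ← (hG.central t' (mem_inf.1 ht').1 _ (inv_mem h2)).eq, inv_mul_cancel_left]
  exact mul_mem (mul_mem h1 (inv_mem h2)) (inv_mem h3)

theorem nt_le_hgrp : nt S w ≤ hgrp S A w := fun t ht =>
  ⟨mem_centralizer_iff.2 fun a ha => (hG.central t (mem_inf.1 ht).1 a ha).eq.symm, (mem_inf.1 ht).2,
    val_mem_A hG hw ht⟩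

theorem val_hom_left {g g' y : G} (hg : g ∈ hgrp S A w) (hg' : g' ∈ hgrp S A w) (hy : y ∈ cw S w) :
    val (g * g') y = val g y * val g' y := by
  rw [val_mul_left, ← mem_centralizer_iff.1 (mem_hgrp.1 hg).1 _ ((mem_hgrp.1 hg').2.2 y hy),
    mul_inv_cancel_right]
  exact (commA hG ((mem_hgrp.1 hg').2.2 y hy) ((mem_hgrp.1 hg).2.2 y hy)).eq

theorem val_hom_right {g y y' : G} (hg : g ∈ hgrp S A w) (hy : y ∈ cw S w) (hy' : y' ∈ cw S w) :
    val g (y * y') = val g y * val g y' := by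
  rw [val_mul_right, (hG.central y (cw_le w hy) _ ((mem_hgrp.1 hg).2.2 y' hy')).eq, mul_inv_cancel_right]

theorem val_conj {g h y : G} (hg : g ∈ hgrp S A w) (hh : h ∈ hgrp S A w) (hy : y ∈ cw S w) :
    val (h * g * h⁻¹) y = val g y := by
  have h1 := val_hom_left hG hw hh (inv_mem hh) hy
  rw [mul_inv_cancel, val_eq_one (Commute.one_left y)] at h1
  rw [val_hom_left hG hw (mul_mem hh hg) (inv_mem hh) hy, val_hom_left hG hw hh hg hy,
    (commA hG ((mem_hgrp.1 hh).2.2 y hy) ((mem_hgrp.1 hg).2.2 y hy)).eq, mul_assoc, ← h1, mul_one]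

/-- The commutators with `w`. -/
def valHom : nt S w →* A where
  toFun t := ⟨val t w, val_mem_A hG hw t.2 w hw.1.mem_cw_self⟩
  map_one' := Subtype.ext (val_eq_one (Commute.one_left w))
  map_mul' s t := Subtype.ext
    (val_hom_left hG hw (nt_le_hgrp hG hw s.2) (nt_le_hgrp hG hw t.2) hw.1.mem_cw_self)

theorem card_nt_eq : Nat.card (nt S w) = Nat.card (cw S w) * Nat.card (valHom hG hw).range := by
  have h := (valHom hG hw).ker.card_mul_index
  rw [index_ker] at h
  rw [← h, ← Nat.card_congr (subgroupOfEquivOfLe (cw_le_nt (S := S) w)).toEquiv]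
  rw [show (valHom hG hw).ker = (cw S w).subgroupOf (nt S w) from ?_]
  ext t
  rw [MonoidHom.mem_ker, mem_subgroupOf]
  refine ⟨fun e => ?_, fun e => Subtype.ext (val_eq_one (IsMax.comm hG hw e hw.1.mem_cw_self))⟩
  exact fix_mem hG hw t.2 hw.1.mem_cw_self hw.1.2.2 (commute_of_val (congrArg Subtype.val e :))

theorem card_nt_le : Nat.card (nt S w) ≤ 4 * Nat.card (cw S w) := by
  rw [card_nt_eq hG hw, mul_comm 4]
  refine Nat.mul_le_mul le_rfl ?_
  rw [← hG.card_A]
  exact Subgroup.card_le_card_group _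

theorem exists_not_cw : ∃ t ∈ nt S w, t ∉ cw S w := by
  obtain ⟨t, ht, htn, htc⟩ :=
    CfsgLib.JComp.exists_mem_normalizer_not_mem S.2 (cw_le w) (cw_ne_S hG hw.1)
  exact ⟨t, mem_inf.2 ⟨ht, htn⟩, htc⟩

omit hG hw in
/-- The normalizer is as large as possible. -/
def Top (S : Sylow 2 G) (A : Subgroup G) (w : G) : Prop :=
  ∀ x, IsMax S A x → Nat.card (nt S x) ≤ Nat.card (nt S w)

/-- With a largest normalizer, a `2`-element of the group above moves like one of the normalizer. -/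
theorem exists_conj_nt (htop : Top S A w) {g : G} (hg : g ∈ hgrp S A w) {k : ℕ} (h2 : g ^ 2 ^ k = 1) :
    ∃ h ∈ hgrp S A w, h * g * h⁻¹ ∈ nt S w := by
  haveI : Fact (Nat.Prime 2) := ⟨Nat.prime_two⟩
  set H := hgrp S A w
  have hle := nt_le_hgrp hG hw
  obtain ⟨P, hP⟩ := (IsPGroup.comap_of_injective (S.2.to_le (inf_le_left : nt S w ≤ (S : Subgroup G)))
    H.subtype H.subtype_injective : IsPGroup 2 ((nt S w).subgroupOf H)).exists_le_sylow
  set R := (P : Subgroup H).map H.subtype with hR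
  have hRH : R ≤ H := map_subtype_le _
  have hntR : nt S w ≤ R := fun t ht => ⟨⟨t, hle ht⟩, hP (mem_subgroupOf.2 ht), rfl⟩
  obtain ⟨f, hf⟩ := CfsgLib.Invol.exists_conj_le_sylow (P.2.map H.subtype : IsPGroup 2 R) S
  have hwR : w ∈ R := hntR (cw_le_nt w hw.1.mem_cw_self)
  have hfA : ∀ a ∈ A, f * a * f⁻¹ ∈ (S : Subgroup G) := fun a ha =>
    hf a (hntR (cw_le_nt w (A_le_cw hG hw.1.1 ha)))
  have ho := hw.1.conj hG hfA (hf w hwR)
  have hmap : (cw S w).map (MulAut.conj f).toMonoidHom ≤ cw S (f * w * f⁻¹) := by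
    rintro _ ⟨y, hy, rfl⟩
    exact mem_cw.2 ⟨hf y (hntR (cw_le_nt w hy)), (mem_cw.1 hy).2.map (MulAut.conj f).toMonoidHom⟩
  have hc : Nat.card (cw S w) ≤ Nat.card (cw S (f * w * f⁻¹)) :=
    (card_map_of_injective (MulAut.conj f).injective).symm.trans_le (Subgroup.card_le_of_le hmap)
  have hmax : IsMax S A (f * w * f⁻¹) := ⟨ho, fun x hx => (hw.2 x hx).trans hc⟩
  have heq : (cw S w).map (MulAut.conj f).toMonoidHom = cw S (f * w * f⁻¹) :=
    eq_of_le_of_card_ge hmap (by rw [card_map_of_injective (MulAut.conj f).injective]; exact hw.2 _ ho)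
  have hRle : R.map (MulAut.conj f).toMonoidHom ≤ nt S (f * w * f⁻¹) := by
    rintro _ ⟨y, hy, rfl⟩
    refine mem_inf.2 ⟨hf y hy, mem_normalizer_fintype fun x hx => ?_⟩
    rw [SetLike.mem_coe, ← heq] at hx ⊢
    obtain ⟨x, hx', rfl⟩ := hx
    refine ⟨y * x * y⁻¹, (mem_normalizer_iff.1 (mem_hgrp.1 (hRH hy)).2.1 x).1 hx', ?_⟩
    simp [mul_assoc]
  have hRc : Nat.card R ≤ Nat.card (nt S w) :=
    ((card_map_of_injective (MulAut.conj f).injective).symm.trans_le (Subgroup.card_le_of_le hRle)).trans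
      (htop _ hmax)
  have hReq : nt S w = R := eq_of_le_of_card_ge hntR hRc
  obtain ⟨h, hh⟩ := CfsgLib.Invol.exists_conj_le_sylow (p := 2)
    (Q := zpowers (⟨g, hg⟩ : H)) (by
      have h4 : orderOf (⟨g, hg⟩ : H) ∣ 2 ^ k := orderOf_dvd_of_pow_eq_one (Subtype.ext h2)
      obtain ⟨j, -, hj⟩ := (Nat.dvd_prime_pow Nat.prime_two).1 h4
      exact IsPGroup.of_card (n := j) (by rw [Nat.card_zpowers, hj])) P
  refine ⟨h, h.2, ?_⟩
  rw [hReq]
  exact ⟨h * ⟨g, hg⟩ * h⁻¹, hh _ (mem_zpowers _), rfl⟩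

omit hw in
theorem exists_top {w₀ : G} (hw₀ : IsMax S A w₀) : ∃ x, IsMax S A x ∧ Top S A x := by
  classical
  haveI := Fintype.ofFinite G
  obtain ⟨x, hx, hmax⟩ := Finset.exists_max_image (Finset.univ.filter fun x => IsMax S A x)
    (fun x => Nat.card (nt S x)) ⟨w₀, by simpa using hw₀⟩
  exact ⟨x, (Finset.mem_filter.1 hx).2, fun y hy => hmax y (by simpa using hy)⟩

end CfsgLib.Gold.Rank2
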