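import Cfsg.Agent.Lib.Goldschmidt.Rank2.Norm

/-!
# Rank two: a rotation of `A` centralizing a complement
-/

set_option autoImplicit false
set_option linter.unusedSectionVars false
set_option linter.style.haveILetI false

namespace CfsgLib.Gold.Rank2

open Subgroup

universe u

variable {G : Type u} [Group G] [Finite G]

/-- A rotation of `A` normalizing `C_S(w)` and centralizing a complement `Q ∋ w`. -/
structure RotData (S : Sylow 2 G) (A : Subgroup G) (w r : G) (Q : Subgroup G) : Prop where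
  norm : ∀ y ∈ cw S w, r * y * r⁻¹ ∈ cw S w
  fpf : ∀ a ∈ A, a ≠ 1 → r * a * r⁻¹ ≠ a
  w_mem : w ∈ Q
  le : Q ≤ cw S w
  disj : A ⊓ Q = ⊥
  dec : ∀ x ∈ cw S w, ∃ a ∈ A, ∃ q ∈ Q, x = a * q
  comm : ∀ q ∈ Q, Commute r q

variable {S : Sylow 2 G} {A : Subgroup G}

/-- Three distinct nontrivial elements exhaust `A`. -/
theorem Ground.cases (hG : Ground S A) {a b : G} (ha : a ∈ A) (hb : b ∈ A) (ha1 : a ≠ 1) (hb1 : b ≠ 1)
    (hab : a ≠ b) {c : G} (hc : c ∈ A) : c = 1 ∨ c = a ∨ c = b ∨ c = a * b := by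
  classical
  haveI := Fintype.ofFinite A
  by_contra h
  push Not at h
  obtain ⟨h1, h2, h3, h4⟩ := h
  have hab' : a * b ≠ 1 := fun e => hab (by rw [mul_eq_one_iff_eq_inv.1 e, invA hG hb])
  have hs : ({⟨1, one_mem _⟩, ⟨a, ha⟩, ⟨b, hb⟩, ⟨a * b, mul_mem ha hb⟩, ⟨c, hc⟩} : Finset A).card = 5 := by
    repeat' rw [Finset.card_insert_of_notMem]
    · rw [Finset.card_singleton]
    all_goals simp [Subtype.ext_iff, ha1.symm, hb1.symm, hab, hab'.symm, h1.symm, h2.symm, h3.symm, h4.symm,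
      mul_eq_left, ha1, hb1]
  have := Finset.card_le_univ ({⟨1, one_mem _⟩, ⟨a, ha⟩, ⟨b, hb⟩, ⟨a * b, mul_mem ha hb⟩, ⟨c, hc⟩} : Finset A)
  rw [← Nat.card_eq_fintype_card, hG.card_A, hs] at this
  omega

/-- A fixed point free map of `A` is a three cycle. -/
theorem Ground.rot_cycle (hG : Ground S A) {r : G} (hr : ∀ a ∈ A, r * a * r⁻¹ ∈ A)
    (hfpf : ∀ a ∈ A, a ≠ 1 → r * a * r⁻¹ ≠ a) {a : G} (ha : a ∈ A) (ha1 : a ≠ 1) :
    r * (r * a * r⁻¹) * r⁻¹ = a * (r * a * r⁻¹) ∧ r * (a * (r * a * r⁻¹)) * r⁻¹ = a := by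
  set b := r * a * r⁻¹ with hb
  have hb' : b ∈ A := hr a ha
  have hb1 : b ≠ 1 := fun e => ha1 (conj_eq_one_iff.1 e)
  have hne : a ≠ b := fun e => hfpf a ha ha1 e.symm
  have hc1 : a * b ≠ 1 := fun e => hne (by rw [mul_eq_one_iff_eq_inv.1 e, invA hG hb'])
  have h2 : r * b * r⁻¹ = a * b := by
    rcases hG.cases ha hb' ha1 hb1 hne (hr b hb') with h | h | h | h
    · exact (hb1 (conj_eq_one_iff.1 h)).elim
    · refine absurd ?_ (hfpf _ (mul_mem ha hb') hc1)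
      rw [show r * (a * b) * r⁻¹ = r * a * r⁻¹ * (r * b * r⁻¹) by group, h, ← hb]
      exact (commA hG hb' ha).eq
    · exact absurd h (hfpf b hb' hb1)
    · exact h
  refine ⟨h2, ?_⟩
  rw [show r * (a * b) * r⁻¹ = r * a * r⁻¹ * (r * b * r⁻¹) by group, h2, ← hb,
    ← mul_assoc, (commA hG hb' ha).eq, mul_assoc, hG.setting.sq b hb', mul_one]

variable (hG : Ground S A) {w r : G} {Q : Subgroup G} (hw : IsMax S A w) (hr : RotData S A w r Q)
include hG hw hr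

theorem RotData.rot_A : ∀ a ∈ A, r * a * r⁻¹ ∈ A :=
  (conj_A hG fun a ha => cw_le w (hr.norm a (A_le_cw hG hw.1.1 ha))).1

theorem RotData.rot_inv_A : ∀ a ∈ A, r⁻¹ * a * r ∈ A :=
  (conj_A hG fun a ha => cw_le w (hr.norm a (A_le_cw hG hw.1.1 ha))).2

theorem RotData.equiv (htop : Top S A w) {t : G} (ht : t ∈ nt S w) :
    ∃ t' ∈ nt S w, (∀ q ∈ Q, val t' q = r * val t q * r⁻¹) ∧ t' * t' = r * (t * t) * r⁻¹ := by
  have hrn : r ∈ normalizer (cw S w : Set G) := mem_normalizer_fintype fun y hy => hr.norm y hy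
  have hth := nt_le_hgrp hG hw ht
  set g := r * t * r⁻¹ with hg
  have hgh : g ∈ hgrp S A w := by
    refine ⟨mem_centralizer_iff.2 fun a ha => ?_, mul_mem (mul_mem hrn (mem_inf.1 ht).2) (inv_mem hrn),
      fun y hy => ?_⟩
    · have h1 := mem_centralizer_iff.1 hth.1 _ (hr.rot_inv_A hG hw a ha)
      calc a * g = r * ((r⁻¹ * a * r) * t) * r⁻¹ := by rw [hg]; group
        _ = r * (t * (r⁻¹ * a * r)) * r⁻¹ := by rw [h1]
        _ = g * a := by rw [hg]; group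
    · have hy' : r⁻¹ * y * r ∈ cw S w := by
        have := (mem_normalizer_iff.1 (inv_mem hrn) y).1 hy
        rwa [inv_inv] at this
      rw [show val g y = r * val t (r⁻¹ * y * r) * r⁻¹ by rw [hg, val, val]; group]
      exact hr.rot_A hG hw _ (hth.2.2 _ hy')
  have hgg : g * g = r * (t * t) * r⁻¹ := by rw [hg]; group
  have hggA : g * g ∈ A := hgg ▸ hr.rot_A hG hw _ (sq_mem_A hG hw ht)
  obtain ⟨h, hh, hht⟩ := exists_conj_nt hG hw htop hgh (k := 2) (by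
    rw [show (2 : ℕ) ^ 2 = 2 * 2 from rfl, pow_mul, pow_two g, pow_two]; exact hG.setting.sq _ hggA)
  refine ⟨_, hht, fun q hq => ?_, ?_⟩
  · rw [val_conj hG hw hgh hh (hr.le hq), hg, val, val,
      show r * t * r⁻¹ * q * (r * t * r⁻¹)⁻¹ * q⁻¹ = r * t * (r⁻¹ * q * r) * t⁻¹ * r⁻¹ * q⁻¹ by group,
      show r⁻¹ * q * r = q by rw [mul_assoc, ← (hr.comm q hq).eq, inv_mul_cancel_left],
      show r * (t * q * t⁻¹ * q⁻¹) * r⁻¹ = r * t * q * t⁻¹ * (r * q)⁻¹ by group, (hr.comm q hq).eq]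
    group
  · rw [show h * g * h⁻¹ * (h * g * h⁻¹) = h * (g * g) * h⁻¹ by group,
      ← mem_centralizer_iff.1 (mem_hgrp.1 hh).1 _ hggA, mul_inv_cancel_right, hgg]

/-- Every element of `A` is a commutator with `w`. -/
theorem RotData.surj (htop : Top S A w) {a : G} (ha : a ∈ A) : ∃ t ∈ nt S w, val t w = a := by
  by_cases ha1 : a = 1
  · exact ⟨1, one_mem _, by rw [val_eq_one (Commute.one_left w), ha1]⟩
  obtain ⟨t, ht, htc⟩ := exists_not_cw hG hw
  set b := val t w with hb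
  have hb1 : b ≠ 1 := fun e => htc (fix_mem hG hw ht hw.1.mem_cw_self hw.1.2.2 (commute_of_val e))
  have hbA : b ∈ A := val_mem_A hG hw ht w hw.1.mem_cw_self
  obtain ⟨t', ht', hv, -⟩ := hr.equiv hG hw htop ht
  have hcA : r * b * r⁻¹ ∈ A := hr.rot_A hG hw b hbA
  have hc1 : r * b * r⁻¹ ≠ 1 := fun e => hb1 (conj_eq_one_iff.1 e)
  have hne : b ≠ r * b * r⁻¹ := fun e => hr.fpf b hbA hb1 e.symm
  rcases hG.cases hbA hcA hb1 hc1 hne ha with h | h | h | h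
  · exact absurd h ha1
  · exact ⟨t, ht, h.symm⟩
  · exact ⟨t', ht', by rw [hv w hr.w_mem, h]⟩
  · refine ⟨t * t', mul_mem ht ht', ?_⟩
    rw [val_hom_left hG hw (nt_le_hgrp hG hw ht) (nt_le_hgrp hG hw ht') hw.1.mem_cw_self, hv w hr.w_mem, h]

theorem RotData.card_nt (htop : Top S A w) : Nat.card (nt S w) = 4 * Nat.card (cw S w) := by
  rw [card_nt_eq hG hw, mul_comm 4, show (valHom hG hw).range = ⊤ from
    eq_top_iff.2 fun a _ => ?_, card_top, hG.card_A]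
  obtain ⟨t, ht, h⟩ := hr.surj hG hw htop a.2
  exact ⟨⟨t, ht⟩, Subtype.ext h⟩

theorem RotData.card_cw : Nat.card (cw S w) = 4 * Nat.card Q := by
  rw [← hG.card_A, ← Nat.card_prod]
  refine (Nat.card_eq_of_bijective (fun p : A × Q => (⟨(p.1 : G) * p.2,
    mul_mem (A_le_cw hG hw.1.1 p.1.2) (hr.le p.2.2)⟩ : cw S w)) ⟨?_, fun x => ?_⟩).symm
  · rintro ⟨a, q⟩ ⟨a', q'⟩ e
    have h : (a : G) * q = a' * q' := congrArg Subtype.val e
    have h1 : (a' : G)⁻¹ * a = q' * (q : G)⁻¹ := by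
      rw [eq_mul_inv_iff_mul_eq, mul_assoc, h, inv_mul_cancel_left]
    have h2 : (a' : G)⁻¹ * a = 1 :=
      mem_bot.1 (hr.disj.le (mem_inf.2 ⟨mul_mem (inv_mem a'.2) a.2, h1 ▸ mul_mem q'.2 (inv_mem q.2)⟩))
    have h3 : a' = a := Subtype.ext (inv_mul_eq_one.1 h2)
    subst h3
    exact Prod.ext rfl (Subtype.ext (mul_left_cancel h))
  · obtain ⟨a, ha, q, hq, e⟩ := hr.dec x x.2
    exact ⟨(⟨a, ha⟩, ⟨q, hq⟩), Subtype.ext e.symm⟩

theorem RotData.card_Q_le (htop : Top S A w) : Nat.card Q ≤ 4 := by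
  obtain ⟨t, ht, htc⟩ := exists_not_cw hG hw
  rw [← hG.card_A]
  refine Nat.card_le_card_of_injective (fun q : Q => (⟨val t q, val_mem_A hG hw ht q (hr.le q.2)⟩ : A))
    fun q q' e => ?_
  have h : val t q = val t q' := congrArg Subtype.val e
  by_contra hne
  have hm := hr.le (mul_mem q.2 q'.2)
  have h1 : val t ((q : G) * q') = 1 := by
    rw [val_hom_right hG hw (nt_le_hgrp hG hw ht) (hr.le q.2) (hr.le q'.2), h]
    exact hG.setting.sq _ (val_mem_A hG hw ht q' (hr.le q'.2))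
  refine htc (fix_mem hG hw ht hm (fun hA => hne (Subtype.ext ?_)) (commute_of_val h1))
  have h2 : (q : G) * q' = 1 := mem_bot.1 (hr.disj.le (mem_inf.2 ⟨hA, mul_mem q.2 q'.2⟩))
  rw [mul_eq_one_iff_eq_inv.1 h2, inv_eq_of_mul_eq_one_right (IsMax.sq hG hw _ (hr.le q'.2))]

end CfsgLib.Gold.Rank2
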